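import Cfsg.Agent.Lib.CharTwoClass.Count

/-!
# The numerical bound

* `val` : the bound at each level, free of `q`;
* `lev_le` : `|Lev (K + 1) n s| ≤ q ^ n * val K`; `val_le` : the three limits.
-/

set_option autoImplicit false
set_option linter.unusedVariables false
set_option linter.unusedSectionVars false

open scoped Classical

namespace Cfsg.Agent.CharTwoClass

/-- The bounds at level `J`. -/
def val (ok z : Bool) : ℕ → ℚ × ℚ
  | 0 => ((if (ok && !z) = true then 3 / 2 else 1) * 2,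
      if z = true then 0 else (if (ok && !z) = true then 2 else 1) * (3 / 2))
  | J + 1 =>
    let a : ℚ := (1 / 2) ^ (2 * J + 3)
    let x : ℚ := (1 / 2) ^ (J + 2)
    let den : ℚ := (1 - 2 * a) * (1 - 2 * (x * x))
    (((1 + if z = true then 0 else a) * (val ok z J).1 + (val ok z J).2) / den,
      if z = true then 0 else (x + x * x) * (2 * (val ok z J).1 + (val ok z J).2) / den)

/-- Component by mark. -/
def sel (p : ℚ × ℚ) (s : Bool) : ℚ := if s = true then p.2 else p.1

theorem den_pos (J : ℕ) : 0 < (1 - 2 * (1 / 2 : ℚ) ^ (2 * J + 3)) * (1 - 2 * ((1 / 2) ^ (J + 2) * (1 / 2) ^ (J + 2))) := by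
  have h1 : (1 / 2 : ℚ) ^ (2 * J + 3) ≤ 1 / 8 :=
    (pow_le_pow_of_le_one (by norm_num) (by norm_num) (by omega : 3 ≤ 2 * J + 3)).trans (by norm_num)
  have h2 : (1 / 2 : ℚ) ^ (J + 2) ≤ 1 / 4 :=
    (pow_le_pow_of_le_one (by norm_num) (by norm_num) (by omega : 2 ≤ J + 2)).trans (by norm_num)
  have h3 : (0 : ℚ) ≤ (1 / 2) ^ (J + 2) := by positivity
  exact mul_pos (by linarith) (by nlinarith)

theorem val_nonneg (ok z : Bool) : ∀ J, 0 ≤ (val ok z J).1 ∧ 0 ≤ (val ok z J).2
  | 0 => by constructor <;> simp only [val] <;> split_ifs <;> norm_num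
  | J + 1 => by
    obtain ⟨h1, h2⟩ := val_nonneg ok z J
    have := (den_pos J).le
    constructor <;> simp only [val] <;> split_ifs <;> positivity

theorem geom_sum_range_le {r r₀ : ℚ} (h0 : 0 ≤ r) (hr : r ≤ r₀) (h1 : r₀ < 1) (D : ℕ) :
    ∑ m ∈ Finset.range D, r ^ m ≤ 1 / (1 - r₀) := by
  rw [le_div_iff₀ (by linarith)]
  have h := geom_sum_mul r D
  have hp : (0 : ℚ) ≤ r ^ D := pow_nonneg h0 _
  have hs : (0 : ℚ) ≤ ∑ m ∈ Finset.range D, r ^ m := Finset.sum_nonneg fun m _ => pow_nonneg h0 _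
  nlinarith

theorem sum_range_two_mul (f : ℕ → ℚ) : ∀ D, ∑ d ∈ Finset.range (2 * D), f d =
    ∑ m ∈ Finset.range D, (f (2 * m) + f (2 * m + 1))
  | 0 => by simp
  | D + 1 => by
    rw [show 2 * (D + 1) = 2 * D + 1 + 1 by ring, Finset.sum_range_succ, Finset.sum_range_succ,
      sum_range_two_mul f D, Finset.sum_range_succ]
    ring

variable {q : ℕ}

theorem sum_wOdd_le (ok s s' : Bool) {u u₀ : ℚ} (hu : 0 ≤ u) (hu' : u ≤ u₀) (hr : (q : ℚ) * u ≤ 2 * u₀)
    (h1 : 2 * u₀ < 1) (D : ℕ) :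
    ∑ m ∈ Finset.range D, (wOdd q ok s s' m : ℚ) * u ^ m ≤
      (1 + if ok = true ∧ s = false then (if s' = true then 1 else u₀) else 0) * (1 / (1 - 2 * u₀)) := by
  have hqu : (0 : ℚ) ≤ q * u := by positivity
  have hu₀ : 0 ≤ u₀ := hu.trans hu'
  have hg := geom_sum_range_le hqu hr h1 D
  have hz : (0 : ℚ) ≤ 1 / (1 - 2 * u₀) := by
    have : (0 : ℚ) < 1 - 2 * u₀ := by linarith
    positivity
  have e : ∀ m, (q ^ m : ℕ) * u ^ m = ((q : ℚ) * u) ^ m := fun m => by push_cast; rw [mul_pow]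
  have ext : ∑ m ∈ Finset.range D, ((if m = 0 then 0 else q ^ (m - 1) : ℕ) : ℚ) * u ^ m ≤ u₀ * (1 / (1 - 2 * u₀)) := by
    rcases D with - | D
    · simpa using mul_nonneg hu₀ hz
    rw [Finset.sum_range_succ']
    simp only [if_pos, Nat.cast_zero, zero_mul, add_zero, Nat.succ_ne_zero, if_false, Nat.add_sub_cancel]
    calc ∑ m ∈ Finset.range D, ((q ^ m : ℕ) : ℚ) * u ^ (m + 1)
        = u * ∑ m ∈ Finset.range D, ((q : ℚ) * u) ^ m := by
          rw [Finset.mul_sum]; exact Finset.sum_congr rfl fun m _ => by rw [← e]; ring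
      _ ≤ _ := mul_le_mul hu' (geom_sum_range_le hqu hr h1 D) (Finset.sum_nonneg fun m _ => pow_nonneg hqu _) hu₀
  unfold wOdd
  split_ifs with h h'
  · simp only [Nat.cast_add, add_mul, Finset.sum_add_distrib, e]
    linarith
  · simp only [Nat.cast_add, add_mul, Finset.sum_add_distrib, e]
    linarith
  · simp only [Nat.cast_add, Nat.cast_zero, add_zero, e]
    linarith

theorem sum_wEven_le (s' : Bool) {v v₀ : ℚ} (hv : 0 ≤ v) (hv' : v ≤ v₀) (hr : (q : ℚ) * (v * v) ≤ 2 * (v₀ * v₀))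
    (h1 : 2 * (v₀ * v₀) < 1) (D : ℕ) :
    ∑ d ∈ Finset.range D, (wEven q s' d : ℚ) * v ^ d ≤
      (if s' = true then v₀ + v₀ * v₀ else 1) * (1 / (1 - 2 * (v₀ * v₀))) := by
  refine (Finset.sum_le_sum_of_subset_of_nonneg (Finset.range_subset_range.2 (by omega : D ≤ 2 * D))
    fun d _ _ => by positivity).trans ?_
  rw [sum_range_two_mul]
  have hqv : (0 : ℚ) ≤ q * (v * v) := by positivity
  have hg := geom_sum_range_le hqv hr h1 D
  have hv₀ : 0 ≤ v₀ := hv.trans hv'
  have hs : (0 : ℚ) ≤ ∑ m ∈ Finset.range D, ((q : ℚ) * (v * v)) ^ m := Finset.sum_nonneg fun m _ => pow_nonneg hqv _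
  have em : ∀ m, v ^ (2 * m) = (v * v) ^ m := fun m => by rw [pow_mul, sq]
  cases s' with
  | false =>
    refine le_trans (le_of_eq (Finset.sum_congr rfl fun m _ => ?_)) (by simpa using hg)
    simp only [wEven, Bool.false_eq_true, if_false, show 2 * m % 2 = 0 by omega, if_true,
      show (2 * m + 1) % 2 ≠ 0 by omega, show 2 * m / 2 = m by omega, Nat.cast_zero, zero_mul, add_zero, em]
    push_cast
    rw [mul_pow (q : ℚ)]
  | true =>
    simp only [if_true]
    refine le_trans (le_of_eq (Finset.sum_congr rfl (g := fun m => ((if m = 0 then 0 else q ^ (m - 1) : ℕ) : ℚ) *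
      (v * v) ^ m + v * ((q : ℚ) * (v * v)) ^ m) fun m _ => ?_)) ?_
    · simp only [wEven, if_true, show 2 * m % 2 ≠ 1 by omega, if_false, show (2 * m + 1) % 2 = 1 by omega,
        show 2 * m / 2 = m by omega, show (2 * m + 1) / 2 = m by omega, pow_succ, em, show (2 * m = 0) = (m = 0) by simp]
      push_cast
      rw [mul_pow (q : ℚ)]
      ring
    rw [Finset.sum_add_distrib, ← Finset.mul_sum]
    have h2 : ∑ m ∈ Finset.range D, ((if m = 0 then 0 else q ^ (m - 1) : ℕ) : ℚ) * (v * v) ^ m ≤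
        v₀ * v₀ * (1 / (1 - 2 * (v₀ * v₀))) := by
      rcases D with - | D
      · simp only [Finset.range_zero, Finset.sum_empty]
        have : (0 : ℚ) < 1 - 2 * (v₀ * v₀) := by linarith
        positivity
      rw [Finset.sum_range_succ']
      simp only [if_pos, Nat.cast_zero, zero_mul, add_zero, Nat.succ_ne_zero, if_false, Nat.add_sub_cancel]
      calc ∑ m ∈ Finset.range D, ((q ^ m : ℕ) : ℚ) * (v * v) ^ (m + 1)
          = (v * v) * ∑ m ∈ Finset.range D, ((q : ℚ) * (v * v)) ^ m := by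
            rw [Finset.mul_sum]
            exact Finset.sum_congr rfl fun m _ => by push_cast; rw [mul_pow (q : ℚ)]; ring
        _ ≤ _ := mul_le_mul (mul_le_mul hv' hv' hv hv₀) (geom_sum_range_le hqv hr h1 D)
              (Finset.sum_nonneg fun m _ => pow_nonneg hqv _) (mul_nonneg hv₀ hv₀)
    have h3 := mul_le_mul hv' hg hs hv₀
    linarith

variable {F : Type*} [Field F] [CharP F 2] [Finite F]

theorem two_le_card_field : 2 ≤ Nat.card F := Finite.one_lt_card

theorem lev_one_le (ok z : Bool) (n : ℕ) (s' : Bool) :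
    ((Lev (F := F) ok z 1 n s').ncard : ℚ) ≤ (Nat.card F : ℚ) ^ n * sel (val ok z 0) s' := by
  set q := Nat.card F
  have hq : (2 : ℚ) ≤ q := by exact_mod_cast two_le_card_field (F := F)
  have hq0 : (0 : ℚ) < q := by linarith
  have hstep := (ncard_lev_step (F := F) ok z 0 n s' fun k t => lev_finite ok z 0 k t).2
  split_ifs at hstep with hz
  · rw [Nat.le_zero.1 hstep]
    simp [sel, val, hz.1, hz.2]
  set o := (ok || decide ((0 : ℕ) ≠ 0)) && !z with ho
  have hoe : o = (ok && !z) := by simp [o]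
  set c₁ : ℚ := (if o = true then (if s' = true then 2 else 3 / 2) else 1) with hc₁
  have hb1 : ∀ m, (wOdd q o false s' m : ℚ) ≤ c₁ * (q : ℚ) ^ m := fun m => by
    have hqm : (0 : ℚ) ≤ (q : ℚ) ^ m := by positivity
    simp only [wOdd, c₁, and_true]
    split_ifs with h1 h2 h3
    · push_cast; linarith
    · push_cast; linarith
    · obtain ⟨k, rfl⟩ : ∃ k, m = k + 1 := ⟨m - 1, by omega⟩
      push_cast [Nat.add_sub_cancel]
      have := mul_le_mul_of_nonneg_left hq (pow_nonneg hq0.le k)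
      rw [pow_succ]; linarith
    · push_cast; linarith
  have hy : ((q : ℚ))⁻¹ ≤ 1 / 2 := by rw [one_div]; exact inv_anti₀ two_pos hq
  have hy0 : (0 : ℚ) ≤ ((q : ℚ))⁻¹ := inv_nonneg.2 hq0.le
  have hy2 : (q : ℚ) * ((q : ℚ)⁻¹ * (q : ℚ)⁻¹) ≤ 2 * (1 / 2 * (1 / 2)) := by
    rw [← mul_assoc, mul_inv_cancel₀ hq0.ne', one_mul]; linarith
  have he := sum_wEven_le (q := q) s' hy0 hy hy2 (by norm_num) (n + 1)
  have key : ∀ x ∈ stepIdx 0 n, ((wOdd q o x.1 s' x.2.1 * wEven q s' x.2.2 *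
      (Lev (F := F) ok z 0 (n - ((2 * 0 + 1) * x.2.1 + (0 + 1) * x.2.2)) x.1).ncard : ℕ) : ℚ) ≤
      if x.1 = false ∧ x.2.1 = n - x.2.2 then (q : ℚ) ^ n * c₁ * ((wEven q s' x.2.2 : ℚ) * ((q : ℚ)⁻¹) ^ x.2.2) else 0 := by
    rintro ⟨s, m, d⟩ hx
    simp only [stepIdx, Finset.mem_filter, Finset.mem_product, Finset.mem_univ, Finset.mem_range, true_and] at hx
    have hl := (lev_zero (F := F) ok z (n - ((2 * 0 + 1) * m + (0 + 1) * d)) s).2
    by_cases h : n - ((2 * 0 + 1) * m + (0 + 1) * d) = 0 ∧ s = false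
    · rw [if_pos h] at hl
      obtain ⟨h, rfl⟩ := h
      have hmd : m = n - d := by omega
      rw [if_pos ⟨rfl, hmd⟩]
      refine (Nat.cast_le.2 (Nat.mul_le_mul le_rfl hl)).trans ?_
      push_cast
      rw [mul_one]
      have e1 : (q : ℚ) ^ n * ((q : ℚ)⁻¹) ^ d = (q : ℚ) ^ m := by
        rw [show n = m + d by omega, pow_add, mul_assoc, ← mul_pow, mul_inv_cancel₀ hq0.ne', one_pow, mul_one]
      calc (wOdd q o false s' m : ℚ) * (wEven q s' d : ℚ) ≤ c₁ * (q : ℚ) ^ m * wEven q s' d :=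
            mul_le_mul_of_nonneg_right (hb1 m) (by positivity)
        _ = _ := by rw [← e1]; ring
    · rw [if_neg h] at hl
      rw [Nat.le_zero.1 hl, mul_zero, Nat.cast_zero]
      split_ifs with h'
      · simp only [c₁]; split_ifs <;> positivity
      · exact le_rfl
  calc ((Lev (F := F) ok z 1 n s').ncard : ℚ)
      ≤ ∑ x ∈ stepIdx 0 n, ((wOdd q o x.1 s' x.2.1 * wEven q s' x.2.2 *
          (Lev (F := F) ok z 0 (n - ((2 * 0 + 1) * x.2.1 + (0 + 1) * x.2.2)) x.1).ncard : ℕ) : ℚ) := by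
        rw [← Nat.cast_sum]; exact_mod_cast hstep
    _ ≤ ∑ x ∈ Finset.univ ×ˢ (Finset.range (n + 1) ×ˢ Finset.range (n + 1)),
          if x.1 = false ∧ x.2.1 = n - x.2.2 then (q : ℚ) ^ n * c₁ * ((wEven q s' x.2.2 : ℚ) * ((q : ℚ)⁻¹) ^ x.2.2)
          else 0 := by
        refine (Finset.sum_le_sum key).trans (Finset.sum_le_sum_of_subset_of_nonneg (Finset.filter_subset _ _) ?_)
        intro x _ _
        simp only [c₁]
        split_ifs <;> positivity
    _ = (q : ℚ) ^ n * c₁ * ∑ d ∈ Finset.range (n + 1), (wEven q s' d : ℚ) * ((q : ℚ)⁻¹) ^ d := by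
        rw [Finset.sum_product, Fintype.sum_bool]
        simp only [false_and, if_false, Finset.sum_const_zero, zero_add, true_and, Bool.true_eq_false]
        rw [Finset.sum_product_right, Finset.mul_sum]
        refine Finset.sum_congr rfl fun d hd => ?_
        dsimp only
        rw [Finset.sum_ite_eq' (Finset.range (n + 1)), if_pos (Finset.mem_range.2 (by omega))]
    _ ≤ (q : ℚ) ^ n * c₁ * ((if s' = true then 1 / 2 + 1 / 2 * (1 / 2) else 1) * (1 / (1 - 2 * (1 / 2 * (1 / 2))))) := by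
        refine mul_le_mul_of_nonneg_left he ?_
        simp only [c₁]; split_ifs <;> positivity
    _ = _ := by
        rw [mul_assoc]
        congr 1
        simp only [c₁, hoe, sel, val]
        cases s' <;> cases ok <;> cases z <;> simp_all <;> norm_num

theorem lev_le (ok z : Bool) : ∀ (J n : ℕ) (s : Bool),
    ((Lev (F := F) ok z (J + 1) n s).ncard : ℚ) ≤ (Nat.card F : ℚ) ^ n * sel (val ok z J) s
  | 0, n, s => lev_one_le ok z n s
  | J + 1, n, s' => by
    have hstep := (ncard_lev_step (F := F) ok z (J + 1) n s' fun k t => lev_finite ok z (J + 1) k t).2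
    split_ifs at hstep with hz
    · rw [Nat.le_zero.1 hstep]
      simp [sel, val, hz.1, hz.2]
    set q := Nat.card F
    have hq : (2 : ℚ) ≤ q := by exact_mod_cast two_le_card_field (F := F)
    have hq0 : (0 : ℚ) < q := by linarith
    set y : ℚ := (q : ℚ)⁻¹ with hy
    have hy1 : y ≤ 1 / 2 := by rw [one_div]; exact inv_anti₀ two_pos hq
    have hy0 : 0 ≤ y := inv_nonneg.2 hq0.le
    have hqy : (q : ℚ) * y = 1 := mul_inv_cancel₀ hq0.ne'
    have ho : ((ok || decide (J + 1 ≠ 0)) && !z) = !z := by simp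
    rw [ho] at hstep
    set u := y ^ (2 * J + 3)
    set v := y ^ (J + 2)
    set u₀ : ℚ := (1 / 2) ^ (2 * J + 3) with hu₀
    set v₀ : ℚ := (1 / 2) ^ (J + 2) with hv₀
    have hu : u ≤ u₀ := pow_le_pow_left₀ hy0 hy1 _
    have hv : v ≤ v₀ := pow_le_pow_left₀ hy0 hy1 _
    have hr1 : (q : ℚ) * u ≤ 2 * u₀ := by
      rw [show u = y * y ^ (2 * J + 2) from pow_succ' y _, ← mul_assoc, hqy, one_mul, hu₀, pow_succ' (1 / 2 : ℚ) (2 * J + 2)]
      have := pow_le_pow_left₀ hy0 hy1 (2 * J + 2)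
      linarith
    have hr2 : (q : ℚ) * (v * v) ≤ 2 * (v₀ * v₀) := by
      have e1 : ∀ t : ℚ, t ^ (J + 2) * t ^ (J + 2) = t * t ^ (2 * J + 3) := fun t => by
        rw [← pow_add, ← pow_succ']; congr 1; omega
      rw [e1, ← mul_assoc, hqy, one_mul, hv₀, e1]
      have := pow_le_pow_left₀ hy0 hy1 (2 * J + 3)
      linarith
    have hl1 : 2 * u₀ < 1 := by
      have : u₀ ≤ 1 / 8 := (pow_le_pow_of_le_one (by norm_num) (by norm_num) (by omega : 3 ≤ 2 * J + 3)).trans (by norm_num)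
      linarith
    have hl2 : 2 * (v₀ * v₀) < 1 := by
      have h4 : v₀ ≤ 1 / 4 := (pow_le_pow_of_le_one (by norm_num) (by norm_num) (by omega : 2 ≤ J + 2)).trans (by norm_num)
      have h5 : 0 ≤ v₀ := by positivity
      nlinarith
    obtain ⟨hF, hT⟩ := val_nonneg ok z J
    have hsel : ∀ s, 0 ≤ sel (val ok z J) s := fun s => by cases s <;> simpa [sel]
    set N := Finset.range (n + 1)
    calc ((Lev (F := F) ok z (J + 1 + 1) n s').ncard : ℚ)
        ≤ ∑ x ∈ stepIdx (J + 1) n, ((wOdd q (!z) x.1 s' x.2.1 * wEven q s' x.2.2 *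
          (Lev (F := F) ok z (J + 1) (n - ((2 * (J + 1) + 1) * x.2.1 + (J + 1 + 1) * x.2.2)) x.1).ncard : ℕ) : ℚ) := by
          rw [← Nat.cast_sum]; exact_mod_cast hstep
      _ ≤ ∑ x ∈ stepIdx (J + 1) n, (q : ℚ) ^ n * (sel (val ok z J) x.1 *
          (((wOdd q (!z) x.1 s' x.2.1 : ℚ) * u ^ x.2.1) * ((wEven q s' x.2.2 : ℚ) * v ^ x.2.2))) := by
          refine Finset.sum_le_sum fun x hx => ?_
          simp only [stepIdx, Finset.mem_filter] at hx
          push_cast
          refine (mul_le_mul_of_nonneg_left (lev_le ok z J _ x.1) (by positivity)).trans (le_of_eq ?_)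
          have e1 : (q : ℚ) ^ (n - ((2 * (J + 1) + 1) * x.2.1 + (J + 1 + 1) * x.2.2)) =
              (q : ℚ) ^ n * (u ^ x.2.1 * v ^ x.2.2) := by
            rw [← pow_mul, ← pow_mul, ← pow_add, hy, inv_pow, pow_sub₀ _ hq0.ne' hx.2,
              show (2 * J + 3) * x.2.1 + (J + 2) * x.2.2 = (2 * (J + 1) + 1) * x.2.1 + (J + 1 + 1) * x.2.2 by ring]
          rw [e1]; ring
      _ ≤ ∑ x ∈ Finset.univ ×ˢ (N ×ˢ N), (q : ℚ) ^ n * (sel (val ok z J) x.1 *
          (((wOdd q (!z) x.1 s' x.2.1 : ℚ) * u ^ x.2.1) * ((wEven q s' x.2.2 : ℚ) * v ^ x.2.2))) :=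
          Finset.sum_le_sum_of_subset_of_nonneg (Finset.filter_subset _ _) fun x _ _ => by
            have := hsel x.1; positivity
      _ = (q : ℚ) ^ n * ∑ s : Bool, sel (val ok z J) s *
          ((∑ m ∈ N, (wOdd q (!z) s s' m : ℚ) * u ^ m) * ∑ d ∈ N, (wEven q s' d : ℚ) * v ^ d) := by
          rw [Finset.sum_product, Finset.mul_sum]
          refine Finset.sum_congr rfl fun s _ => ?_
          rw [Finset.sum_product, Finset.sum_mul_sum]
          simp only [Finset.mul_sum]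
      _ ≤ (q : ℚ) ^ n * ∑ s : Bool, sel (val ok z J) s *
          (((1 + if (!z) = true ∧ s = false then (if s' = true then 1 else u₀) else 0) * (1 / (1 - 2 * u₀))) *
            ((if s' = true then v₀ + v₀ * v₀ else 1) * (1 / (1 - 2 * (v₀ * v₀))))) := by
          refine mul_le_mul_of_nonneg_left (Finset.sum_le_sum fun s _ => mul_le_mul_of_nonneg_left ?_ (hsel s))
            (by positivity)
          refine mul_le_mul (sum_wOdd_le _ s s' (by positivity) hu hr1 hl1 _)
            (sum_wEven_le s' (by positivity) hv hr2 hl2 _) (Finset.sum_nonneg fun d _ => by positivity) ?_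
          have : (0 : ℚ) < 1 - 2 * u₀ := by linarith
          have : (0 : ℚ) ≤ u₀ := by positivity
          split_ifs <;> positivity
      _ = _ := by
          have h1 : (1 - 2 * u₀) ≠ 0 := by linarith
          have h2 : (1 - 2 * (v₀ * v₀)) ≠ 0 := by linarith
          congr 1
          rw [Fintype.sum_bool]
          simp only [sel, val, ← hu₀, ← hv₀]
          generalize u₀ = a at h1 ⊢
          generalize v₀ = x at h2 ⊢
          have key : ∀ A B C : ℚ, A * (1 / (1 - 2 * a) * (C * (1 / (1 - 2 * (x * x))))) = A * C / ((1 - 2 * a) * (1 - 2 * (x * x))) :=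
            fun A B C => by field_simp
          cases s' <;> cases z <;>
            simp only [Bool.not_false, Bool.not_true, Bool.false_eq_true, if_true, if_false, true_and, false_and,
              Bool.true_eq_false, and_false, and_true, add_zero, not_true_eq_false] at hz ⊢ <;>
            field_simp <;> ring

theorem tail_le (ok z : Bool) {Bd : ℚ}
    (h : (val ok z 10).1 + (val ok z 10).2 ≤ Bd * (1 - 6 / 5 * (1 / 2) ^ 10)) :
    ∀ J, 10 ≤ J → (val ok z J).1 + (val ok z J).2 ≤ Bd * (1 - 6 / 5 * (1 / 2) ^ J) := by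
  intro J hJ
  induction J, hJ using Nat.le_induction with
  | base => exact h
  | succ J hJ ih =>
    obtain ⟨hF, hT⟩ := val_nonneg ok z J
    set t : ℚ := (1 / 2) ^ J with ht
    have ht0 : 0 ≤ t := by positivity
    have ht1 : t ≤ 1 / 1024 := (pow_le_pow_of_le_one (by norm_num) (by norm_num) hJ).trans (by norm_num)
    have ea : (1 / 2 : ℚ) ^ (2 * J + 3) = t * t / 8 := by rw [ht, pow_add, two_mul, pow_add]; ring
    have ex : (1 / 2 : ℚ) ^ (J + 2) = t / 4 := by rw [ht, pow_add]; ring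
    have hden : 0 < (1 - 2 * (t * t / 8)) * (1 - 2 * (t / 4 * (t / 4))) := by
      have := den_pos J; rwa [ea, ex] at this
    have hBd : 0 ≤ Bd := by
      by_contra hneg
      nlinarith [mul_pos (neg_pos.2 (not_le.1 hneg)) (show (0 : ℚ) < 1 - 6 / 5 * t by linarith)]
    have hS : (val ok z (J + 1)).1 + (val ok z (J + 1)).2 ≤
        (1 + t / 2 + t * t / 4) * ((val ok z J).1 + (val ok z J).2) /
          ((1 - 2 * (t * t / 8)) * (1 - 2 * (t / 4 * (t / 4)))) := by
      simp only [val, ea, ex]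
      split_ifs <;> simp only [← add_div, add_zero] <;> refine (div_le_div_iff_of_pos_right hden).2 ?_ <;>
        nlinarith [mul_nonneg ht0 hF, mul_nonneg ht0 hT, mul_nonneg (mul_nonneg ht0 ht0) hF,
          mul_nonneg (mul_nonneg ht0 ht0) hT]
    refine hS.trans ?_
    rw [div_le_iff₀ hden, show (1 / 2 : ℚ) ^ (J + 1) = t / 2 by rw [ht, pow_succ]; ring]
    have key : (1 + t / 2 + t * t / 4) * (1 - 6 / 5 * t) ≤
        (1 - 6 / 5 * (t / 2)) * ((1 - 2 * (t * t / 8)) * (1 - 2 * (t / 4 * (t / 4)))) := by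
      nlinarith [mul_nonneg ht0 (mul_nonneg ht0 ht0), mul_nonneg (mul_nonneg ht0 ht0) (mul_nonneg ht0 ht0)]
    calc (1 + t / 2 + t * t / 4) * ((val ok z J).1 + (val ok z J).2)
        ≤ (1 + t / 2 + t * t / 4) * (Bd * (1 - 6 / 5 * t)) := mul_le_mul_of_nonneg_left ih (by positivity)
      _ ≤ Bd * ((1 - 6 / 5 * (t / 2)) * ((1 - 2 * (t * t / 8)) * (1 - 2 * (t / 4 * (t / 4))))) := by
          calc _ = Bd * ((1 + t / 2 + t * t / 4) * (1 - 6 / 5 * t)) := by ring
            _ ≤ _ := mul_le_mul_of_nonneg_left key hBd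
      _ = _ := by ring

theorem val_le : ∀ J, 10 ≤ J → ((val false false J).1 + (val false false J).2 ≤ 76 / 5) ∧
    ((val true false J).1 + (val true false J).2 ≤ 128 / 5) ∧
    ((val false true J).1 + (val false true J).2 ≤ 7 / 2) := by
  intro J hJ
  have ht : (0 : ℚ) ≤ (1 / 2) ^ J := by positivity
  refine ⟨(tail_le false false (Bd := 76 / 5) ?_ J hJ).trans (by linarith),
    (tail_le true false (Bd := 128 / 5) ?_ J hJ).trans (by linarith),
    (tail_le false true (Bd := 7 / 2) ?_ J hJ).trans (by linarith)⟩ <;>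
    norm_num [val]

end Cfsg.Agent.CharTwoClass
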