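import Cfsg.Agent.Lib.CharTwoClass.Gauss

/-!
# Classification of unipotent isometries in characteristic two

`classified` : a system is determined up to isometry by `c`, `mult`, `Eps` and a sequence of bits, and these
data satisfy `Adm`.
-/

set_option autoImplicit false
set_option linter.unusedVariables false
set_option linter.unusedSectionVars false

open Polynomial

namespace Cfsg.Agent.CharTwoClass

universe u v w

variable {F : Type u} [Field F] [CharP F 2] {V : Type v} [AddCommGroup V] [Module F V]
  {V' : Type w} [AddCommGroup V'] [Module F V']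

namespace Sys

variable (S : Sys F V)

/-- Transport. -/
noncomputable def map (θ : V ≃ₗ[F] V') : Sys F V' where
  B := S.B.compl₁₂ θ.symm.toLinearMap θ.symm.toLinearMap
  N := θ.toLinearMap ∘ₗ S.N ∘ₗ θ.symm.toLinearMap
  c := S.c
  q v := S.q (θ.symm v)
  alt v := S.alt _
  nd v h := θ.symm.injective (by
    rw [map_zero]
    exact S.nd _ fun w => by simpa using h (θ w))
  inv v w := by
    show S.B (θ.symm (v + θ (S.N (θ.symm v)))) (θ.symm (w + θ (S.N (θ.symm w)))) = S.B (θ.symm v) (θ.symm w)
    simp [map_add]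
    simpa [map_add] using S.inv (θ.symm v) (θ.symm w)
  nil := by
    obtain ⟨k, hk⟩ := S.nil
    refine ⟨k, ?_⟩
    have : ∀ i (v : V'), ((θ.toLinearMap ∘ₗ S.N ∘ₗ θ.symm.toLinearMap : Module.End F V') ^ i) v =
        θ ((S.N ^ i) (θ.symm v)) := fun i => by
      induction i with
      | zero => simp
      | succ i ih => intro v; rw [pow_succ', Module.End.mul_apply, ih, pow_succ']; simp
    ext v
    rw [this, hk]
    simp
  cq := S.cq.imp id fun h => ⟨h.1, fun v => h.2 _⟩
  q_add v w := by
    show S.q (θ.symm (v + w)) = _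
    rw [map_add, S.q_add]
    rfl
  q_smul a v := by rw [map_smul, S.q_smul]
  q_inv v := by
    show S.q (θ.symm (v + θ (S.N (θ.symm v)))) = _
    rw [map_add, θ.symm_apply_apply, S.q_inv]

theorem map_iso (θ : V ≃ₗ[F] V') : Iso S (S.map θ) :=
  ⟨θ, fun v => by simp [map], fun v w => by simp [map], fun v => by simp [map]⟩

end Sys

section Inv

variable {S : Sys F V} {S' : Sys F V'} {θ : V ≃ₗ[F] V'}

theorem equiv_npow (hN : ∀ v, θ (S.N v) = S'.N (θ v)) (k : ℕ) (v : V) : θ ((S.N ^ k) v) = (S'.N ^ k) (θ v) := by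
  induction k with
  | zero => rfl
  | succ k ih => rw [pow_succ', pow_succ', Module.End.mul_apply, Module.End.mul_apply, hN, ih]

theorem equiv_Tpow (hN : ∀ v, θ (S.N v) = S'.N (θ v)) (r : ℕ) (v : V) : θ ((S.T ^ r) v) = (S'.T ^ r) (θ v) := by
  obtain ⟨k, hk⟩ := S.nil
  obtain ⟨k', hk'⟩ := S'.nil
  have hR : ∀ v, θ (S.R v) = S'.R (θ v) := fun v => by
    refine ((Module.End.isUnit_iff _).1 S'.isUnit_one_add).1 ?_
    rw [← Module.End.mul_apply (1 + S'.N), S'.one_add_mul_R]
    show θ (S.R v) + S'.N (θ (S.R v)) = θ v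
    rw [← hN, ← map_add]
    exact congrArg θ (LinearMap.congr_fun S.one_add_mul_R v)
  induction r with
  | zero => rfl
  | succ r ih =>
    rw [pow_succ', pow_succ', Module.End.mul_apply, Module.End.mul_apply, ← ih]
    show θ (S.N (S.N (S.R _))) = S'.N (S'.N (S'.R _))
    rw [hN, hN, hR]

variable [FiniteDimensional F V] [FiniteDimensional F V']

theorem Iso.lay_eq (h : Iso S S') (j : ℕ) : S'.lay j = S.lay j := by
  obtain ⟨θ, hN, -, -⟩ := h
  have : S'.layer j = (S.layer j).map θ.toLinearMap := by
    ext v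
    constructor
    · intro hv
      obtain ⟨h0, w, rfl⟩ := S'.mem_layer.1 hv
      refine ⟨(S.N ^ j) (θ.symm w), S.mem_layer.2 ⟨θ.injective ?_, _, rfl⟩, ?_⟩
      · rw [hN, equiv_npow hN, θ.apply_symm_apply, h0, map_zero]
      · rw [LinearEquiv.coe_coe, equiv_npow hN, θ.apply_symm_apply]
    · rintro ⟨u, hu, rfl⟩
      obtain ⟨h0, w, rfl⟩ := S.mem_layer.1 hu
      refine S'.mem_layer.2 ⟨?_, θ w, (equiv_npow hN j w).symm⟩
      rw [LinearEquiv.coe_coe, ← hN, h0, map_zero]
  rw [Sys.lay, this, Sys.lay, LinearEquiv.finrank_map_eq]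

theorem Iso.mult_eq (h : Iso S S') (j : ℕ) : S'.mult j = S.mult j := by
  simp only [Sys.mult, h.lay_eq]

theorem Iso.eps_mono (h : Iso S S') {j : ℕ} : S.Eps j → S'.Eps j := by
  obtain ⟨θ, hN, hB, -⟩ := h
  rintro ⟨y, hy, hd⟩
  refine ⟨θ y, by rw [← equiv_npow hN, hy, map_zero], ?_⟩
  show S'.B ((S'.T ^ j) (S'.N (θ y))) (θ y) ≠ 0
  rw [← hN, ← equiv_Tpow hN, hB]
  exact hd

theorem Iso.eps_iff (h : Iso S S') (j : ℕ) : S'.Eps j ↔ S.Eps j := ⟨h.symm.eps_mono, h.eps_mono⟩

end Inv

/-- The conditions met by the invariants. -/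
structure Adm (S : Sys F V) (bits : ℕ → Bool) : Prop where
  eps : ∀ j, S.Eps j → 0 < S.mult (2 * j + 2)
  odd : ∀ j, Odd (S.mult (2 * j + 2)) → S.Eps j
  even : ∀ j, Even (S.mult (2 * j + 1))
  bit : ∀ j, bits j = true →
    S.kap j = 1 ∧ (0 < S.mult (2 * j + 1) ∨ S.Eps j) ∧ (0 < j → ¬ S.Eps (j - 1))

namespace Sys

variable {S : Sys F V} {m e : ℕ} {xs : Fin m → V}

theorem not_eps_high (hN : S.N ^ e = 0) {j : ℕ} (h : e < 2 * j + 2) : ¬ S.Eps j := fun ⟨y, _, hy⟩ =>
  hy (S.dl_eq_zero (e := e) (by rw [hN]; rfl) (by omega))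

variable [FiniteDimensional F V]

theorem lay_high (hN : S.N ^ e = 0) {j : ℕ} (h : e ≤ j) : S.lay j = 0 := by
  rw [lay, show S.layer j = ⊥ from eq_bot_iff.2 fun v hv => by
    obtain ⟨-, w, rfl⟩ := S.mem_layer.1 hv
    rw [S.pow_zero_of_le h (by rw [hN]; rfl)]; exact zero_mem _, finrank_bot]

theorem mult_high (hN : S.N ^ e = 0) {j : ℕ} (h : e < j) : S.mult j = 0 := by
  rw [mult, if_neg (by omega), S.lay_high hN (show e ≤ j - 1 by omega)]
  omega

/-- The rank of the complement. -/
theorem finrank_perp (hx : S.TopUnit xs e) :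
    Module.finrank F (LinearMap.range (S.span xs)) + Module.finrank F (S.perp xs) = Module.finrank F V := by
  have h1 : LinearMap.range (S.span xs) ⊓ S.perp xs = ⊥ := eq_bot_iff.2 fun v ⟨hv, hv'⟩ => by
    obtain ⟨p, rfl⟩ := hv
    rw [S.span_mem_perp hx hv']; exact zero_mem _
  have h2 : LinearMap.range (S.span xs) ⊔ S.perp xs = ⊤ := eq_top_iff.2 fun v _ => by
    obtain ⟨p, z, hz, rfl⟩ := S.exists_decomp hx v
    exact Submodule.add_mem_sup ⟨p, rfl⟩ hz
  have := Submodule.finrank_sup_add_finrank_inf_eq (LinearMap.range (S.span xs)) (S.perp xs)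
  rw [h1, h2, finrank_bot, finrank_top, add_zero] at this
  exact this.symm

theorem finrank_perp_eq [FiniteDimensional F V'] {S' : Sys F V'} {m' : ℕ} {xs' : Fin m' → V'} (hm : m' = m)
    (hx : S.TopUnit xs e) (hx' : S'.TopUnit xs' e) (hd : Module.finrank F V' = Module.finrank F V) :
    Module.finrank F (S'.perp xs') = Module.finrank F (S.perp xs) := by
  subst hm
  have hk : LinearMap.ker (S'.span xs') = LinearMap.ker (S.span xs) := by
    ext p; simp only [LinearMap.mem_ker, S.span_eq_zero_iff hx, S'.span_eq_zero_iff hx']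
  have := ((S'.span xs').quotKerEquivRange.symm.trans
    ((Submodule.quotEquivOfEq _ _ hk).trans (S.span xs).quotKerEquivRange)).finrank_eq
  have h1 := finrank_perp hx
  have h2 := finrank_perp hx'
  omega

variable [Finite F]

theorem eps_of_compl (hx : S.TopUnit xs e) {j : ℕ} (h : (S.compl hx).Eps j) : S.Eps j := by
  obtain ⟨z, h1, h2⟩ := h
  exact ⟨z, S.compl_npow hx h1, by rwa [S.compl_dl] at h2⟩

theorem Form.arity {b : Bool} (hf : S.Form e xs b) :
    ((∃ j, e = 2 * j + 2 ∧ S.Eps j) → m = 1) ∧ (¬ (∃ j, e = 2 * j + 2 ∧ S.Eps j) → m = 2) := by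
  cases hf with
  | top h x b hE hd => exact ⟨fun _ => rfl, fun hn => absurd ⟨h, by omega, hE⟩ hn⟩
  | even h x y hE =>
    exact ⟨fun ⟨j, hj, hj'⟩ => absurd (show j = h by omega ▸ hj') hE, fun _ => rfl⟩
  | odd h x y => exact ⟨fun ⟨j, hj, _⟩ => absurd hj (by omega), fun _ => rfl⟩

theorem Form.glue' [FiniteDimensional F V'] {S' : Sys F V'} {m' e' : ℕ} {xs' : Fin m' → V'} {b b' : Bool}
    (hc : S'.c = S.c) (hE : ∀ j, S'.Eps j ↔ S.Eps j) (he : e' = e) (hb : b' = b) (hf : S.Form e xs b)
    (hf' : S'.Form e' xs' b') (hx : S.TopUnit xs e) (hx' : S'.TopUnit xs' e')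
    (hi : Iso (S.compl hx) (S'.compl hx')) : Iso S S' := by
  subst he hb
  exact hf.glue hc hE hf' hx hx' hi

theorem Form.spanGauss_eq' [FiniteDimensional F V'] {S' : Sys F V'} {m' e' : ℕ} {xs' : Fin m' → V'} {b b' : Bool}
    (hc : S'.c = S.c) (hE : ∀ j, S'.Eps j ↔ S.Eps j) (he : e' = e) (hb : b' = b) (hf : S.Form e xs b)
    (hf' : S'.Form e' xs' b') (hx : S.TopUnit xs e) (hx' : S'.TopUnit xs' e') :
    S'.spanGauss xs' = S.spanGauss xs := by
  subst he hb
  generalize he' : e' = e'' at hf'
  cases hf with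
  | top h x b hS hd =>
    cases hf' with
    | top h' x' b hS' hd' =>
      obtain rfl : h' = h := by omega
      exact (same_one hc fun r => by rw [hd, hd']).spanGauss_eq hx hx'
    | even h' x' y' hS' =>
      obtain rfl : h' = h := by omega
      exact absurd ((hE h').2 hS) hS'
    | odd h' x' y' => omega
  | even h x y hS h1 h2 h3 h4 =>
    cases hf' with
    | top h' x' b hS' hd' =>
      obtain rfl : h' = h := by omega
      exact absurd ((hE h').1 hS') hS
    | even h' x' y' hS' h1' h2' h3' h4' =>
      obtain rfl : h' = h := by omega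
      exact (same_two hc (fun r => by rw [h1, h1']) (fun r => by rw [h2, h2'])
        (fun r => by rw [h3, h3']) fun r => by rw [h4, h4']).spanGauss_eq hx hx'
    | odd h' x' y' => omega
  | odd h x y b h1 h2 h3 h4 =>
    cases hf' with
    | top => omega
    | even => omega
    | odd h' x' y' b h1' h2' h3' h4' =>
      obtain rfl : h' = h := by omega
      exact (same_two hc (fun r => by rw [h1, h1']) (fun r => by rw [h2, h2'])
        (fun r => by rw [h3, h3']) fun r => by rw [h4, h4']).spanGauss_eq hx hx'

theorem Form.gauss_flip' [FiniteDimensional F V'] {S' : Sys F V'} {m' e' : ℕ} {xs' : Fin m' → V'} {b b' : Bool}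
    (hc : S.c = 1) (hc' : S'.c = 1) (hE : ∀ j, S'.Eps j ↔ S.Eps j) (he : e' = e) (hb : b = true) (hb' : b' = false)
    (hf : S.Form e xs b) (hf' : S'.Form e' xs' b') (hx : S.TopUnit xs e) (hx' : S'.TopUnit xs' e') :
    ∃ k k' : ℕ, 0 < k ∧ 0 < k' ∧ S.spanGauss xs = -(k : ℤ) ∧ S'.spanGauss xs' = k' := by
  subst he hb hb'
  exact hf.gauss_flip hc hc' hE hf' hx hx'

/-- What a choice at the top gives. -/
structure Reduct (S : Sys F V) (e : ℕ) (xs : Fin m → V) (b : Bool) : Prop where
  nil : S.N ^ e = 0
  top : 0 < S.mult e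
  top_unit : S.TopUnit xs e
  form : S.Form e xs b
  free : b = true → S.Free e ∧ S.kap ((e - 1) / 2) = 1 ∧
    (0 < (e - 1) / 2 → ¬ S.Eps ((e - 1) / 2 - 1))
  keep : ∀ j, e = 2 * j + 2 → S.Eps j → 2 ≤ S.mult e → (S.compl top_unit).Eps j

variable {b : Bool} (hr : S.Reduct e xs b)
include hr

theorem Reduct.eps_compl {bits : ℕ → Bool} (ha : Adm (S.compl hr.top_unit) bits) (j : ℕ) :
    (S.compl hr.top_unit).Eps j ↔ S.Eps j ∧ (e = 2 * j + 2 → 2 ≤ S.mult e) := by
  refine ⟨fun h => ⟨S.eps_of_compl _ h, fun hj => ?_⟩, fun ⟨h, h2⟩ => ?_⟩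
  · have h1 := S.mult_split hr.top_unit e
    rw [if_pos rfl] at h1
    have h2 := ha.eps j h
    rw [← hj] at h2
    have := hr.form.arity.1 ⟨j, hj, S.eps_of_compl _ h⟩
    omega
  · rcases lt_trichotomy (2 * j + 2) e with hlt | heq | hgt
    · exact (S.eps_split _ hlt).1 h
    · exact hr.keep j heq.symm h (h2 heq.symm)
    · exact absurd h (not_eps_high hr.nil hgt)

theorem Reduct.free_bit {bits : ℕ → Bool} (ha : Adm (S.compl hr.top_unit) bits) (hf : S.Free e) :
    bits ((e - 1) / 2) = false := by
  by_contra hb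
  obtain ⟨-, h1, -⟩ := ha.bit _ (Bool.eq_true_of_not_eq_false hb)
  rcases hf with ⟨h, he, hm, hd, hE⟩ | ⟨⟨h, he⟩, hm⟩
  · have hh : (e - 1) / 2 = h := by omega
    rw [hh] at h1
    rcases h1 with h1 | h1
    · have := S.mult_split hr.top_unit (2 * h + 1)
      omega
    · have := ((hr.eps_compl ha h).1 h1).2 (by omega)
      omega
  · have hh : (e - 1) / 2 = h := by omega
    rw [hh] at h1
    rcases h1 with h1 | h1
    · have h3 := S.mult_split hr.top_unit e
      rw [if_pos rfl] at h3
      have := hr.form.arity.2 (fun ⟨j, hj, _⟩ => by omega)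
      rw [← he] at h1
      omega
    · exact absurd (S.eps_of_compl _ h1) (not_eps_high hr.nil (by omega))

theorem Reduct.adm {bits : ℕ → Bool} (ha : Adm (S.compl hr.top_unit) bits) :
    Adm S fun j => bits j || (b && decide (j = (e - 1) / 2)) := by
  have hms := S.mult_split hr.top_unit
  refine ⟨fun j hj => ?_, fun j hj => ?_, fun j => ?_, fun j hj => ?_⟩
  · rcases lt_trichotomy (2 * j + 2) e with hlt | heq | hgt
    · have := ha.eps j ((S.eps_split hr.top_unit hlt).1 hj)
      have := hms (2 * j + 2)
      omega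
    · rw [heq]; exact hr.top
    · exact absurd hj (not_eps_high hr.nil hgt)
  · by_contra hE
    have h1 := hms (2 * j + 2)
    split_ifs at h1 with h
    · have := hr.form.arity.2 (fun ⟨i, hi, hi'⟩ => hE (by rwa [show j = i by omega]))
      have ho : Odd ((S.compl hr.top_unit).mult (2 * j + 2)) := by
        rw [h1] at hj
        exact (Nat.odd_add'.1 hj).2 (this ▸ even_two)
      exact hE (S.eps_of_compl _ (ha.odd j ho))
    · rw [h1, zero_add] at hj
      exact hE (S.eps_of_compl _ (ha.odd j hj))
  · rw [hms]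
    refine Even.add ?_ (ha.even j)
    split_ifs with h
    · rw [hr.form.arity.2 (fun ⟨i, hi, _⟩ => by omega)]; exact even_two
    · exact Even.zero
  · simp only [Bool.or_eq_true, Bool.and_eq_true, decide_eq_true_eq] at hj
    rcases hj with hj | ⟨hb, rfl⟩
    · obtain ⟨h1, h2, h3⟩ := ha.bit j hj
      refine ⟨h1, h2.imp (fun h => by have := hms (2 * j + 1); omega) fun h => S.eps_of_compl _ h, fun hj0 hE => ?_⟩
      by_cases hej : e = 2 * (j - 1) + 2
      · rcases h2 with h2 | h2
        · have h4 := hms (2 * j + 1)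
          rw [mult_high hr.nil (show e < 2 * j + 1 by omega)] at h4
          omega
        · exact not_eps_high hr.nil (by omega) (S.eps_of_compl _ h2)
      · exact h3 hj0 ((hr.eps_compl ha _).2 ⟨hE, fun h => absurd h hej⟩)
    · obtain ⟨hf, h1, h2⟩ := hr.free hb
      refine ⟨h1, ?_, h2⟩
      rcases hf with ⟨h, he, -, -, hE⟩ | ⟨⟨h, he⟩, hm⟩
      · rw [show (e - 1) / 2 = h by omega]; exact Or.inr hE
      · rw [show (e - 1) / 2 = h by omega, ← he]; exact Or.inl hr.top

end Sys

section Classify

variable (F : Type u) [Field F] [CharP F 2] [Finite F]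

/-- The classification in dimension `d`, and the sign of a bit. -/
def Classified (d : ℕ) : Prop := ∃ bits : Sys F (Fin d → F) → ℕ → Bool, (∀ S, Adm S (bits S)) ∧
  (∀ S S', S'.c = S.c → (∀ j, S'.mult j = S.mult j) → (∀ j, S'.Eps j ↔ S.Eps j) → bits S' = bits S → Iso S S') ∧
  ∀ S S', S.c = 1 → S'.c = 1 → (∀ j, S'.mult j = S.mult j) → (∀ j, S'.Eps j ↔ S.Eps j) →
    (∃ j₀, bits S' j₀ ≠ bits S j₀ ∧ ∀ j, j ≠ j₀ → bits S' j = bits S j) → gauss S.q * gauss S'.q < 0

theorem Iso.gauss_eq {V : Type v} [AddCommGroup V] [Module F V] {V' : Type w} [AddCommGroup V'] [Module F V']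
    {S : Sys F V} {S' : Sys F V'} (h : Iso S S') : gauss S'.q = gauss S.q := by
  obtain ⟨θ, -, -, h3⟩ := h
  exact gauss_equiv θ.toEquiv h3

variable {F}

theorem exists_reduct {V : Type v} [AddCommGroup V] [Module F V] [FiniteDimensional F V] [Nontrivial V]
    (S : Sys F V) : ∃ (e m : ℕ) (xs : Fin m → V) (b : Bool), S.Reduct e xs b ∧ 0 < m := by
  classical
  have hex : ∃ e, S.N ^ e = 0 := S.nil
  have he : 0 < Nat.find hex := by
    rcases Nat.eq_zero_or_pos (Nat.find hex) with h | h
    · have := Nat.find_spec hex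
      rw [h, pow_zero] at this
      exact absurd this one_ne_zero
    · exact h
  have hN' : S.N ^ (Nat.find hex - 1) ≠ 0 := Nat.find_min hex (by omega)
  obtain ⟨m, xs, hx, b, hm, hf, h1, h2, -⟩ := S.exists_norm he (Nat.find_spec hex) hN'
  exact ⟨_, m, xs, b, ⟨Nat.find_spec hex, S.mult_pos he (Nat.find_spec hex) hN', hx, hf, h1, h2⟩, hm⟩

theorem classified : ∀ d, Classified F d := by
  intro d
  induction d using Nat.strong_induction_on with
  | _ d ih =>
    rcases Nat.eq_zero_or_pos d with rfl | hd
    · refine ⟨fun _ _ => false, fun S => ?_, fun S S' _ _ _ _ => ?_,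
        fun S S' _ _ _ _ ⟨j, hj, _⟩ => absurd rfl hj⟩
      · have hm : ∀ j, S.mult j = 0 := fun j => by
          have : ∀ i, S.lay i = 0 := fun i => Module.finrank_zero_of_subsingleton
          simp [Sys.mult, this]
        have hE : ∀ j, ¬ S.Eps j := fun j ⟨y, _, hy⟩ => hy (by
          rw [Subsingleton.elim y 0]; show S.B _ (0 : Fin 0 → F) = 0; exact map_zero _)
        exact ⟨fun j h => absurd h (hE j), fun j h => by simp [hm] at h, fun j => by simp [hm],
          fun j h => absurd h (by simp)⟩
      · exact ⟨LinearEquiv.refl F _, fun v => Subsingleton.elim _ _,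
          fun v w => by
            have e1 : v = 0 := Subsingleton.elim _ _
            subst e1
            rw [map_zero, map_zero, map_zero]; rfl,
          fun v => by
            have e1 : v = 0 := Subsingleton.elim _ _
            subst e1
            rw [map_zero, Sys.q_zero, Sys.q_zero]⟩
    classical
    choose bits hadm hinj hflip using ih
    have : Nonempty (Fin d) := ⟨⟨0, hd⟩⟩
    choose e m xs b hred hm using fun S : Sys F (Fin d → F) => exists_reduct S
    have hlt : ∀ S : Sys F (Fin d → F), Module.finrank F (S.perp (xs S)) < d := fun S => by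
      have := S.finrank_perp_lt (hred S).top_unit (hm S)
      rwa [Module.finrank_fin_fun] at this
    let S₁ := fun S : Sys F (Fin d → F) => (S.compl (hred S).top_unit).map (Module.finBasis F (S.perp (xs S))).equivFun
    let bs := fun S => bits _ (hlt S) (S₁ S)
    have hiso : ∀ S, Iso (S.compl (hred S).top_unit) (S₁ S) := fun S => Sys.map_iso _ _
    have hkap : ∀ S j, (S₁ S).kap j = (S.compl (hred S).top_unit).kap j := fun S j => rfl
    have hadm1 : ∀ S, Adm (S.compl (hred S).top_unit) (bs S) := fun S => by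
      have h := hadm _ (hlt S) (S₁ S)
      refine ⟨fun j hj => ?_, fun j hj => ?_, fun j => ?_, fun j hj => ?_⟩
      · rw [← (hiso S).mult_eq]; exact h.eps j (((hiso S).eps_iff j).2 hj)
      · exact ((hiso S).eps_iff j).1 (h.odd j (by rwa [(hiso S).mult_eq]))
      · rw [← (hiso S).mult_eq]; exact h.even j
      · have := h.bit j hj
        rwa [hkap, (hiso S).mult_eq, (hiso S).eps_iff, (hiso S).eps_iff] at this
    have pre : ∀ S S', S'.c = S.c → (∀ j, S'.mult j = S.mult j) → (∀ j, S'.Eps j ↔ S.Eps j) →
        e S' = e S ∧ m S' = m S ∧ (∀ j, (S₁ S').mult j = (S₁ S).mult j) ∧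
          (∀ j, (S₁ S').Eps j ↔ (S₁ S).Eps j) ∧
          Module.finrank F (S'.perp (xs S')) = Module.finrank F (S.perp (xs S)) := fun S S' hc hmu hE => by
      have he : e S' = e S := by
        rcases lt_trichotomy (e S') (e S) with h | h | h
        · have := Sys.mult_high (hred S').nil h
          rw [hmu] at this
          exact absurd this (hred S).top.ne'
        · exact h
        · have := Sys.mult_high (hred S).nil h
          rw [← hmu] at this
          exact absurd this (hred S').top.ne'
      have hmm : m S' = m S := by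
        have h1 := (hred S).form.arity
        have h2 := (hred S').form.arity
        rw [he] at h2
        simp only [hE] at h2
        by_cases h : ∃ j, e S = 2 * j + 2 ∧ S.Eps j
        · rw [h1.1 h, h2.1 h]
        · rw [h1.2 h, h2.2 h]
      refine ⟨he, hmm, fun j => ?_, fun j => ?_,
        Sys.finrank_perp_eq hmm (hred S).top_unit (he ▸ (hred S').top_unit) rfl⟩
      · rw [(hiso S').mult_eq, (hiso S).mult_eq]
        have h1 := S.mult_split (hred S).top_unit j
        have h2 := S'.mult_split (hred S').top_unit j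
        have h3 : (if j = e S' then m S' else 0) = if j = e S then m S else 0 := by rw [he, hmm]
        rw [hmu, h3] at h2
        omega
      · rw [(hiso S').eps_iff, (hiso S).eps_iff, (hred S').eps_compl (hadm1 S'), (hred S).eps_compl (hadm1 S),
          hE, he, hmu]
    -- the bit at the top is read off where it can be set
    have key : ∀ S, b S = true → bs S ((e S - 1) / 2) = false := fun S h =>
      (hred S).free_bit (hadm1 S) ((hred S).free h).1
    have top : ∀ S S', (∀ j, S'.mult j = S.mult j) → (∀ j, S'.Eps j ↔ S.Eps j) → e S' = e S → b S' ≠ b S →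
        (bs S' ((e S - 1) / 2) || b S') ≠ (bs S ((e S - 1) / 2) || b S) := fun S S' hmu hE he hne => by
      have hfree : S'.Free (e S) ↔ S.Free (e S) := by simp only [Sys.Free, hmu, hE]
      have hf : S.Free (e S) := by
        by_contra hf
        refine hne ?_
        have h1 : b S = false := by
          by_contra h; exact hf ((hred S).free (Bool.eq_true_of_not_eq_false h)).1
        have h2 : b S' = false := by
          by_contra h
          exact hf (hfree.1 (he ▸ ((hred S').free (Bool.eq_true_of_not_eq_false h)).1))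
        rw [h1, h2]
      have h1 := (hred S').free_bit (hadm1 S') (he ▸ hfree.2 hf)
      rw [he] at h1
      rw [h1, (hred S).free_bit (hadm1 S) hf]
      simpa using hne
    have low : ∀ S S' j, e S' = e S → b S' = b S →
        (bs S' j || (b S' && decide (j = (e S' - 1) / 2))) = (bs S j || (b S && decide (j = (e S - 1) / 2))) →
        bs S' j = bs S j := fun S S' j he hbb h => by
      rw [hbb, he] at h
      by_cases hj : b S = true ∧ j = (e S - 1) / 2
      · obtain ⟨hbt, rfl⟩ := hj
        rw [key S hbt]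
        have := key S' (hbb.trans hbt)
        rwa [he] at this
      · have : (b S && decide (j = (e S - 1) / 2)) = false := by
          by_contra hc
          simp only [Bool.not_eq_false, Bool.and_eq_true, decide_eq_true_eq] at hc
          exact hj hc
        rwa [this, Bool.or_false, Bool.or_false] at h
    have hgen : ∀ {n n' : ℕ} (hn : n < d) (hn' : n' < d) (T : Sys F (Fin n → F)) (T' : Sys F (Fin n' → F)),
        n' = n → T'.c = T.c → (∀ j, T'.mult j = T.mult j) → (∀ j, T'.Eps j ↔ T.Eps j) →
        bits n' hn' T' = bits n hn T → Iso T T' := fun {n n'} hn hn' T T' hnn h1 h2 h3 h4 => by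
      subst hnn; exact hinj _ hn T T' h1 h2 h3 h4
    have hgenf : ∀ {n n' : ℕ} (hn : n < d) (hn' : n' < d) (T : Sys F (Fin n → F)) (T' : Sys F (Fin n' → F)),
        n' = n → T.c = 1 → T'.c = 1 → (∀ j, T'.mult j = T.mult j) → (∀ j, T'.Eps j ↔ T.Eps j) →
        (∃ j₀, bits n' hn' T' j₀ ≠ bits n hn T j₀ ∧ ∀ j, j ≠ j₀ → bits n' hn' T' j = bits n hn T j) →
        gauss T.q * gauss T'.q < 0 := fun {n n'} hn hn' T T' hnn h1 h2 h3 h4 h5 => by
      subst hnn; exact hflip _ hn T T' h1 h2 h3 h4 h5
    refine ⟨fun S j => bs S j || (b S && decide (j = (e S - 1) / 2)), fun S => (hred S).adm (hadm1 S),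
      fun S S' hc hmu hE hb => ?_, fun S S' hc hc' hmu hE hb => ?_⟩
    · obtain ⟨he, hmm, hmult, heps, hdim⟩ := pre S S' hc hmu hE
      have hbb : b S' = b S := by
        by_contra hne
        refine top S S' hmu hE he hne ?_
        simpa [he] using congrFun hb ((e S - 1) / 2)
      have hbs : bs S' = bs S := funext fun j => low S S' j he hbb (congrFun hb j)
      have hi : Iso (S.compl (hred S).top_unit) (S'.compl (hred S').top_unit) :=
        ((hiso S).trans (hgen (hlt S) (hlt S') _ _ hdim hc hmult heps hbs)).trans (hiso S').symm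
      exact Sys.Form.glue' hc hE he hbb (hred S).form (hred S').form (hred S).top_unit (hred S').top_unit hi
    · obtain ⟨he, hmm, hmult, heps, hdim⟩ := pre S S' (hc'.trans hc.symm) hmu hE
      obtain ⟨j₀, hj₀, hrest⟩ := hb
      rw [Sys.gauss_split (hred S).top_unit, Sys.gauss_split (hred S').top_unit]
      by_cases hbb : b S' = b S
      · have hs : S'.spanGauss (xs S') = S.spanGauss (xs S) :=
          Sys.Form.spanGauss_eq' (hc'.trans hc.symm) hE he hbb (hred S).form (hred S').form (hred S).top_unit
            (hred S').top_unit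
        have hlow : gauss (S₁ S).q * gauss (S₁ S').q < 0 := hgenf (hlt S) (hlt S') _ _ hdim hc hc' hmult heps
          ⟨j₀, fun h => hj₀ (by show (bs S' j₀ || _) = (bs S j₀ || _); rw [show bs S' j₀ = bs S j₀ from h, hbb, he]),
            fun j hj => low S S' j he hbb (hrest j hj)⟩
        rw [(hiso S).gauss_eq, (hiso S').gauss_eq] at hlow
        have hne : S.spanGauss (xs S) ≠ 0 := fun h => Sys.gauss_ne_zero (S := S) hc (by
          rw [Sys.gauss_split (hred S).top_unit, h, zero_mul])
        rw [hs, mul_mul_mul_comm]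
        exact mul_neg_of_pos_of_neg (mul_self_pos.2 hne) hlow
      · have hjt : j₀ = (e S - 1) / 2 := by
          by_contra hne
          have := hrest ((e S - 1) / 2) (Ne.symm hne)
          exact top S S' hmu hE he hbb (by simpa [he] using this)
        have hbs : bs S' = bs S := funext fun j => by
          by_cases hj : j = j₀
          · subst hj hjt
            have hf : S.Free (e S) ∧ S'.Free (e S) := by
              have hfree : S'.Free (e S) ↔ S.Free (e S) := by simp only [Sys.Free, hmu, hE]
              rcases Bool.eq_false_or_eq_true (b S) with h | h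
              · exact ⟨((hred S).free h).1, hfree.2 ((hred S).free h).1⟩
              · have h' : b S' = true := by
                  rcases Bool.eq_false_or_eq_true (b S') with h' | h'
                  · exact h'
                  · exact absurd (h'.trans h.symm) hbb
                have := ((hred S').free h').1
                rw [he] at this
                exact ⟨hfree.1 this, this⟩
            have h1 := (hred S').free_bit (hadm1 S') (by rw [he]; exact hf.2)
            rw [he] at h1
            rw [h1, (hred S).free_bit (hadm1 S) hf.1]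
          · have := hrest j hj
            simpa [he, show j ≠ (e S - 1) / 2 from hjt ▸ hj] using this
        have hi := ((hiso S).trans (hgen (hlt S) (hlt S') _ _ hdim (hc'.trans hc.symm) hmult heps hbs)).trans
          (hiso S').symm
        have hG := hi.gauss_eq
        have hG0 : gauss (S.compl (hred S).top_unit).q ≠ 0 := Sys.gauss_ne_zero hc
        rw [hG, mul_mul_mul_comm]
        refine mul_neg_of_neg_of_pos ?_ (mul_self_pos.2 hG0)
        rcases Bool.eq_false_or_eq_true (b S) with h | h
        · have h' : b S' = false := by simpa [h] using hbb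
          obtain ⟨k, k', hk, hk', e1, e2⟩ := Sys.Form.gauss_flip' hc hc' hE he h h' (hred S).form (hred S').form
            (hred S).top_unit (hred S').top_unit
          rw [e1, e2]
          have h3 : (0 : ℤ) < k * k' := mul_pos (by exact_mod_cast hk) (by exact_mod_cast hk')
          linarith
        · have h' : b S' = true := by simpa [h] using hbb
          obtain ⟨k, k', hk, hk', e1, e2⟩ := Sys.Form.gauss_flip' hc' hc (fun j => (hE j).symm) he.symm h' h
            (hred S').form (hred S).form (hred S').top_unit (hred S).top_unit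
          rw [e1, e2]
          have h3 : (0 : ℤ) < k * k' := mul_pos (by exact_mod_cast hk) (by exact_mod_cast hk')
          linarith

end Classify

end Cfsg.Agent.CharTwoClass
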