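import Cfsg.Agent.EqLemmas
import Cfsg.Agent.Lib.SpOClassCount.Poly
import Mathlib.Algebra.CharP.Two
import Mathlib.Algebra.Order.Field.GeomSum
import Mathlib.Data.Set.Card.Arithmetic

/-!
# Admissible invariant sequences in characteristic two

* `ncard_rec_two`, `ncard_rec_root` : self-reciprocal polynomials;
* `Lev` : sequences up to a level; `ncard_lev_step` : one step of the count;
* `lev_le` : the bound `q ^ n * val K`.
-/

set_option autoImplicit false
set_option linter.unusedVariables false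
set_option linter.unusedSectionVars false
set_option linter.style.haveILetI false

open Polynomial
open scoped Classical

namespace Cfsg.Agent.CharTwoClass

open SpOClassCount (IsRec recSet_finite)

variable {F : Type*} [Field F] [CharP F 2]

theorem rec_coeff_zero {P : F[X]} (h : IsRec P) : P.coeff 0 = 1 :=
  (CharTwo.add_eq_zero.1 (mul_self_eq_zero.1 (show (P.coeff 0 + 1) * (P.coeff 0 + 1) = 0 by
    rw [CharTwo.add_mul_self, h.coeff_sq, one_mul, CharTwo.add_self_eq_zero])))

theorem rec_odd_root {P : F[X]} (h : IsRec P) (hd : Odd P.natDegree) : P.IsRoot 1 := by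
  rw [IsRoot, eval_eq_sum_range]
  refine Finset.sum_involution (fun i _ => P.natDegree - i) (fun i hi => ?_) (fun i hi _ he => ?_)
    (fun i hi => Finset.mem_range.2 (by omega)) (fun i hi => ?_)
  · have hi' : i ≤ P.natDegree := by simpa [Nat.lt_succ_iff] using hi
    rw [h.coeff_eq hi', rec_coeff_zero h, one_mul, one_pow, one_pow, CharTwo.add_self_eq_zero]
  · obtain ⟨k, hk⟩ := hd; omega
  · have hi' : i ≤ P.natDegree := by simpa [Nat.lt_succ_iff] using hi
    omega

/-- The multiplicity of the root one has the parity of the degree. -/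
theorem even_degree_iff {P : F[X]} (h : IsRec P) : Even P.natDegree ↔ Even (P.rootMultiplicity 1) := by
  obtain ⟨Q, hQ, hQ1⟩ := exists_eq_pow_rootMultiplicity_mul_and_not_dvd P h.1.ne_zero 1
  have hQr : IsRec Q := by
    refine IsRec.of_mul_left (P := (X - C (1 : F)) ^ P.rootMultiplicity 1) ?_
      ((SpOClassCount.isRec_linear (one_mul 1)).pow _)
    rw [← hQ]; exact h
  have hev : Even Q.natDegree :=
    (Nat.even_or_odd _).resolve_right fun ho => hQ1 (dvd_iff_isRoot.2 (rec_odd_root hQr ho))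
  rw [hQ, ((monic_X_sub_C (1 : F)).pow _).natDegree_mul hQr.1, natDegree_pow, natDegree_X_sub_C, mul_one,
    Nat.even_add, ← hQ]
  exact ⟨fun h => h.2 hev, fun h => iff_of_true h hev⟩

variable [Finite F]

theorem ncard_rec_two (d : ℕ) : {P : F[X] | IsRec P ∧ P.natDegree = d}.ncard ≤ Nat.card F ^ (d / 2) := by
  haveI := Fintype.ofFinite F
  refine le_trans (Set.ncard_le_ncard_of_injOn (t := (Set.univ : Set (Fin (d / 2) → F)))
    (fun P i => P.coeff (i.val + 1)) (fun P _ => Set.mem_univ _) ?_ Set.finite_univ) ?_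
  · rintro P ⟨hP, hPd⟩ R ⟨hR, hRd⟩ he
    have low : ∀ j, j ≤ d / 2 → P.coeff j = R.coeff j := by
      intro j hj
      rcases j with _ | j
      · rw [rec_coeff_zero hP, rec_coeff_zero hR]
      · exact congrFun he ⟨j, hj⟩
    ext i
    rcases Nat.lt_or_ge d i with hi | hi
    · rw [coeff_eq_zero_of_natDegree_lt (by omega), coeff_eq_zero_of_natDegree_lt (by omega)]
    · rcases Nat.lt_or_ge (d / 2) i with hlt | hle
      · rw [hP.coeff_eq (by omega), hR.coeff_eq (by omega), rec_coeff_zero hP, rec_coeff_zero hR, hPd, hRd,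
          low _ (by omega)]
      · exact low i hle
  · rw [Set.ncard_univ, Nat.card_fun, Nat.card_fin]

theorem ncard_rec_root (d : ℕ) :
    {P : F[X] | IsRec P ∧ P.natDegree = d ∧ P.IsRoot 1}.ncard ≤
      if d = 0 then 0 else Nat.card F ^ ((d - 1) / 2) := by
  split_ifs with hd
  · rw [show {P : F[X] | IsRec P ∧ P.natDegree = d ∧ P.IsRoot 1} = ∅ from
      Set.eq_empty_of_forall_notMem fun P ⟨hP, hPd, hr⟩ => by
        rw [hP.1.natDegree_eq_zero.1 (hPd.trans hd)] at hr
        simp at hr, Set.ncard_empty]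
  · refine le_trans (Set.ncard_le_ncard (t := (fun Q => (X - C (1 : F)) * Q) '' {Q : F[X] | IsRec Q ∧ Q.natDegree = d - 1})
      ?_ ((recSet_finite _).image _)) ((Set.ncard_image_le (recSet_finite _)).trans (ncard_rec_two _))
    rintro P ⟨hP, hPd, hr⟩
    obtain ⟨Q, rfl⟩ := dvd_iff_isRoot.2 hr
    obtain ⟨hQ, hQd⟩ := SpOClassCount.isRec_div hP (one_mul 1) rfl
    exact ⟨Q, ⟨hQ, by omega⟩, rfl⟩

/-! ### Sequences -/

/-- The conditions on a sequence; `ok` says whether exponent one may carry a mark, `z` forbids all marks. -/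
structure Good (ok z : Bool) (f : ℕ → F[X] × Bool) : Prop where
  zero : f 0 = (1, false)
  rec_ : ∀ w, IsRec (f w).1
  evenE : ∀ j, (f (2 * j + 2)).2 = true → (f (2 * j + 2)).1.IsRoot 1
  oddE : ∀ j, Odd (f (2 * j + 2)).1.natDegree → (f (2 * j + 2)).2 = true
  oddD : ∀ j, Even (f (2 * j + 1)).1.natDegree
  bit : ∀ j, (f (2 * j + 1)).2 = true → (ok = true ∨ j ≠ 0) ∧
    ((f (2 * j + 1)).1.IsRoot 1 ∨ (f (2 * j + 2)).2 = true) ∧ (f (2 * j)).2 = false
  nomark : z = true → ∀ w, (f w).2 = false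

/-- Sequences of weight `2 n` supported up to `2 K`, with the given mark at the end. -/
def Lev (ok z : Bool) (K n : ℕ) (s : Bool) : Set (ℕ → F[X] × Bool) :=
  {f | Good ok z f ∧ (∀ w, 2 * K < w → f w = (1, false)) ∧
    ∑ w ∈ Finset.range (2 * K + 1), w * (f w).1.natDegree = 2 * n ∧ (f (2 * K)).2 = s}

/-- Options at an odd exponent, by half degree. -/
def wOdd (q : ℕ) (ok s s' : Bool) (m : ℕ) : ℕ :=
  q ^ m + if ok = true ∧ s = false then (if s' = true then q ^ m else if m = 0 then 0 else q ^ (m - 1)) else 0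

/-- Options at an even exponent, by degree. -/
def wEven (q : ℕ) (s' : Bool) (d : ℕ) : ℕ :=
  if s' = true then (if d % 2 = 1 then q ^ (d / 2) else if d = 0 then 0 else q ^ (d / 2 - 1))
  else (if d % 2 = 0 then q ^ (d / 2) else 0)

/-- The data allowed at an odd exponent. -/
def oddSet (ok s s' : Bool) (m : ℕ) : Set (F[X] × Bool) :=
  {x | IsRec x.1 ∧ x.1.natDegree = 2 * m ∧ (x.2 = true → ok = true ∧ (x.1.IsRoot 1 ∨ s' = true) ∧ s = false)}

/-- The data allowed at an even exponent. -/
def evenSet (s' : Bool) (d : ℕ) : Set (F[X] × Bool) :=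
  {x | IsRec x.1 ∧ x.1.natDegree = d ∧ x.2 = s' ∧ (s' = true → x.1.IsRoot 1) ∧ (Odd d → s' = true)}

theorem oddSet_card (ok s s' : Bool) (m : ℕ) :
    (oddSet (F := F) ok s s' m).Finite ∧ (oddSet (F := F) ok s s' m).ncard ≤ wOdd (Nat.card F) ok s s' m := by
  have hfin : (oddSet (F := F) ok s s' m).Finite :=
    ((recSet_finite (2 * m)).prod (Set.finite_univ (α := Bool))).subset fun x hx => ⟨⟨hx.1, hx.2.1⟩, Set.mem_univ _⟩
  refine ⟨hfin, ?_⟩
  let N := {P : F[X] | IsRec P ∧ P.natDegree = 2 * m}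
  let M := {P : F[X] | IsRec P ∧ P.natDegree = 2 * m ∧ ok = true ∧ (P.IsRoot 1 ∨ s' = true) ∧ s = false}
  have hM : M.Finite := (recSet_finite (2 * m)).subset fun P hP => ⟨hP.1, hP.2.1⟩
  have hsub : oddSet ok s s' m ⊆ (fun P => (P, false)) '' N ∪ (fun P => (P, true)) '' M := fun x hx => by
    rcases Bool.eq_false_or_eq_true x.2 with h | h
    · exact Or.inr ⟨x.1, ⟨hx.1, hx.2.1, hx.2.2 h⟩, Prod.ext rfl h.symm⟩
    · exact Or.inl ⟨x.1, ⟨hx.1, hx.2.1⟩, Prod.ext rfl h.symm⟩
  refine ((Set.ncard_le_ncard hsub (((recSet_finite _).image _).union (hM.image _))).trans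
    (Set.ncard_union_le _ _)).trans (add_le_add ?_ ?_)
  · exact (Set.ncard_image_le (recSet_finite _)).trans ((ncard_rec_two _).trans (le_of_eq (by congr 1; omega)))
  · refine (Set.ncard_image_le hM).trans ?_
    split_ifs with h1 h2 h3
    · exact (Set.ncard_le_ncard (t := {P : F[X] | IsRec P ∧ P.natDegree = 2 * m}) (fun P hP => ⟨hP.1, hP.2.1⟩)
        (recSet_finite (2 * m))).trans
        ((ncard_rec_two _).trans (le_of_eq (by congr 1; omega)))
    · refine (Set.ncard_le_ncard (t := {P : F[X] | IsRec P ∧ P.natDegree = 2 * m ∧ P.IsRoot 1})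
        (fun P hP => ⟨hP.1, hP.2.1, hP.2.2.2.1.resolve_right h2⟩)
        ((recSet_finite (2 * m)).subset fun P hP => ⟨hP.1, hP.2.1⟩)).trans ((ncard_rec_root _).trans ?_)
      rw [if_pos (by omega)]
    · refine (Set.ncard_le_ncard (t := {P : F[X] | IsRec P ∧ P.natDegree = 2 * m ∧ P.IsRoot 1})
        (fun P hP => ⟨hP.1, hP.2.1, hP.2.2.2.1.resolve_right h2⟩)
        ((recSet_finite (2 * m)).subset fun P hP => ⟨hP.1, hP.2.1⟩)).trans ((ncard_rec_root _).trans ?_)
      rw [if_neg (by omega)]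
      exact le_of_eq (by congr 1; omega)
    · rw [show M = ∅ from Set.eq_empty_of_forall_notMem fun P hP => h1 ⟨hP.2.2.1, hP.2.2.2.2⟩, Set.ncard_empty]

theorem evenSet_card (s' : Bool) (d : ℕ) :
    (evenSet (F := F) s' d).Finite ∧ (evenSet (F := F) s' d).ncard ≤ wEven (Nat.card F) s' d := by
  have hfin : (evenSet (F := F) s' d).Finite :=
    ((recSet_finite d).prod (Set.finite_univ (α := Bool))).subset fun x hx => ⟨⟨hx.1, hx.2.1⟩, Set.mem_univ _⟩
  refine ⟨hfin, ?_⟩
  cases s' with
  | true =>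
    refine le_trans ((Set.ncard_le_ncard_of_injOn (t := {P : F[X] | IsRec P ∧ P.natDegree = d ∧ P.IsRoot 1})
      Prod.fst (fun x hx => ⟨hx.1, hx.2.1, hx.2.2.2.1 rfl⟩) (fun x hx y hy h => Prod.ext h (hx.2.2.1.trans hy.2.2.1.symm))
      ((recSet_finite d).subset fun P hP => ⟨hP.1, hP.2.1⟩)).trans (ncard_rec_root d)) ?_
    simp only [wEven, if_true]
    split_ifs <;> first | exact Nat.zero_le _ | exact le_of_eq (by congr 1; omega) | omega
  | false =>
    simp only [wEven, Bool.false_eq_true, if_false]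
    split_ifs with h
    · exact (Set.ncard_le_ncard_of_injOn (t := {P : F[X] | IsRec P ∧ P.natDegree = d}) Prod.fst
        (fun x hx => ⟨hx.1, hx.2.1⟩) (fun x hx y hy h => Prod.ext h (hx.2.2.1.trans hy.2.2.1.symm))
        (recSet_finite d)).trans (ncard_rec_two d)
    · rw [show evenSet (F := F) false d = ∅ from Set.eq_empty_of_forall_notMem fun x hx => absurd
        (hx.2.2.2.2 (Nat.odd_iff.2 (by omega))) Bool.false_ne_true, Set.ncard_empty]

/-- The indices of one step. -/
def stepIdx (K n : ℕ) : Finset (Bool × ℕ × ℕ) :=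
  (Finset.univ ×ˢ (Finset.range (n + 1) ×ˢ Finset.range (n + 1))).filter
    fun x => (2 * K + 1) * x.2.1 + (K + 1) * x.2.2 ≤ n

theorem lev_zero (ok z : Bool) (n : ℕ) (s : Bool) :
    (Lev (F := F) ok z 0 n s).Finite ∧ (Lev (F := F) ok z 0 n s).ncard ≤ if n = 0 ∧ s = false then 1 else 0 := by
  have hsub : Lev (F := F) ok z 0 n s ⊆ {fun _ => (1, false)} := fun f hf => funext fun w => by
    rcases Nat.eq_zero_or_pos w with rfl | hw
    · exact hf.1.zero
    · exact hf.2.1 w (by omega)
  refine ⟨(Set.finite_singleton _).subset hsub, ?_⟩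
  split_ifs with h
  · exact (Set.ncard_le_ncard hsub (Set.finite_singleton _)).trans (by simp)
  · rw [show Lev (F := F) ok z 0 n s = ∅ from Set.eq_empty_of_forall_notMem fun f hf => h ⟨by
        have := hf.2.2.1
        simp at this
        exact this,
      by rw [← hf.2.2.2, show 2 * 0 = 0 from rfl, hf.1.zero]⟩, Set.ncard_empty]

/-- Cutting off the last two exponents. -/
theorem ncard_lev_step (ok z : Bool) (K n : ℕ) (s' : Bool)
    (hfin : ∀ k s, (Lev (F := F) ok z K k s).Finite) :
    (Lev (F := F) ok z (K + 1) n s').Finite ∧ (Lev (F := F) ok z (K + 1) n s').ncard ≤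
      if z = true ∧ s' = true then 0 else
      ∑ x ∈ stepIdx K n, wOdd (Nat.card F) ((ok || decide (K ≠ 0)) && !z) x.1 s' x.2.1 *
        wEven (Nat.card F) s' x.2.2 *
        (Lev (F := F) ok z K (n - ((2 * K + 1) * x.2.1 + (K + 1) * x.2.2)) x.1).ncard := by
  set T : Bool × ℕ × ℕ → Set (ℕ → F[X] × Bool) := fun x =>
    (fun t : (F[X] × Bool) × (F[X] × Bool) × (ℕ → F[X] × Bool) =>
      Function.update (Function.update t.2.2 (2 * K + 1) t.1) (2 * K + 2) t.2.1) ''
    (oddSet ((ok || decide (K ≠ 0)) && !z) x.1 s' x.2.1 ×ˢ (evenSet s' x.2.2 ×ˢ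
      Lev ok z K (n - ((2 * K + 1) * x.2.1 + (K + 1) * x.2.2)) x.1))
  have hTfin : ∀ x, (T x).Finite := fun x =>
    ((oddSet_card _ _ _ _).1.prod ((evenSet_card _ _).1.prod (hfin _ _))).image _
  have hsub : Lev (F := F) ok z (K + 1) n s' ⊆ ⋃ x ∈ stepIdx K n, T x := by
    rintro f ⟨hg, hsupp, hwt, hs⟩
    rw [show 2 * (K + 1) = 2 * K + 2 by ring] at hs hsupp hwt
    obtain ⟨m, hm⟩ := hg.oddD K
    rw [Finset.sum_range_succ, Finset.sum_range_succ, hm] at hwt
    set d := (f (2 * K + 2)).1.natDegree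
    set g : ℕ → F[X] × Bool := fun w => if w ≤ 2 * K then f w else (1, false)
    have hgw : ∀ w, w ≤ 2 * K → g w = f w := fun w hw => if_pos hw
    have hgd : ∀ w, 2 * K < w → g w = (1, false) := fun w hw => if_neg (by omega)
    have hsum : ∑ w ∈ Finset.range (2 * K + 1), w * (g w).1.natDegree =
        ∑ w ∈ Finset.range (2 * K + 1), w * (f w).1.natDegree :=
      Finset.sum_congr rfl fun w hw => by rw [hgw w (by simpa [Nat.lt_succ_iff] using hw)]
    have e1 : (2 * K + 1) * (m + m) = 2 * ((2 * K + 1) * m) := by ring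
    have e2 : (2 * K + 2) * d = 2 * ((K + 1) * d) := by ring
    have hk : (2 * K + 1) * m + (K + 1) * d ≤ n := by omega
    refine Set.mem_iUnion₂.2 ⟨((f (2 * K)).2, m, d), ?_, (f (2 * K + 1), f (2 * K + 2), g), ⟨?_, ?_, ?_⟩, ?_⟩
    · have := Nat.le_mul_of_pos_left m (show 0 < 2 * K + 1 by omega)
      have := Nat.le_mul_of_pos_left d (show 0 < K + 1 by omega)
      simp only [stepIdx, Finset.mem_filter, Finset.mem_product, Finset.mem_univ, Finset.mem_range, true_and]
      omega
    · refine ⟨hg.rec_ _, hm.trans (two_mul m).symm, fun hb => ⟨?_, ?_, (hg.bit K hb).2.2⟩⟩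
      · have hz : z = false := by
          by_contra hz
          rw [hg.nomark (by simpa using hz)] at hb
          exact Bool.false_ne_true hb
        rcases (hg.bit K hb).1 with h | h <;> simp [h, hz]
      · exact (hg.bit K hb).2.1.imp id fun h => hs ▸ h
    · exact ⟨hg.rec_ _, rfl, hs, fun h => hg.evenE K (hs.trans h), fun h => hs ▸ hg.oddE K h⟩
    · dsimp only
      refine ⟨⟨(hgw 0 (Nat.zero_le _)).trans hg.zero, fun w => ?_, fun j hj => ?_, fun j hj => ?_, fun j => ?_,
        fun j hj => ?_, fun hz w => ?_⟩, fun w hw => hgd w hw, ?_, congrArg Prod.snd (hgw _ le_rfl)⟩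
      · rcases Nat.lt_or_ge (2 * K) w with h | h
        · rw [hgd w h]; exact SpOClassCount.isRec_one
        · rw [hgw w h]; exact hg.rec_ w
      · rcases Nat.lt_or_ge (2 * K) (2 * j + 2) with h | h
        · rw [hgd _ h] at hj; exact absurd hj Bool.false_ne_true
        · rw [hgw _ h] at hj ⊢; exact hg.evenE j hj
      · rcases Nat.lt_or_ge (2 * K) (2 * j + 2) with h | h
        · rw [hgd _ h] at hj; simp at hj
        · rw [hgw _ h] at hj ⊢; exact hg.oddE j hj
      · rcases Nat.lt_or_ge (2 * K) (2 * j + 1) with h | h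
        · rw [hgd _ h]; simp
        · rw [hgw _ h]; exact hg.oddD j
      · rcases Nat.lt_or_ge (2 * K) (2 * j + 1) with h | h
        · rw [hgd _ h] at hj; exact absurd hj Bool.false_ne_true
        · rw [hgw _ h] at hj ⊢
          rw [hgw _ (show 2 * j + 2 ≤ 2 * K by omega), hgw _ (show 2 * j ≤ 2 * K by omega)]
          exact hg.bit j hj
      · rcases Nat.lt_or_ge (2 * K) w with h | h
        · rw [hgd w h]
        · rw [hgw w h]; exact hg.nomark hz w
      · rw [hsum]; omega
    · funext w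
      show Function.update (Function.update g (2 * K + 1) (f (2 * K + 1))) (2 * K + 2) (f (2 * K + 2)) w = f w
      by_cases h2 : w = 2 * K + 2
      · subst h2; rw [Function.update_self]
      rw [Function.update_of_ne h2]
      by_cases h1 : w = 2 * K + 1
      · subst h1; rw [Function.update_self]
      rw [Function.update_of_ne h1]
      rcases Nat.lt_or_ge (2 * K) w with h | h
      · rw [hgd w h, hsupp w (by omega)]
      · exact hgw w h
  refine ⟨((stepIdx K n).finite_toSet.biUnion fun x _ => hTfin x).subset hsub, ?_⟩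
  split_ifs with hz
  · rw [show Lev (F := F) ok z (K + 1) n s' = ∅ from Set.eq_empty_of_forall_notMem fun f hf => by
      have := hf.2.2.2
      rw [hf.1.nomark hz.1, hz.2] at this
      exact Bool.false_ne_true this, Set.ncard_empty]
  refine (Set.ncard_le_ncard hsub ((stepIdx K n).finite_toSet.biUnion fun x _ => hTfin x)).trans
    ((Finset.set_ncard_biUnion_le _ _).trans (Finset.sum_le_sum fun x _ => ?_))
  refine (Set.ncard_image_le ((oddSet_card _ _ _ _).1.prod ((evenSet_card _ _).1.prod (hfin _ _)))).trans ?_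
  rw [Set.ncard_prod, Set.ncard_prod, mul_assoc]
  exact Nat.mul_le_mul (oddSet_card _ _ _ _).2 (Nat.mul_le_mul (evenSet_card _ _).2 le_rfl)

theorem lev_finite (ok z : Bool) : ∀ K n s, (Lev (F := F) ok z K n s).Finite
  | 0, n, s => (lev_zero ok z n s).1
  | K + 1, n, s => (ncard_lev_step ok z K n s fun k t => lev_finite ok z K k t).1

end Cfsg.Agent.CharTwoClass
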