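import Cfsg.Agent.Lib.CharTwoClass.Sign
import Mathlib.RingTheory.AdjoinRoot
import Mathlib.Algebra.Polynomial.Reverse
import Mathlib.LinearAlgebra.QuadraticForm.Basic

/-!
# A model element for each polynomial

For monic `R` with `R 0 ≠ 0`, `A = F[t]/(R)` and `s = t⁻¹`: the form `Λ (t a² + t b² + a b)` on `A × A`, with
`Λ` the top coordinate, is preserved by `(a, b) ↦ (b, a + s b)`; its sign is that of the subleading coefficient.

* `qR`, `qR_nondeg`, `gauss_qR`, `gR`, `qR_gR`, `tag_self`, `tag_dvd`.
-/

set_option autoImplicit false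
set_option linter.unusedVariables false
set_option linter.unusedSectionVars false
set_option linter.style.haveILetI false

open Polynomial
open scoped Classical

namespace Cfsg.Agent.CharTwoClass

universe u

variable {F : Type u} [Field F] [CharP F 2] [Finite F] (R : F[X]) [hR : Fact R.Monic]

/-- The top coordinate. -/
noncomputable def lam : AdjoinRoot R →ₗ[F] F :=
  (lcoeff F (R.natDegree - 1)).comp (AdjoinRoot.modByMonicHom hR.out)

theorem lam_mk (P : F[X]) : lam R (AdjoinRoot.mk R P) = (P %ₘ R).coeff (R.natDegree - 1) := by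
  simp [lam, AdjoinRoot.modByMonicHom_mk]

theorem lam_mk_lt {P : F[X]} (h : P.degree < R.degree) :
    lam R (AdjoinRoot.mk R P) = P.coeff (R.natDegree - 1) := by
  rw [lam_mk, (Polynomial.modByMonic_eq_self_iff hR.out).2 h]

theorem lam_mk_pow_top (h : 0 < R.natDegree) :
    lam R (AdjoinRoot.mk R (X ^ R.natDegree)) = R.coeff (R.natDegree - 1) := by
  have e : AdjoinRoot.mk R (X ^ R.natDegree) = AdjoinRoot.mk R (X ^ R.natDegree + R) := by
    rw [map_add, AdjoinRoot.mk_self, add_zero]
  rw [e, lam_mk_lt, coeff_add, coeff_X_pow, if_neg (by omega), zero_add]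
  have h2 : X ^ R.natDegree + R = R - X ^ R.natDegree := by
    rw [CharTwo.sub_eq_add, add_comm]
  rw [h2]
  refine degree_sub_lt ?_ hR.out.ne_zero ?_
  · rw [degree_X_pow, degree_eq_natDegree hR.out.ne_zero]
  · rw [hR.out.leadingCoeff, (monic_X_pow _).leadingCoeff]

/-- The bilinear form behind the model form. -/
noncomputable def bR : LinearMap.BilinForm F (AdjoinRoot R × AdjoinRoot R) :=
  LinearMap.mk₂ F (fun x y => lam R (AdjoinRoot.root R * x.1 * y.1 + AdjoinRoot.root R * x.2 * y.2 + x.1 * y.2))
    (fun x x' y => by rw [← map_add]; congr 1; simp only [Prod.fst_add, Prod.snd_add]; ring)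
    (fun c x y => by
      rw [← map_smul]; congr 1; simp only [Prod.smul_fst, Prod.smul_snd, mul_smul_comm, smul_mul_assoc, smul_add])
    (fun x y y' => by rw [← map_add]; congr 1; simp only [Prod.fst_add, Prod.snd_add]; ring)
    fun c x y => by
      rw [← map_smul]; congr 1; simp only [Prod.smul_fst, Prod.smul_snd, mul_smul_comm, smul_add]

/-- The model form. -/
noncomputable def qR : QuadraticForm F (AdjoinRoot R × AdjoinRoot R) := (bR R).toQuadraticMap

theorem qR_apply (x : AdjoinRoot R × AdjoinRoot R) :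
    qR R x = lam R (AdjoinRoot.root R * (x.1 * x.1 + x.2 * x.2) + x.1 * x.2) := by
  show lam R (AdjoinRoot.root R * x.1 * x.1 + AdjoinRoot.root R * x.2 * x.2 + x.1 * x.2) = _
  congr 1; ring

theorem qR_polar (x y : AdjoinRoot R × AdjoinRoot R) :
    QuadraticMap.polarBilin (qR R) x y = lam R (x.1 * y.2 + y.1 * x.2) := by
  show qR R (x + y) - qR R x - qR R y = _
  haveI : CharP (AdjoinRoot R) 2 ∨ True := Or.inr trivial
  have e : AdjoinRoot.root R * ((x.1 + y.1) * (x.1 + y.1) + (x.2 + y.2) * (x.2 + y.2)) + (x.1 + y.1) * (x.2 + y.2) -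
      (AdjoinRoot.root R * (x.1 * x.1 + x.2 * x.2) + x.1 * x.2) -
      (AdjoinRoot.root R * (y.1 * y.1 + y.2 * y.2) + y.1 * y.2) = x.1 * y.2 + y.1 * x.2 := by
    have h2 : (2 : AdjoinRoot R) = 0 := by
      rw [show (2 : AdjoinRoot R) = algebraMap F (AdjoinRoot R) 2 from (map_ofNat _ 2).symm, CharTwo.two_eq_zero, map_zero]
    linear_combination (AdjoinRoot.root R * (x.1 * y.1 + x.2 * y.2)) * h2
  rw [qR_apply, qR_apply, qR_apply, ← map_sub, ← map_sub, Prod.fst_add, Prod.snd_add, e]

theorem qR_alt (x : AdjoinRoot R × AdjoinRoot R) : QuadraticMap.polarBilin (qR R) x x = 0 := by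
  rw [qR_polar, mul_comm x.1, map_add, CharTwo.add_self_eq_zero]

theorem lam_nondeg {a : AdjoinRoot R} (h : ∀ b, lam R (a * b) = 0) : a = 0 := by
  obtain ⟨P, rfl⟩ := AdjoinRoot.mk_surjective a
  rw [← AdjoinRoot.mk_leftInverse hR.out (AdjoinRoot.mk R P), AdjoinRoot.modByMonicHom_mk]
  by_contra hne
  set S := P %ₘ R
  have hS : S ≠ 0 := fun h0 => hne (by rw [h0, map_zero])
  have hd : S.degree < R.degree := degree_modByMonic_lt P hR.out
  have hdn : S.natDegree < R.natDegree := by
    rwa [degree_eq_natDegree hS, degree_eq_natDegree hR.out.ne_zero, Nat.cast_lt] at hd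
  have h1 := h (AdjoinRoot.mk R (X ^ (R.natDegree - 1 - S.natDegree)))
  rw [← AdjoinRoot.mk_leftInverse hR.out (AdjoinRoot.mk R P), AdjoinRoot.modByMonicHom_mk, ← map_mul,
    lam_mk_lt, coeff_mul_X_pow', if_pos (by omega)] at h1
  · rw [show R.natDegree - 1 - (R.natDegree - 1 - S.natDegree) = S.natDegree by omega, coeff_natDegree] at h1
    exact hS (leadingCoeff_eq_zero.1 h1)
  · rw [degree_mul, degree_X_pow, degree_eq_natDegree hS, degree_eq_natDegree hR.out.ne_zero, ← Nat.cast_add,
      Nat.cast_lt]
    omega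

theorem qR_nondeg : (QuadraticMap.polarBilin (qR R)).Nondegenerate := by
  have key : ∀ x, (∀ y, QuadraticMap.polarBilin (qR R) x y = 0) → x = 0 := fun x hx => by
    refine Prod.ext (lam_nondeg R fun b => ?_) (lam_nondeg R fun b => ?_)
    · have := hx (0, b); rw [qR_polar] at this; simpa using this
    · have := hx (b, 0); rw [qR_polar] at this; simpa [mul_comm] using this
  refine ⟨key, fun x hx => key x fun y => ?_⟩
  have := hx y
  rwa [qR_polar, add_comm, ← qR_polar] at this

theorem finrank_R : Module.finrank F (AdjoinRoot R × AdjoinRoot R) = 2 * R.natDegree := by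
  haveI := hR.out.finite_adjoinRoot
  rw [Module.finrank_prod, show Module.finrank F (AdjoinRoot R) = R.natDegree from
    (AdjoinRoot.powerBasis' hR.out).finrank.trans rfl]
  omega

/-- Classes of polynomials of degree below `k`. -/
noncomputable def low (k : ℕ) : (Fin k → F) →ₗ[F] AdjoinRoot R :=
  (AdjoinRoot.mkₐ R).toLinearMap ∘ₗ (degreeLT F k).subtype ∘ₗ (degreeLTEquiv F k).symm.toLinearMap

theorem low_eq (k : ℕ) (f : Fin k → F) :
    low R k f = AdjoinRoot.mk R ((degreeLTEquiv F k).symm f : F[X]) := rfl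

theorem low_degree (k : ℕ) (f : Fin k → F) : (((degreeLTEquiv F k).symm f : F[X])).degree < k :=
  mem_degreeLT.1 ((degreeLTEquiv F k).symm f).2

theorem low_injective {k : ℕ} (hk : k ≤ R.natDegree) : Function.Injective (low R k) := by
  refine (injective_iff_map_eq_zero _).2 fun f hf => ?_
  rw [low_eq, AdjoinRoot.mk_eq_zero] at hf
  have := eq_zero_of_dvd_of_degree_lt hf ((low_degree k f).trans_le (by
    rw [degree_eq_natDegree hR.out.ne_zero]; exact_mod_cast hk))
  simpa using this

theorem lam_small {P : F[X]} (h : P.natDegree + 1 < R.natDegree) : lam R (AdjoinRoot.mk R P) = 0 := by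
  rw [lam_mk_lt, coeff_eq_zero_of_natDegree_lt (by omega)]
  calc P.degree ≤ P.natDegree := degree_le_natDegree
    _ < R.degree := by rw [degree_eq_natDegree hR.out.ne_zero]; exact_mod_cast (by omega : P.natDegree < R.natDegree)

theorem nd_le {P : F[X]} {k : ℕ} (h : P.degree < (k : ℕ)) (hk : 0 < k) : P.natDegree ≤ k - 1 := by
  rcases eq_or_ne P 0 with rfl | hP
  · simp
  · rw [degree_eq_natDegree hP, Nat.cast_lt] at h; omega

/-- The sign of the model form. -/
theorem gauss_qR (h : 0 < R.natDegree) :
    ∃ k : ℕ, 0 < k ∧ gauss (qR R) = k * chi (R.coeff (R.natDegree - 1)) := by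
  haveI := hR.out.finite_adjoinRoot
  haveI : Finite (AdjoinRoot R × AdjoinRoot R) := Module.finite_of_finite F
  set B := QuadraticMap.polarBilin (qR R)
  have hsym : ∀ v w, B v w = B w v := fun v w => by
    simp only [B, QuadraticMap.polarBilin_apply_apply, QuadraticMap.polar_comm]
  have hq : ∀ v w, qR R (v + w) = qR R v + qR R w + B v w := fun v w => by
    simp only [B, QuadraticMap.polarBilin_apply_apply, QuadraticMap.polar]; ring
  have hsm : ∀ (a : F) v, qR R (a • v) = a * a * qR R v := fun a v => (qR R).map_smul a v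
  have hnd := (qR_nondeg R).1
  set c := R.coeff (R.natDegree - 1) with hc
  set t := AdjoinRoot.root R
  have hmkX : ∀ i, t ^ i = AdjoinRoot.mk R (X ^ i) := fun i => by rw [map_pow, AdjoinRoot.mk_X]
  have hmk : ∀ (k : ℕ) (P : F[X]), 0 < k → P.degree < (k : ℕ) → P.natDegree ≤ k - 1 := fun k P hk hP => nd_le hP hk
  rcases Nat.even_or_odd' R.natDegree with ⟨k, hk | hk⟩
  · obtain ⟨k, rfl⟩ : ∃ j, k = j + 1 := ⟨k - 1, by omega⟩
    let φ : ((Fin k → F) × (Fin k → F)) × F →ₗ[F] AdjoinRoot R × AdjoinRoot R :=
      (LinearMap.prodMap (low R k) (low R k)).coprod (LinearMap.toSpanSingleton F _ (t ^ k, t ^ k))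
    have hφ : ∀ x, ∃ P P' : F[X], (∀ i, k ≤ i → P.coeff i = 0) ∧ (∀ i, k ≤ i → P'.coeff i = 0) ∧
        (x.1 = 0 ↔ P = 0 ∧ P' = 0) ∧
        φ x = (AdjoinRoot.mk R (P + C x.2 * X ^ k), AdjoinRoot.mk R (P' + C x.2 * X ^ k)) := fun x => by
      refine ⟨((degreeLTEquiv F k).symm x.1.1 : F[X]), ((degreeLTEquiv F k).symm x.1.2 : F[X]), fun i hi => ?_,
        fun i hi => ?_, ?_, ?_⟩
      · exact coeff_eq_zero_of_degree_lt ((low_degree k _).trans_le (by exact_mod_cast hi))
      · exact coeff_eq_zero_of_degree_lt ((low_degree k _).trans_le (by exact_mod_cast hi))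
      · simp [Prod.ext_iff]
      · show (low R k x.1.1, low R k x.1.2) + x.2 • (t ^ k, t ^ k) = _
        simp [low_eq, hmkX, map_add, map_mul, AdjoinRoot.mk_C, Algebra.smul_def, AdjoinRoot.algebraMap_eq]
    have hdeg : ∀ (P : F[X]) (l : F), (∀ i, k ≤ i → P.coeff i = 0) → (P + C l * X ^ k).natDegree ≤ k := fun P l hP =>
      natDegree_le_iff_coeff_eq_zero.2 fun i hi => by
        rw [coeff_add, hP i hi.le, coeff_C_mul_X_pow, if_neg (Nat.ne_of_gt hi), add_zero]
    have hinj : Function.Injective φ := (injective_iff_map_eq_zero _).2 fun x hx => by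
      obtain ⟨P, P', hP, hP', h0, e⟩ := hφ x
      rw [e, Prod.mk_eq_zero, AdjoinRoot.mk_eq_zero, AdjoinRoot.mk_eq_zero] at hx
      have z : ∀ {S : F[X]}, R ∣ S → S.natDegree ≤ k → S = 0 := fun {S} hS hd => by
        by_contra hne
        have := natDegree_le_of_dvd hS hne
        omega
      have e1 := z hx.1 (hdeg P x.2 hP)
      have e2 := z hx.2 (hdeg P' x.2 hP')
      have hl : x.2 = 0 := by
        have := congrArg (fun S : F[X] => S.coeff k) e1
        simpa [hP k le_rfl] using this
      rw [hl, map_zero, zero_mul, add_zero] at e1 e2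
      exact Prod.ext (h0.2 ⟨e1, e2⟩) hl
    have horth : ∀ w ∈ LinearMap.range φ, qR R w = 0 ∧ B (t ^ k, 0) w = 0 ∧ B (t ^ (k + 1), t ^ (k + 1)) w = 0 := by
      rintro _ ⟨x, rfl⟩
      obtain ⟨P, P', hP, hP', -, e⟩ := hφ x
      rw [e]
      refine ⟨?_, ?_, ?_⟩
      · rw [qR_apply, ← AdjoinRoot.mk_X]
        simp only [← map_mul, ← map_add]
        refine lam_small R ?_
        have hs : ((P + C x.2 * X ^ k) * (P + C x.2 * X ^ k) + (P' + C x.2 * X ^ k) * (P' + C x.2 * X ^ k)) =
            (P + P') * (P + P') := by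
          linear_combination ((C x.2 * X ^ k) * (C x.2 * X ^ k) + (C x.2 * X ^ k) * (P + P') - P * P') *
            CharTwo.two_eq_zero (R := F[X])
        rw [hs]
        refine lt_of_le_of_lt (Nat.succ_le_succ (natDegree_add_le_of_degree_le (n := 2 * k) ?_ ?_)) (by omega)
        · rcases Nat.eq_zero_or_pos k with rfl | hk0
          · have : P + P' = 0 := Polynomial.ext fun i => by simp [hP i (Nat.zero_le _), hP' i (Nat.zero_le _)]
            simp [this]
          · have h1 : (P + P').natDegree ≤ k - 1 := natDegree_le_iff_coeff_eq_zero.2 fun i hi => by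
              rw [coeff_add, hP i (by omega), hP' i (by omega), add_zero]
            refine natDegree_mul_le.trans ?_
            have := natDegree_mul_le (p := P + P') (q := P + P')
            simp only [natDegree_X]
            omega
        · refine natDegree_mul_le.trans ?_
          have := hdeg P x.2 hP
          have := hdeg P' x.2 hP'
          omega
      · show QuadraticMap.polarBilin (qR R) _ _ = 0
        rw [qR_polar]
        simp only [mul_zero, add_zero, hmkX, ← map_mul]
        refine lam_small R (lt_of_le_of_lt (Nat.succ_le_succ (natDegree_mul_le.trans ?_)) (show 2 * k + 1 < _ by omega))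
        have := hdeg P' x.2 hP'
        simp only [natDegree_X_pow]
        omega
      · show QuadraticMap.polarBilin (qR R) _ _ = 0
        rw [qR_polar]
        simp only [hmkX, ← map_mul, ← map_add]
        refine lam_small R ?_
        have hs : X ^ (k + 1) * (P' + C x.2 * X ^ k) + (P + C x.2 * X ^ k) * X ^ (k + 1) = X ^ (k + 1) * (P + P') := by
          linear_combination (X ^ (k + 1) * (C x.2 * X ^ k)) * CharTwo.two_eq_zero (R := F[X])
        rw [hs]
        rcases Nat.eq_zero_or_pos k with rfl | hk0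
        · have : P + P' = 0 := Polynomial.ext fun i => by simp [hP i (Nat.zero_le _), hP' i (Nat.zero_le _)]
          simp [this]; omega
        · have h1 : (P + P').natDegree ≤ k - 1 := natDegree_le_iff_coeff_eq_zero.2 fun i hi => by
            rw [coeff_add, hP i (by omega), hP' i (by omega), add_zero]
          have := natDegree_mul_le (p := (X : F[X]) ^ (k + 1)) (q := P + P')
          simp only [natDegree_X_pow] at this
          omega
    have hlt : ∀ i, i < R.natDegree → (X ^ i : F[X]).degree < R.degree := fun i hi => by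
      rw [degree_X_pow, degree_eq_natDegree hR.out.ne_zero]; exact_mod_cast hi
    have h1 : qR R (t ^ k, 0) = 1 := by
      rw [qR_apply, mul_zero, add_zero, mul_zero, add_zero, ← AdjoinRoot.mk_X]
      dsimp only
      rw [hmkX, ← map_mul, ← map_mul,
        ← pow_add, ← pow_succ', lam_mk_lt R (hlt _ (by omega)), coeff_X_pow, if_pos (by omega)]
    have h2 : qR R (t ^ (k + 1), t ^ (k + 1)) = c := by
      rw [qR_apply, ← pow_add, show k + 1 + (k + 1) = R.natDegree by omega]
      rw [show t ^ R.natDegree + t ^ R.natDegree = 0 from vadd_self F _, mul_zero, zero_add, hmkX, lam_mk_pow_top R h]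
    have h3 : B (t ^ k, 0) (t ^ (k + 1), t ^ (k + 1)) = 1 := by
      show QuadraticMap.polarBilin (qR R) _ _ = 1
      rw [qR_polar, mul_zero, add_zero, ← pow_add, hmkX, lam_mk_lt R (hlt _ (by omega)), coeff_X_pow, if_pos (by omega)]
    refine ⟨Nat.card (LinearMap.range φ) * Nat.card F, Nat.mul_pos Nat.card_pos Nat.card_pos, ?_⟩
    rw [gauss_reduce (B := B) hnd hsym (fun v => qR_alt R v) hq hsm (LinearMap.range φ) (fun w hw => (horth w hw).1)
      (fun w hw => (horth w hw).2.1) (fun w hw => (horth w hw).2.2) h3 (by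
        rw [LinearMap.finrank_range_of_inj hinj, finrank_R]
        simp [Module.finrank_prod]
        omega), plane_general, h1, h2, one_mul]
    push_cast; ring
  · let φ : (Fin k → F) × (Fin k → F) →ₗ[F] AdjoinRoot R × AdjoinRoot R := LinearMap.prodMap (low R k) (low R k)
    have hinj : Function.Injective φ := fun a b hab =>
      Prod.ext (low_injective R (by omega) (congrArg Prod.fst hab)) (low_injective R (by omega) (congrArg Prod.snd hab))
    have horth : ∀ w ∈ LinearMap.range φ, qR R w = 0 ∧ B (t ^ k, 0) w = 0 ∧ B (0, t ^ k) w = 0 := by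
      rintro _ ⟨x, rfl⟩
      rcases Nat.eq_zero_or_pos k with rfl | hk0
      · have : x = 0 := Subsingleton.elim _ _
        subst this
        simp
      have d1 := hmk k _ hk0 (low_degree k x.1)
      have d2 := hmk k _ hk0 (low_degree k x.2)
      refine ⟨?_, ?_, ?_⟩
      · rw [qR_apply, ← AdjoinRoot.mk_X]
        show lam R (_ * (low R k x.1 * low R k x.1 + low R k x.2 * low R k x.2) + low R k x.1 * low R k x.2) = 0
        simp only [low_eq, ← map_mul, ← map_add]
        refine lam_small R ?_
        set P : F[X] := ((degreeLTEquiv F k).symm x.1 : F[X])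
        set P' : F[X] := ((degreeLTEquiv F k).symm x.2 : F[X])
        have m1 := natDegree_mul_le (p := P) (q := P)
        have m2 := natDegree_mul_le (p := P') (q := P')
        have m3 := natDegree_mul_le (p := P) (q := P')
        have m4 := natDegree_add_le (P * P) (P' * P')
        have m5 := natDegree_mul_le (p := (X : F[X])) (q := P * P + P' * P')
        have m6 := natDegree_add_le (X * (P * P + P' * P')) (P * P')
        simp only [natDegree_X] at m5
        omega
      · show QuadraticMap.polarBilin (qR R) _ (low R k x.1, low R k x.2) = 0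
        rw [qR_polar]
        simp only [mul_zero, add_zero, hmkX, low_eq, ← map_mul]
        refine lam_small R ?_
        have := natDegree_mul_le (p := (X : F[X]) ^ k) (q := ((degreeLTEquiv F k).symm x.2 : F[X]))
        simp only [natDegree_X_pow] at this
        omega
      · show QuadraticMap.polarBilin (qR R) _ (low R k x.1, low R k x.2) = 0
        rw [qR_polar]
        simp only [zero_mul, zero_add, hmkX, low_eq, ← map_mul]
        refine lam_small R ?_
        have := natDegree_mul_le (p := ((degreeLTEquiv F k).symm x.1 : F[X])) (q := (X : F[X]) ^ k)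
        simp only [natDegree_X_pow] at this
        omega
    have h1 : qR R (t ^ k, 0) = c ∧ qR R (0, t ^ k) = c := by
      constructor <;>
        rw [qR_apply] <;> simp only [mul_zero, zero_mul, add_zero, zero_add] <;>
        rw [← pow_add, ← pow_succ', hmkX, show k + k + 1 = R.natDegree by omega, lam_mk_pow_top R h]
    have h3 : B (t ^ k, 0) (0, t ^ k) = 1 := by
      show QuadraticMap.polarBilin (qR R) _ _ = 1
      rw [qR_polar, zero_mul, add_zero, ← pow_add, hmkX, lam_mk_lt R (by
        rw [degree_X_pow, degree_eq_natDegree hR.out.ne_zero]; exact_mod_cast (by omega : k + k < R.natDegree)),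
        coeff_X_pow, if_pos (by omega)]
    refine ⟨Nat.card (LinearMap.range φ) * Nat.card F, Nat.mul_pos Nat.card_pos Nat.card_pos, ?_⟩
    rw [gauss_reduce (B := B) hnd hsym (fun v => qR_alt R v) hq hsm (LinearMap.range φ) (fun w hw => (horth w hw).1)
      (fun w hw => (horth w hw).2.1) (fun w hw => (horth w hw).2.2) h3 (by
        rw [LinearMap.finrank_range_of_inj hinj, finrank_R]
        simp [Module.finrank_prod]
        omega), plane_general, h1.1, h1.2, chi_sq]
    push_cast; ring

/-! ### The element -/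

variable [h0 : Fact (R.coeff 0 ≠ 0)]

theorem root_unit : IsUnit (AdjoinRoot.root R) := by
  refine isUnit_of_dvd_one ⟨AdjoinRoot.mk R (C (R.coeff 0)⁻¹ * R.divX), ?_⟩
  rw [← AdjoinRoot.mk_X, ← map_mul, ← map_one (AdjoinRoot.mk R), AdjoinRoot.mk_eq_mk]
  refine ⟨-C (R.coeff 0)⁻¹, ?_⟩
  have e := X_mul_divX_add R
  have hC : C (R.coeff 0)⁻¹ * C (R.coeff 0) = (1 : F[X]) := by rw [← C_mul, inv_mul_cancel₀ h0.out, C_1]
  linear_combination C (R.coeff 0)⁻¹ * e - hC + (C (R.coeff 0)⁻¹ * R - C (R.coeff 0)⁻¹ * X * R.divX) * CharTwo.two_eq_zero (R := F[X])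

/-- `s = t⁻¹`. -/
noncomputable def sR : AdjoinRoot R := ↑((root_unit R).unit⁻¹)

theorem root_mul_sR : AdjoinRoot.root R * sR R = 1 := (root_unit R).mul_val_inv

/-- The element. -/
noncomputable def gR : (AdjoinRoot R × AdjoinRoot R) ≃ₗ[F] AdjoinRoot R × AdjoinRoot R where
  toFun x := (x.2, x.1 + sR R * x.2)
  invFun x := (x.2 + sR R * x.1, x.1)
  map_add' x y := by ext <;> simp [mul_add]; ring
  map_smul' c x := by ext <;> simp
  left_inv x := by
    refine Prod.ext ?_ rfl
    show x.1 + sR R * x.2 + sR R * x.2 = x.1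
    rw [add_assoc, vadd_self F, add_zero]
  right_inv x := by
    refine Prod.ext rfl ?_
    show x.2 + sR R * x.1 + sR R * x.1 = x.2
    rw [add_assoc, vadd_self F, add_zero]

theorem qR_gR (x : AdjoinRoot R × AdjoinRoot R) : qR R (gR R x) = qR R x := by
  show qR R (x.2, x.1 + sR R * x.2) = _
  rw [qR_apply, qR_apply]
  congr 1
  have h2 : (2 : AdjoinRoot R) = 0 := by
    rw [show (2 : AdjoinRoot R) = algebraMap F (AdjoinRoot R) 2 from (map_ofNat _ 2).symm, CharTwo.two_eq_zero, map_zero]
  linear_combination (sR R * x.2 * x.2) * root_mul_sR R +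
    (AdjoinRoot.root R * x.1 * sR R * x.2 + sR R * x.2 * x.2) * h2

theorem gR_add_symm (x : AdjoinRoot R × AdjoinRoot R) :
    gR R x + (gR R).symm x = (sR R * x.1, sR R * x.2) := by
  show ((x.2, x.1 + sR R * x.2) : AdjoinRoot R × AdjoinRoot R) + (x.2 + sR R * x.1, x.1) = _
  refine Prod.ext ?_ ?_
  · show x.2 + (x.2 + sR R * x.1) = sR R * x.1
    rw [← add_assoc, vadd_self F, zero_add]
  · show x.1 + sR R * x.2 + x.1 = sR R * x.2
    rw [add_right_comm, vadd_self F, zero_add]

theorem aeval_reverse (P : F[X]) :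
    aeval (sR R) P.reverse * AdjoinRoot.root R ^ P.natDegree = AdjoinRoot.mk R P := by
  letI : Invertible (AdjoinRoot.root R) :=
    ⟨sR R, by rw [mul_comm]; exact root_mul_sR R, root_mul_sR R⟩
  have h := eval₂_reverse_mul_pow (algebraMap F (AdjoinRoot R)) (AdjoinRoot.root R) P
  rw [show ⅟ (AdjoinRoot.root R) = sR R from rfl] at h
  rw [← AdjoinRoot.aeval_eq, aeval_def, aeval_def]
  exact h

theorem tag_self : aeval (sR R) (X * R.reverse) = 0 := by
  have h := aeval_reverse R R
  rw [AdjoinRoot.mk_self] at h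
  rw [map_mul, ((root_unit R).pow R.natDegree).mul_left_eq_zero.1 h, mul_zero]

theorem tag_dvd {P : F[X]} (h : aeval (sR R) (X * P.reverse) = 0) : R ∣ P := by
  rw [map_mul, aeval_X] at h
  have hs : IsUnit (sR R) := ((root_unit R).unit⁻¹).isUnit
  have h1 := aeval_reverse R P
  rw [hs.mul_right_eq_zero.1 h, zero_mul] at h1
  exact AdjoinRoot.mk_eq_zero.1 h1.symm

end Cfsg.Agent.CharTwoClass
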