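import Cfsg.Agent.Lib.CharTwoClass.Norm
import Mathlib.LinearAlgebra.Dimension.Constructions
import Mathlib.Algebra.BigOperators.Finprod

/-!
# The sign of a quadratic form in characteristic two

* `gauss` : the sum of `± 1` over the values of `q`, with `gauss² = |V|`;
* `gauss_split` : it is multiplicative;
* `Form.gauss_flip` : the two values of a bit give opposite sums.
-/

set_option autoImplicit false
set_option linter.unusedVariables false
set_option linter.unusedSectionVars false
set_option linter.style.haveILetI false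

open Polynomial
open scoped Classical

namespace Cfsg.Agent.CharTwoClass

universe u v w

variable {F : Type u} [Field F] [CharP F 2] [Finite F]

/-- The additive character with kernel `γ + γ²`. -/
noncomputable def chi (a : F) : ℤ := if a ∈ (artin F).range then 1 else -1

theorem chi_zero : chi (0 : F) = 1 := if_pos (zero_mem _)

theorem chi_tau : chi (tau F) = -1 := if_neg fun ⟨g, hg⟩ => tau_spec F g hg

theorem chi_add (a b : F) : chi (a + b) = chi a * chi b := by
  have h := AddSubgroup.add_mem_iff_of_index_two (index_artin F) (a := a) (b := b)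
  unfold chi
  by_cases ha : a ∈ (artin F).range <;> by_cases hb : b ∈ (artin F).range <;> simp_all

theorem chi_mul_self (a : F) : chi a * chi a = 1 := by rw [← chi_add, CharTwo.add_self_eq_zero, chi_zero]

theorem chi_sq (s : F) : chi (s * s) = chi s := by
  have h : chi (s + s * s) = 1 := if_pos ⟨s, rfl⟩
  rw [chi_add] at h
  linear_combination chi s * h - chi (s * s) * chi_mul_self s

/-- The sum of signs. -/
noncomputable def gauss {V : Type v} (q : V → F) : ℤ := ∑ᶠ v, chi (q v)

theorem gauss_equiv {V : Type v} {W : Type w} (θ : V ≃ W) {q : V → F} {q' : W → F} (h : ∀ v, q' (θ v) = q v) :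
    gauss q' = gauss q := by
  rw [gauss, gauss, ← finsum_comp_equiv θ]
  simp only [h]

theorem gauss_prod {V : Type v} {W : Type w} [Finite V] [Finite W] (q : V → F) (q' : W → F) :
    gauss (fun x : V × W => q x.1 + q' x.2) = gauss q * gauss q' := by
  haveI := Fintype.ofFinite V
  haveI := Fintype.ofFinite W
  simp only [gauss, finsum_eq_sum_of_fintype, chi_add, Finset.sum_mul_sum, Fintype.sum_prod_type]

variable {V : Type v} [AddCommGroup V] [Module F V] [FiniteDimensional F V]
  {V' : Type w} [AddCommGroup V'] [Module F V']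

/-- The signs of a non-zero functional add to zero. -/
theorem sum_chi_linear [Fintype V] (f : V →ₗ[F] F) :
    ∑ v, chi (f v) = if f = 0 then (Fintype.card V : ℤ) else 0 := by
  split_ifs with h
  · simp [h, chi_zero]
  · obtain ⟨v0, hv0⟩ : ∃ v, f v ≠ 0 := by
      by_contra! h0; exact h (LinearMap.ext h0)
    set t := (tau F / f v0) • v0
    have ht : f t = tau F := by rw [map_smul, smul_eq_mul, div_mul_cancel₀ _ hv0]
    have := Fintype.sum_equiv (Equiv.addRight t) (fun v => chi (f (v + t))) (fun v => chi (f v)) fun v => rfl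
    simp only [map_add, ht, chi_add, chi_tau, mul_neg, mul_one, Finset.sum_neg_distrib] at this
    omega

variable {B : LinearMap.BilinForm F V} {q : V → F}

/-- The square of the sum is the order. -/
theorem gauss_mul_self (nd : ∀ v, (∀ w, B v w = 0) → v = 0) (hsym : ∀ v w, B v w = B w v) (hq0 : q 0 = 0)
    (hq : ∀ v w, q (v + w) = q v + q w + B v w) : gauss q * gauss q = Nat.card V := by
  haveI : Finite V := Module.finite_of_finite F
  haveI := Fintype.ofFinite V
  simp only [gauss, finsum_eq_sum_of_fintype, Finset.sum_mul_sum]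
  have h1 : ∀ v, ∑ w, chi (q v) * chi (q w) = ∑ u, chi (q u) * chi (B v u) := fun v => by
    rw [← Equiv.sum_comp (Equiv.addLeft v) (fun w => chi (q v) * chi (q w))]
    refine Finset.sum_congr rfl fun u _ => ?_
    simp only [Equiv.coe_addLeft, hq, chi_add]
    linear_combination (chi (q u) * chi (B v u)) * chi_mul_self (q v)
  rw [Finset.sum_congr rfl fun v _ => h1 v, Finset.sum_comm, Finset.sum_eq_single 0]
  · rw [← Finset.mul_sum]
    simp [hq0, chi_zero, Nat.card_eq_fintype_card]
  · intro u _ hu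
    rw [← Finset.mul_sum]
    simp only [fun v => hsym v u]
    rw [sum_chi_linear, if_neg fun h => hu (nd u fun w => by rw [h]; rfl), mul_zero]
  · simp

theorem plane_zero (a : F) {b : F} (hb : b = 0) :
    gauss (fun x : F × F => x.1 * x.1 * a + x.2 * x.2 * b + x.1 * x.2) = Nat.card F := by
  subst hb
  haveI := Fintype.ofFinite F
  simp only [gauss, finsum_eq_sum_of_fintype, Fintype.sum_prod_type, mul_zero, add_zero, chi_add, ← Finset.mul_sum]
  rw [Finset.sum_eq_single 0]
  · simp [chi_zero, Nat.card_eq_fintype_card]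
  · intro s _ hs
    rw [show (fun t => chi (s * t)) = fun t => chi ((LinearMap.mulLeft F s) t) from rfl, sum_chi_linear,
      if_neg fun h => hs (by simpa using LinearMap.congr_fun h 1), mul_zero]
  · simp

theorem plane_one_tau :
    gauss (fun x : F × F => x.1 * x.1 * 1 + x.2 * x.2 * tau F + x.1 * x.2) = -(Nat.card F : ℤ) := by
  haveI := Fintype.ofFinite F
  simp only [gauss, finsum_eq_sum_of_fintype, Fintype.sum_prod_type]
  rw [Finset.sum_comm, ← Finset.add_sum_erase _ _ (Finset.mem_univ (0 : F))]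
  have h0 : ∑ s : F, chi (s * s * 1 + 0 * 0 * tau F + s * 0) = 0 := by
    simp only [mul_one, mul_zero, zero_mul, add_zero, chi_sq]
    have := sum_chi_linear (LinearMap.id : F →ₗ[F] F)
    rw [if_neg fun h => one_ne_zero (LinearMap.congr_fun h 1)] at this
    exact this
  have h1 : ∀ t ∈ (Finset.univ : Finset F).erase 0,
      ∑ s : F, chi (s * s * 1 + t * t * tau F + s * t) = ∑ r : F, chi (t * t * (r * r + r + tau F)) := fun t ht => by
    rw [← Equiv.sum_comp (Equiv.mulLeft₀ t (Finset.ne_of_mem_erase ht))]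
    refine Finset.sum_congr rfl fun r _ => ?_
    show chi ((t * r) * (t * r) * 1 + t * t * tau F + (t * r) * t) = _
    congr 1
    ring
  rw [h0, zero_add, Finset.sum_congr rfl h1, Finset.sum_comm, Finset.sum_congr rfl (g := fun _ => (-1 : ℤ))]
  · simp [Nat.card_eq_fintype_card]
  intro r _
  set k := r * r + r + tau F
  have hk : k ≠ 0 := fun h => tau_spec F r (by rw [add_comm]; exact CharTwo.add_eq_zero.1 h)
  have hsum := sum_chi_linear (LinearMap.mulRight F k)
  rw [if_neg fun h => hk (by simpa using LinearMap.congr_fun h 1)] at hsum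
  have hb : Function.Bijective (fun t : F => t * t) :=
    ⟨fun a b h => CharTwo.add_eq_zero.1 (mul_self_eq_zero.1
      (show (a + b) * (a + b) = 0 by rw [CharTwo.add_mul_self]; exact CharTwo.add_eq_zero.2 h)),
     fun a => exists_sq F a⟩
  rw [← hb.sum_comp (fun u => chi ((LinearMap.mulRight F k) u)), ← Finset.add_sum_erase _ _ (Finset.mem_univ (0 : F))]
    at hsum
  simp only [LinearMap.mulRight_apply, mul_zero, zero_mul, chi_zero] at hsum
  omega

theorem plane_swap (a b : F) :
    gauss (fun x : F × F => x.1 * x.1 * a + x.2 * x.2 * b + x.1 * x.2) =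
      gauss (fun x : F × F => x.1 * x.1 * b + x.2 * x.2 * a + x.1 * x.2) :=
  gauss_equiv (Equiv.prodComm F F) fun x => by simp only [Equiv.prodComm_apply, Prod.swap]; ring

/-- A totally singular subspace with a plane above it. -/
theorem gauss_reduce (nd : ∀ v, (∀ w, B v w = 0) → v = 0) (hsym : ∀ v w, B v w = B w v) (halt : ∀ v, B v v = 0)
    (hq : ∀ v w, q (v + w) = q v + q w + B v w) (hsm : ∀ (a : F) v, q (a • v) = a * a * q v)
    (W : Submodule F V) (hW : ∀ w ∈ W, q w = 0) {u v : V} (hu : ∀ w ∈ W, B u w = 0) (hv : ∀ w ∈ W, B v w = 0)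
    (huv : B u v = 1) (hd : Module.finrank F V = 2 * Module.finrank F W + 2) :
    gauss q = Nat.card W * gauss (fun x : F × F => x.1 * x.1 * q u + x.2 * x.2 * q v + x.1 * x.2) := by
  haveI : Finite V := Module.finite_of_finite F
  haveI := Fintype.ofFinite V
  haveI := Fintype.ofFinite W
  haveI := Fintype.ofFinite F
  let P : W × F × F →ₗ[F] V :=
    W.subtype.coprod ((LinearMap.toSpanSingleton F V u).coprod (LinearMap.toSpanSingleton F V v))
  have hP : ∀ x : W × F × F, P x = (x.1 : V) + (x.2.1 • u + x.2.2 • v) := fun x => rfl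
  have hWW : ∀ a ∈ W, ∀ b ∈ W, B a b = 0 := fun a ha b hb => by
    have h := hq a b
    rw [hW _ (add_mem ha hb), hW _ ha, hW _ hb] at h
    simpa using h.symm
  have hPinj : Function.Injective P := (injective_iff_map_eq_zero P).2 fun x hx => by
    rw [hP] at hx
    have e1 := congrArg (fun z => B z v) hx
    have e2 := congrArg (fun z => B z u) hx
    simp [hsym (x.1 : V) u, hsym (x.1 : V) v, hu _ x.1.2, hv _ x.1.2, huv, hsym v u, halt] at e1 e2
    rw [e1, e2, zero_smul, zero_smul, add_zero, add_zero, ZeroMemClass.coe_eq_zero] at hx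
    exact Prod.ext hx (Prod.ext e1 e2)
  have horth : LinearMap.range P = B.orthogonal W := by
    refine Submodule.eq_of_le_of_finrank_le ?_ ?_
    · rintro _ ⟨x, rfl⟩ w hw
      show B w (P x) = 0
      rw [hP]
      simp [hWW w hw _ x.1.2, hsym w u, hsym w v, hu w hw, hv w hw]
    · have h1 := LinearMap.BilinForm.finrank_orthogonal (B := B)
        ⟨nd, fun a h => nd a fun w => by rw [hsym]; exact h w⟩ W
      rw [LinearMap.finrank_range_of_inj hPinj, Module.finrank_prod, Module.finrank_prod, Module.finrank_self]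
      omega
  have hmem : ∀ x, (∀ w ∈ W, B x w = 0) ↔ x ∈ LinearMap.range P := fun x => by
    rw [horth, LinearMap.BilinForm.mem_orthogonal_iff]
    exact forall₂_congr fun w hw => by rw [hsym]
  have key : (Nat.card W : ℤ) * gauss q = Nat.card W * (Nat.card W *
      gauss (fun x : F × F => x.1 * x.1 * q u + x.2 * x.2 * q v + x.1 * x.2)) := by
    calc (Nat.card W : ℤ) * gauss q = ∑ w : W, ∑ x : V, chi (q (x + (w : V))) := by
          rw [Finset.sum_congr rfl (g := fun _ : W => ∑ x : V, chi (q x)) fun w _ =>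
            Fintype.sum_equiv (Equiv.addRight (w : V)) (fun x => chi (q (x + (w : V)))) (fun x => chi (q x)) fun x => rfl]
          simp [gauss, finsum_eq_sum_of_fintype, Nat.card_eq_fintype_card]
      _ = ∑ x : V, chi (q x) * ∑ w : W, chi ((B x).comp W.subtype w) := by
          rw [Finset.sum_comm]
          refine Finset.sum_congr rfl fun x _ => ?_
          rw [Finset.mul_sum]
          refine Finset.sum_congr rfl fun w _ => ?_
          rw [hq, hW _ w.2, add_zero, chi_add]
          rfl
      _ = ∑ x ∈ Finset.univ.filter (fun x => x ∈ LinearMap.range P), (Nat.card W : ℤ) * chi (q x) := by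
          rw [Finset.sum_filter]
          refine Finset.sum_congr rfl fun x _ => ?_
          rw [sum_chi_linear, Nat.card_eq_fintype_card]
          by_cases h : x ∈ LinearMap.range P
          · rw [if_pos h, if_pos (LinearMap.ext fun w : W => (hmem x).2 h w w.2), mul_comm]
          · rw [if_neg h, if_neg fun h0 => h ((hmem x).1 fun w hw => LinearMap.congr_fun h0 ⟨w, hw⟩), mul_zero]
      _ = _ := by
          rw [show (Finset.univ.filter fun x => x ∈ LinearMap.range P) = Finset.univ.image P by
            ext x; simp [LinearMap.mem_range, eq_comm]]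
          rw [Finset.sum_image fun a _ b _ h => hPinj h, gauss, finsum_eq_sum_of_fintype,
            Fintype.sum_prod_type, Nat.card_eq_fintype_card]
          conv_rhs => rw [mul_left_comm, Finset.mul_sum, Finset.mul_sum]
          rw [Finset.sum_comm]
          refine Finset.sum_congr rfl fun x _ => ?_
          rw [Finset.sum_congr rfl (g := fun _ => (Fintype.card W : ℤ) * chi (x.1 * x.1 * q u + x.2 * x.2 * q v + x.1 * x.2))]
          · simp
          intro w _
          rw [hP, hq, hW _ w.2, hq, hsm, hsm]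
          congr 2
          simp [hsym (w : V) u, hsym (w : V) v, hu _ w.2, hv _ w.2, huv]
          ring
  exact mul_left_cancel₀ (by exact_mod_cast Nat.card_pos.ne') key

namespace Sys

variable {S : Sys F V} {m e : ℕ} {xs : Fin m → V}

/-- The sum over the module of a tuple. -/
noncomputable def spanGauss (S : Sys F V) (xs : Fin m → V) : ℤ :=
  gauss fun v : LinearMap.range (S.span xs) => S.q v

theorem isCompl_span (hx : S.TopUnit xs e) : IsCompl (LinearMap.range (S.span xs)) (S.perp xs) := by
  refine ⟨Submodule.disjoint_def.2 ?_, codisjoint_iff.2 (eq_top_iff.2 fun v _ => ?_)⟩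
  · rintro _ ⟨p, rfl⟩ h; exact S.span_mem_perp hx h
  · obtain ⟨p, z, hz, rfl⟩ := S.exists_decomp hx v
    exact Submodule.add_mem_sup ⟨p, rfl⟩ hz

theorem gauss_split (hx : S.TopUnit xs e) : gauss S.q = S.spanGauss xs * gauss (S.compl hx).q := by
  haveI : Finite V := Module.finite_of_finite F
  rw [spanGauss, ← gauss_prod]
  refine gauss_equiv (Submodule.prodEquivOfIsCompl _ _ (isCompl_span hx)).toEquiv fun x => ?_
  obtain ⟨⟨_, p, rfl⟩, z, hz⟩ := x
  show S.q (S.span xs p + z) = S.q (S.span xs p) + S.q z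
  rw [S.q_add, hz p, mul_zero, add_zero]

theorem gauss_ne_zero (hc : S.c = 1) : gauss S.q ≠ 0 := by
  haveI : Finite V := Module.finite_of_finite F
  intro h
  have h2 := gauss_mul_self (q := S.q) S.nd S.comm S.q_zero fun v w => by rw [S.q_add, hc, one_mul]
  rw [h, zero_mul] at h2
  exact Nat.card_pos.ne' (by exact_mod_cast h2.symm : Nat.card V = 0)

theorem Same.spanGauss_eq [FiniteDimensional F V'] {S' : Sys F V'} {xs' : Fin m → V'} (h : Same S xs S' xs')
    (hx : S.TopUnit xs e) (hx' : S'.TopUnit xs' e) : S'.spanGauss xs' = S.spanGauss xs := by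
  have hk : LinearMap.ker (S.span xs) = LinearMap.ker (S'.span xs') := by
    ext p; simp only [LinearMap.mem_ker, S.span_eq_zero_iff hx, S'.span_eq_zero_iff hx']
  let θ := (S.span xs).quotKerEquivRange.symm.trans
    ((Submodule.quotEquivOfEq _ _ hk).trans (S'.span xs').quotKerEquivRange)
  refine gauss_equiv θ.toEquiv fun v => ?_
  obtain ⟨_, p, rfl⟩ := v
  have : (θ ⟨S.span xs p, p, rfl⟩ : V') = S'.span xs' p := by
    simp only [θ, LinearEquiv.trans_apply]
    rw [show (⟨S.span xs p, p, rfl⟩ : LinearMap.range (S.span xs)) =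
      (S.span xs).quotKerEquivRange (Submodule.Quotient.mk p) from Subtype.ext rfl, LinearEquiv.symm_apply_apply,
      Submodule.quotEquivOfEq_mk]
    rfl
  show S'.q (θ _ : V') = S.q (S.span xs p)
  rw [this, h.q_span]

/-- The chains of the tuple from height `i0` on. -/
noncomputable def tail (S : Sys F V) (xs : Fin m → V) (e i0 : ℕ) : (Fin m → Fin (e - i0) → F) →ₗ[F] V :=
  ∑ a : Fin m, ∑ i : Fin (e - i0),
    (LinearMap.toSpanSingleton F V ((S.N ^ (i0 + i)) (xs a))) ∘ₗ
      ((LinearMap.proj i : (Fin (e - i0) → F) →ₗ[F] F) ∘ₗ LinearMap.proj a)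

theorem tail_apply (i0 : ℕ) (c : Fin m → Fin (e - i0) → F) :
    S.tail xs e i0 c = ∑ a, ∑ i : Fin (e - i0), c a i • (S.N ^ (i0 + i)) (xs a) := by
  simp [tail, LinearMap.sum_apply]

theorem tail_eq_span (i0 : ℕ) (c : Fin m → Fin (e - i0) → F) :
    S.tail xs e i0 c = S.span xs fun a => ∑ i : Fin (e - i0), C (c a i) * X ^ (i0 + i : ℕ) := by
  rw [tail_apply, span_apply]
  refine Finset.sum_congr rfl fun a _ => ?_
  rw [map_sum, LinearMap.sum_apply]
  simp

theorem finrank_tail (hx : S.TopUnit xs e) (i0 : ℕ) :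
    Module.finrank F (LinearMap.range (S.tail xs e i0)) = m * (e - i0) := by
  rw [LinearMap.finrank_range_of_inj]
  · simp [Module.finrank_pi_fintype]
  refine (injective_iff_map_eq_zero _).2 fun c hc => funext fun a => funext fun i => ?_
  rw [tail_eq_span, S.span_eq_zero_iff hx] at hc
  have h := hc a (i0 + i) (by omega)
  simp only [finset_sum_coeff, coeff_C_mul_X_pow] at h
  rw [Finset.sum_eq_single i (fun j _ hj => if_neg fun hh => hj (Fin.ext (by omega))) (by simp), if_pos rfl] at h
  exact h

theorem range_tail_zero (hx : S.TopUnit xs e) :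
    LinearMap.range (S.tail xs e 0) = LinearMap.range (S.span xs) := by
  refine le_antisymm ?_ ?_
  · rintro _ ⟨c, rfl⟩; exact ⟨_, (tail_eq_span 0 c).symm⟩
  · rintro _ ⟨p, rfl⟩
    refine ⟨fun a i => (p a).coeff i, ?_⟩
    rw [tail_apply, S.span_eq_sum_coeff hx.2.1]
    refine Finset.sum_congr rfl fun a _ => ?_
    rw [← Fin.sum_univ_eq_sum_range (fun i => (p a).coeff i • (S.N ^ i) (xs a)) e]
    simp only [Nat.zero_add]
    rfl

theorem adj_pow (k : ℕ) (v w : V) : S.B ((S.N ^ k) v) w = S.B v ((S.R ^ k) ((S.N ^ k) w)) := by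
  have h : ∀ v w, S.B ((S.N ^ k) v) w = S.B v (((S.N + S.T) ^ k) w) := by
    induction k with
    | zero => exact fun v w => rfl
    | succ k ih =>
      intro v w
      rw [pow_succ', Module.End.mul_apply, S.adj, ih, ← Module.End.mul_apply, ← pow_succ]
  rw [h, S.N_add_T, S.comm_R.mul_pow, (S.comm_R.pow_pow k k).eq, Module.End.mul_apply]

theorem B_pow_eq_zero (hN : S.N ^ e = 0) {i j : ℕ} (h : e ≤ i + j) (v w : V) :
    S.B ((S.N ^ i) v) ((S.N ^ j) w) = 0 := by
  rw [S.adj_pow, ← Module.End.mul_apply (S.N ^ i), ← pow_add, S.pow_zero_of_le h (by rw [hN]; rfl), map_zero, map_zero]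

theorem q_Npow (hc : S.c = 1) (i : ℕ) (x : V) : S.q ((S.N ^ i) x) = S.dl i x := by
  rcases i with - | i
  · rfl
  · rw [pow_succ', Module.End.mul_apply, S.q_N, hc, one_mul, S.dl_Npow]
    congr 1
    omega

theorem B_Npow_succ (hc : S.c = 1) (i : ℕ) (x : V) :
    S.B ((S.N ^ i) x) ((S.N ^ (i + 1)) x) = S.q ((S.N ^ (i + 1)) x) := by
  rw [pow_succ', Module.End.mul_apply]
  generalize (S.N ^ i) x = z
  have h := S.q_inv z
  rw [S.q_add, hc, one_mul] at h
  linear_combination h - (CharTwo.add_self_eq_zero (S.q (S.N z)))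

theorem B_Npow_mid {h : ℕ} (hN : S.N ^ (2 * h + 1) = 0) (a b : V) :
    S.B ((S.N ^ h) a) ((S.N ^ h) b) = S.p0 h a b := by
  have hv : ∀ v, (S.N ^ (2 * h + 1)) v = 0 := fun v => by rw [hN]; rfl
  rw [S.adj_pow, ← Module.End.mul_apply (S.N ^ h), ← pow_add, ← two_mul, S.Rpow_fix, S.comm, S.p0_symm h b a,
    S.Npow_even (hv b)]
  · rfl
  · rw [← Module.End.mul_apply, ← pow_succ']; exact hv b

/-- The plane of a tuple. -/
theorem spanGauss_eq (hx : S.TopUnit xs e) (hc : S.c = 1) {i0 : ℕ} (hi : m * i0 = m * (e - i0) + 2) (hi' : i0 ≤ e)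
    (hww : e ≤ 2 * i0) (hq0 : ∀ a i, i0 ≤ i → S.q ((S.N ^ i) (xs a)) = 0)
    {a a' : Fin m} {i i' : ℕ} (hw : e ≤ i0 + i) (hw' : e ≤ i0 + i')
    (huv : S.B ((S.N ^ i) (xs a)) ((S.N ^ i') (xs a')) = 1) :
    ∃ k : ℕ, 0 < k ∧ S.spanGauss xs = k * gauss (fun x : F × F =>
      x.1 * x.1 * S.q ((S.N ^ i) (xs a)) + x.2 * x.2 * S.q ((S.N ^ i') (xs a')) + x.1 * x.2) := by
  haveI : Finite V := Module.finite_of_finite F
  set U := LinearMap.range (S.span xs) with hU
  set W' := LinearMap.range (S.tail xs e i0) with hW'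
  have horth : ∀ w ∈ W', ∀ z k, e ≤ i0 + k → S.B w ((S.N ^ k) z) = 0 := by
    rintro _ ⟨c, rfl⟩ z k hk
    rw [tail_apply]
    simp only [map_sum, map_smul, LinearMap.sum_apply, LinearMap.smul_apply]
    exact Finset.sum_eq_zero fun b _ => Finset.sum_eq_zero fun j _ => by
      rw [B_pow_eq_zero hx.2.1 (by omega), smul_zero]
  have hgen : ∀ b j, i0 ≤ j → (S.N ^ j) (xs b) ∈ W' := fun b j hj => by
    by_cases hje : j < e
    · refine ⟨Pi.single b (Pi.single ⟨j - i0, by omega⟩ 1), ?_⟩
      rw [tail_apply, Finset.sum_eq_single b (fun b' _ hb' => by simp [Pi.single_eq_of_ne hb']) (by simp)]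
      rw [Finset.sum_eq_single ⟨j - i0, by omega⟩ (fun j' _ hj' => by simp [Pi.single_eq_of_ne hj']) (by simp)]
      simp [show i0 + (j - i0) = j by omega]
    · rw [S.pow_zero_of_le (e := e) (by omega) (by rw [hx.2.1]; rfl)]; exact zero_mem _
  have hqW : ∀ w ∈ W', S.q w = 0 := by
    rintro _ ⟨c, rfl⟩
    rw [tail_apply]
    refine (Finset.sum_induction _ (fun w => S.q w = 0 ∧ w ∈ W') ?_ ⟨S.q_zero, zero_mem _⟩ fun b _ => ?_).1
    · rintro x y ⟨hx1, hx2⟩ ⟨hy1, hy2⟩
      refine ⟨?_, add_mem hx2 hy2⟩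
      obtain ⟨c', rfl⟩ := hy2
      rw [S.q_add, hx1, hy1, tail_apply]
      simp only [map_sum, map_smul]
      rw [Finset.sum_eq_zero fun b _ => Finset.sum_eq_zero fun j _ => by
        rw [horth x hx2 _ _ (by omega), smul_zero]]
      simp
    · refine Finset.sum_induction _ (fun w => S.q w = 0 ∧ w ∈ W') ?_ ⟨S.q_zero, zero_mem _⟩ fun j _ => ?_
      · rintro x y ⟨hx1, hx2⟩ ⟨hy1, hy2⟩
        refine ⟨?_, add_mem hx2 hy2⟩
        obtain ⟨c', rfl⟩ := hy2
        rw [S.q_add, hx1, hy1, tail_apply]
        simp only [map_sum, map_smul]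
        rw [Finset.sum_eq_zero fun b _ => Finset.sum_eq_zero fun j _ => by
          rw [horth x hx2 _ _ (by omega), smul_zero]]
        simp
      · exact ⟨by rw [S.q_smul, hq0 b _ (by omega), mul_zero], Submodule.smul_mem _ _ (hgen b _ (by omega))⟩
  have hle : W' ≤ U := by
    rintro _ ⟨c, rfl⟩
    exact ⟨_, (tail_eq_span i0 c).symm⟩
  refine ⟨Nat.card (W'.comap U.subtype), Nat.card_pos, ?_⟩
  refine gauss_reduce (B := S.B.restrict U) ?_ (fun v w => S.comm _ _) (fun v => S.alt _)
    (fun v w => ?_) (fun c v => S.q_smul c _) (W'.comap U.subtype) (fun w hw => hqW _ hw)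
    (u := ⟨(S.N ^ i) (xs a), _, S.span_single xs a i⟩) (v := ⟨(S.N ^ i') (xs a'), _, S.span_single xs a' i'⟩)
    (fun w hw1 => ?_) (fun w hw1 => ?_) huv ?_
  · rintro ⟨_, p, rfl⟩ h
    refine Subtype.ext (S.span_mem_perp hx fun p' => ?_)
    rw [S.comm]; exact h ⟨_, p', rfl⟩
  · show S.q ((v : V) + (w : V)) = _
    rw [S.q_add, hc, one_mul]
    rfl
  · show S.B ((S.N ^ i) (xs a)) (w : V) = 0
    rw [S.comm]; exact horth _ hw1 _ _ hw
  · show S.B ((S.N ^ i') (xs a')) (w : V) = 0
    rw [S.comm]; exact horth _ hw1 _ _ hw'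
  · rw [LinearEquiv.finrank_eq (Submodule.comapSubtypeEquivOfLe hle), hW', finrank_tail hx, hU,
      ← range_tail_zero hx, finrank_tail hx, Nat.sub_zero]
    calc m * e = m * i0 + m * (e - i0) := by rw [← Nat.mul_add, Nat.add_sub_cancel' hi']
      _ = _ := by omega

variable [FiniteDimensional F V']

/-- The two values of a bit give opposite sums. -/
theorem Form.gauss_flip {S' : Sys F V'} {m' : ℕ} {xs' : Fin m' → V'} (hc : S.c = 1) (hc' : S'.c = 1)
    (hE : ∀ j, S'.Eps j ↔ S.Eps j) (hf : S.Form e xs true) (hf' : S'.Form e xs' false)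
    (hx : S.TopUnit xs e) (hx' : S'.TopUnit xs' e) :
    ∃ k k' : ℕ, 0 < k ∧ 0 < k' ∧ S.spanGauss xs = -(k : ℤ) ∧ S'.spanGauss xs' = k' := by
  have hF : 0 < Nat.card F := Nat.card_pos
  generalize he' : e = e' at hf'
  cases hf with
  | top h x _ hS hd =>
    cases hf' with
    | even h' x' y' hS' =>
      obtain rfl : h' = h := by omega
      exact absurd ((hE h').2 hS) hS'
    | odd h' x' y' => omega
    | top h' x' _ hS' hd' =>
      obtain rfl : h' = h := by omega
      have q1 : ∀ i, h' + 2 ≤ i → S.dl i x = 0 := fun i hi => by rw [hd, if_neg (by omega), if_neg (by omega)]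
      have q1' : ∀ i, h' + 2 ≤ i → S'.dl i x' = 0 := fun i hi => by rw [hd', if_neg (by omega), if_neg (by omega)]
      obtain ⟨k, hk, e1⟩ := spanGauss_eq hx hc (i0 := h' + 2) (by omega) (by omega) (by omega)
        (fun a i hi => by rw [Subsingleton.elim a 0, q_Npow hc]; exact q1 i hi) (a := 0) (a' := 0)
        (i := h') (i' := h' + 1) (by omega) (by omega)
        (by rw [B_Npow_succ hc, q_Npow hc]; show S.dl (h' + 1) x = 1; rw [hd, if_pos rfl])
      obtain ⟨k', hk', e2⟩ := spanGauss_eq hx' hc' (i0 := h' + 2) (by omega) (by omega) (by omega)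
        (fun a i hi => by rw [Subsingleton.elim a 0, q_Npow hc']; exact q1' i hi) (a := 0) (a' := 0)
        (i := h') (i' := h' + 1) (by omega) (by omega)
        (by rw [B_Npow_succ hc', q_Npow hc']; show S'.dl (h' + 1) x' = 1; rw [hd', if_pos rfl])
      simp only [q_Npow hc, Matrix.cons_val_fin_one, hd, if_pos, if_neg (show h' ≠ h' + 1 by omega), bval] at e1
      simp only [q_Npow hc', Matrix.cons_val_fin_one, hd', if_pos, if_neg (show h' ≠ h' + 1 by omega), bval] at e2
      rw [plane_swap, plane_one_tau] at e1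
      rw [plane_swap, if_neg Bool.false_ne_true, plane_zero _ rfl] at e2
      exact ⟨k * Nat.card F, k' * Nat.card F, Nat.mul_pos hk hF, Nat.mul_pos hk' hF,
        by rw [e1]; push_cast; ring, by rw [e2]; push_cast; ring⟩
  | odd h x y _ h1 h2 h3 h4 =>
    cases hf' with
    | top => omega
    | even => omega
    | odd h' x' y' _ h1' h2' h3' h4' =>
      obtain rfl : h' = h := by omega
      have q1 : ∀ (a : Fin 2) i, h' + 1 ≤ i → S.dl i (![x, y] a) = 0 := fun a i hi => by
        fin_cases a
        · show S.dl i x = 0; rw [h1, if_neg (by omega)]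
        · show S.dl i y = 0; rw [h2, if_neg (by omega)]
      have q1' : ∀ (a : Fin 2) i, h' + 1 ≤ i → S'.dl i (![x', y'] a) = 0 := fun a i hi => by
        fin_cases a
        · show S'.dl i x' = 0; rw [h1', if_neg (by omega)]
        · show S'.dl i y' = 0; rw [h2', if_neg (by omega)]
      obtain ⟨k, hk, e1⟩ := spanGauss_eq hx hc (i0 := h' + 1) (by omega) (by omega) (by omega)
        (fun a i hi => by rw [q_Npow hc]; exact q1 a i hi) (a := 0) (a' := 1) (i := h') (i' := h') (by omega) (by omega)
        (by rw [B_Npow_mid hx.2.1]; show S.p0 h' x y = 1; rw [h3, if_pos rfl])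
      obtain ⟨k', hk', e2⟩ := spanGauss_eq hx' hc' (i0 := h' + 1) (by omega) (by omega) (by omega)
        (fun a i hi => by rw [q_Npow hc']; exact q1' a i hi) (a := 0) (a' := 1) (i := h') (i' := h') (by omega) (by omega)
        (by rw [B_Npow_mid hx'.2.1]; show S'.p0 h' x' y' = 1; rw [h3', if_pos rfl])
      simp only [q_Npow hc, Matrix.cons_val_zero, Matrix.cons_val_one, Matrix.cons_val_fin_one, h1, h2, and_self,
        if_pos, bval] at e1
      simp only [q_Npow hc', Matrix.cons_val_zero, Matrix.cons_val_one, Matrix.cons_val_fin_one, h1', h2',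
        Bool.false_eq_true, and_false, if_pos, if_false, bval] at e2
      rw [plane_one_tau] at e1
      rw [plane_zero _ rfl] at e2
      exact ⟨k * Nat.card F, k' * Nat.card F, Nat.mul_pos hk hF, Nat.mul_pos hk' hF,
        by rw [e1]; push_cast; ring, by rw [e2]; push_cast; ring⟩

end Sys

end Cfsg.Agent.CharTwoClass
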