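import Cfsg.Agent.Lib.CharTwoClass.Code
import Cfsg.Agent.Lib.SpOClassCount.Data

/-!
# Isometries in characteristic two

* `Rep` : a group represented as the isometry group of `(B, q)`;
* `unip` : the system on the generalised fixed space of an element;
* `isConj_of_code` : the primary tuple, `Eps` and the bits determine the class.
-/

set_option autoImplicit false
set_option linter.unusedVariables false
set_option linter.unusedSectionVars false

open Polynomial Matrix
open scoped Classical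

namespace Cfsg.Agent.CharTwoClass

universe u v

variable {F : Type u} [Field F] [CharP F 2] [Finite F]

section BitsOf

variable {V : Type v} [AddCommGroup V] [Module F V] [FiniteDimensional F V]

/-- The bits of a system. -/
noncomputable def bitsOf (S : Sys F V) : ℕ → Bool :=
  (classified (Module.finrank F V)).choose (S.map (Module.finBasis F V).equivFun)

theorem adm_bitsOf (S : Sys F V) : Adm S (bitsOf S) := by
  set S' := S.map (Module.finBasis F V).equivFun
  have hi : Iso S S' := S.map_iso _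
  have h := (classified (Module.finrank F V)).choose_spec.1 S'
  refine ⟨fun j hj => ?_, fun j hj => ?_, fun j => ?_, fun j hj => ?_⟩
  · rw [← hi.mult_eq]; exact h.eps j ((hi.eps_iff j).2 hj)
  · exact (hi.eps_iff j).1 (h.odd j (by rwa [hi.mult_eq]))
  · rw [← hi.mult_eq]; exact h.even j
  · have := h.bit j hj
    rwa [show S'.kap j = S.kap j from rfl, hi.mult_eq, hi.eps_iff, hi.eps_iff] at this

variable {V' : Type v} [AddCommGroup V'] [Module F V'] [FiniteDimensional F V']

theorem iso_of_bitsOf {S : Sys F V} {S' : Sys F V'} (hd : Module.finrank F V' = Module.finrank F V)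
    (hc : S'.c = S.c) (hm : ∀ j, S'.mult j = S.mult j) (hE : ∀ j, S'.Eps j ↔ S.Eps j)
    (hb : bitsOf S' = bitsOf S) : Iso S S' := by
  have gen : ∀ {d d' : ℕ} (T : Sys F (Fin d → F)) (T' : Sys F (Fin d' → F)), d' = d → T'.c = T.c →
      (∀ j, T'.mult j = T.mult j) → (∀ j, T'.Eps j ↔ T.Eps j) →
      (classified d').choose T' = (classified d).choose T → Iso T T' := fun {d d'} T T' hdd h1 h2 h3 h4 => by
    subst hdd; exact (classified d').choose_spec.2.1 T T' h1 h2 h3 h4
  have i1 : Iso S (S.map (Module.finBasis F V).equivFun) := S.map_iso _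
  have i2 : Iso S' (S'.map (Module.finBasis F V').equivFun) := S'.map_iso _
  refine (i1.trans (gen _ _ hd hc (fun j => ?_) (fun j => ?_) hb)).trans i2.symm
  · rw [i2.mult_eq, i1.mult_eq, hm]
  · rw [i2.eps_iff, i1.eps_iff, hE]

theorem gauss_of_bitsOf {S : Sys F V} {S' : Sys F V'} (hd : Module.finrank F V' = Module.finrank F V)
    (hc : S.c = 1) (hc' : S'.c = 1) (hm : ∀ j, S'.mult j = S.mult j) (hE : ∀ j, S'.Eps j ↔ S.Eps j)
    (hb : ∃ j₀, bitsOf S' j₀ ≠ bitsOf S j₀ ∧ ∀ j, j ≠ j₀ → bitsOf S' j = bitsOf S j) :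
    gauss S.q * gauss S'.q < 0 := by
  have gen : ∀ {d d' : ℕ} (T : Sys F (Fin d → F)) (T' : Sys F (Fin d' → F)), d' = d → T.c = 1 → T'.c = 1 →
      (∀ j, T'.mult j = T.mult j) → (∀ j, T'.Eps j ↔ T.Eps j) →
      (∃ j₀, (classified d').choose T' j₀ ≠ (classified d).choose T j₀ ∧
        ∀ j, j ≠ j₀ → (classified d').choose T' j = (classified d).choose T j) →
      gauss T.q * gauss T'.q < 0 := fun {d d'} T T' hdd h1 h2 h3 h4 h5 => by
    subst hdd; exact (classified d').choose_spec.2.2 T T' h1 h2 h3 h4 h5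
  have i1 : Iso S (S.map (Module.finBasis F V).equivFun) := S.map_iso _
  have i2 : Iso S' (S'.map (Module.finBasis F V').equivFun) := S'.map_iso _
  rw [← i1.gauss_eq, ← i2.gauss_eq]
  refine gen _ _ hd hc hc' (fun j => ?_) (fun j => ?_) hb
  · rw [i2.mult_eq, i1.mult_eq, hm]
  · rw [i2.eps_iff, i1.eps_iff, hE]

end BitsOf

variable {ι : Type} [Fintype ι] [DecidableEq ι] {Γ : Type*} [Group Γ]

/-- `ρ` identifies `Γ` with the isometries of `B` and `q`. -/
structure Rep (c : F) (B : LinearMap.BilinForm F (ι → F)) (q : (ι → F) → F) (ρ : Γ →* Matrix ι ι F) : Prop where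
  alt : ∀ v, B v v = 0
  nd : ∀ v, (∀ w, B v w = 0) → v = 0
  cq : c = 1 ∨ (c = 0 ∧ ∀ v, q v = 0)
  q_add : ∀ v w, q (v + w) = q v + q w + c * B v w
  q_smul : ∀ (a : F) v, q (a • v) = a * a * q v
  inj : Function.Injective ρ
  pres : ∀ g v w, B (ρ g *ᵥ v) (ρ g *ᵥ w) = B v w
  pres_q : ∀ g v, q (ρ g *ᵥ v) = q v
  range : ∀ A : Matrix ι ι F, (∀ v w, B (A *ᵥ v) (A *ᵥ w) = B v w) → (∀ v, q (A *ᵥ v) = q v) → ∃ g, ρ g = A

variable {c : F} {B : LinearMap.BilinForm F (ι → F)} {q : (ι → F) → F} {ρ : Γ →* Matrix ι ι F}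
  (R : Rep c B q ρ)

/-- The operator of an element. -/
noncomputable def phi (ρ : Γ →* Matrix ι ι F) (g : Γ) : Module.End F (ι → F) := Matrix.toLin' (ρ g)

/-- `φ - 1`. -/
noncomputable def psi (ρ : Γ →* Matrix ι ι F) (g : Γ) : Module.End F (ι → F) := phi ρ g + 1

/-- The generalised fixed space. -/
noncomputable def fixSp (ρ : Γ →* Matrix ι ι F) (g : Γ) : Submodule F (ι → F) :=
  LinearMap.ker (psi ρ g ^ Fintype.card ι)

/-- Its complement. -/
noncomputable def movSp (ρ : Γ →* Matrix ι ι F) (g : Γ) : Submodule F (ι → F) :=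
  LinearMap.range (psi ρ g ^ Fintype.card ι)

include R

theorem Rep.comm (v w : ι → F) : B v w = B w v := by
  have h := R.alt (v + w)
  simp only [map_add, LinearMap.add_apply, R.alt, zero_add, add_zero] at h
  exact (CharTwo.add_eq_zero.1 h).symm

theorem Rep.nondegenerate : B.Nondegenerate :=
  ⟨R.nd, fun v hv => R.nd v fun w => by rw [R.comm]; exact hv w⟩

omit R

theorem phi_mul (g h : Γ) (v : ι → F) : phi ρ g (phi ρ h v) = phi ρ (g * h) v := by
  simp [phi, map_mul, Matrix.mulVec_mulVec]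

theorem phi_one (v : ι → F) : phi ρ 1 v = v := by simp [phi]

theorem phi_psi_comm (g : Γ) (v : ι → F) : phi ρ g (psi ρ g v) = psi ρ g (phi ρ g v) := by
  simp [psi, map_add]

theorem phi_psi_pow_comm (g : Γ) (k : ℕ) (v : ι → F) :
    phi ρ g ((psi ρ g ^ k) v) = (psi ρ g ^ k) (phi ρ g v) := by
  induction k with
  | zero => rfl
  | succ k ih => rw [pow_succ', Module.End.mul_apply, Module.End.mul_apply, phi_psi_comm, ih]

theorem isCompl_fix_mov (g : Γ) : IsCompl (fixSp ρ g) (movSp ρ g) := by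
  have hd : Module.finrank F (ι → F) = Fintype.card ι := Module.finrank_fintype_fun_eq_card F
  have hdis : Disjoint (fixSp ρ g) (movSp ρ g) := by
    rw [Submodule.disjoint_def]
    rintro _ h ⟨w, rfl⟩
    rw [fixSp, LinearMap.mem_ker, ← Module.End.mul_apply, ← pow_add] at h
    have := Module.End.ker_pow_le_ker_pow_finrank (psi ρ g) _ (LinearMap.mem_ker.2 h)
    rwa [hd, LinearMap.mem_ker] at this
  refine ⟨hdis, codisjoint_iff.2 (Submodule.eq_top_of_disjoint _ _ ?_ hdis)⟩
  rw [add_comm, fixSp, movSp, LinearMap.finrank_range_add_finrank_ker]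

include R

theorem Rep.phi_adj (g : Γ) (v w : ι → F) : B (phi ρ g v) w = B v (phi ρ g⁻¹ w) := by
  conv_rhs => rw [← R.pres g]
  show _ = B (phi ρ g v) (phi ρ g (phi ρ g⁻¹ w))
  rw [phi_mul, mul_inv_cancel, phi_one]

theorem Rep.psi_inv (g : Γ) (v : ι → F) : psi ρ g⁻¹ v = phi ρ g⁻¹ (psi ρ g v) := by
  simp only [psi, LinearMap.add_apply, Module.End.one_apply, map_add, phi_mul, inv_mul_cancel, phi_one]
  exact add_comm _ _

theorem Rep.psi_pow_inv (g : Γ) : ∀ (k : ℕ) (v : ι → F), (psi ρ g ^ k) v = 0 → (psi ρ g⁻¹ ^ k) v = 0 := by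
  intro k
  induction k with
  | zero => exact fun v hv => hv
  | succ k ih =>
    intro v hv
    rw [pow_succ, Module.End.mul_apply, R.psi_inv]
    refine ih _ ?_
    rw [pow_succ, Module.End.mul_apply] at hv
    have h := phi_psi_pow_comm (ρ := ρ) g k (phi ρ g⁻¹ (psi ρ g v))
    rw [phi_mul g g⁻¹, mul_inv_cancel, phi_one, hv] at h
    have := congrArg (phi ρ g⁻¹) h
    rwa [phi_mul, inv_mul_cancel, phi_one, map_zero] at this

theorem Rep.orth (g : Γ) {k w : ι → F} (hk : k ∈ fixSp ρ g) (hw : w ∈ movSp ρ g) : B k w = 0 := by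
  obtain ⟨v, rfl⟩ := hw
  have key : ∀ n (a b : ι → F), B a ((psi ρ g ^ n) b) = B ((psi ρ g⁻¹ ^ n) a) b := by
    intro n
    induction n with
    | zero => exact fun a b => rfl
    | succ n ih =>
      intro a b
      have h1 : ∀ a b, B a (psi ρ g b) = B (psi ρ g⁻¹ a) b := fun a b => by
        simp only [psi, LinearMap.add_apply, Module.End.one_apply, map_add]
        rw [R.phi_adj, inv_inv]
      rw [pow_succ', Module.End.mul_apply, h1, ih, ← Module.End.mul_apply, ← pow_succ]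
  rw [key, R.psi_pow_inv g _ k hk, map_zero, LinearMap.zero_apply]

theorem Rep.nd_fix (g : Γ) (v : ι → F) (hv : v ∈ fixSp ρ g) (h : ∀ w ∈ fixSp ρ g, B v w = 0) : v = 0 := by
  refine R.nd v fun w => ?_
  obtain ⟨a, ha, b, hb, rfl⟩ :=
    Submodule.mem_sup.1 ((isCompl_fix_mov (ρ := ρ) g).sup_eq_top ▸ Submodule.mem_top : w ∈ fixSp ρ g ⊔ movSp ρ g)
  rw [map_add, h a ha, R.orth g hv hb, add_zero]

theorem Rep.nd_mov (g : Γ) (v : ι → F) (hv : v ∈ movSp ρ g) (h : ∀ w ∈ movSp ρ g, B v w = 0) : v = 0 := by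
  refine R.nd v fun w => ?_
  obtain ⟨a, ha, b, hb, rfl⟩ :=
    Submodule.mem_sup.1 ((isCompl_fix_mov (ρ := ρ) g).sup_eq_top ▸ Submodule.mem_top : w ∈ fixSp ρ g ⊔ movSp ρ g)
  rw [map_add, h b hb, R.comm, R.orth g ha hv, add_zero]

omit R

theorem psi_fix (g : Γ) : ∀ v ∈ fixSp ρ g, psi ρ g v ∈ fixSp ρ g := fun v hv => by
  rw [fixSp, LinearMap.mem_ker, ← Module.End.mul_apply, ← pow_succ, pow_succ', Module.End.mul_apply,
    LinearMap.mem_ker.1 hv, map_zero]

theorem psi_restrict_pow (g : Γ) (k : ℕ) (v : fixSp ρ g) :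
    ((((psi ρ g).restrict (psi_fix g)) ^ k) v : ι → F) = (psi ρ g ^ k) v := by
  induction k with
  | zero => rfl
  | succ k ih => rw [pow_succ', pow_succ', Module.End.mul_apply, Module.End.mul_apply, ← ih]; rfl

theorem add_psi (g : Γ) (v : ι → F) : v + psi ρ g v = phi ρ g v := by
  rw [psi, LinearMap.add_apply, Module.End.one_apply, add_comm (phi ρ g v), ← add_assoc, vadd_self F, zero_add]

/-- The system on the generalised fixed space. -/
noncomputable def Rep.unip (g : Γ) : Sys F (fixSp ρ g) where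
  B := B.restrict (fixSp ρ g)
  N := (psi ρ g).restrict (psi_fix g)
  c := c
  q v := q v
  alt v := R.alt v
  nd v h := Subtype.ext (R.nd_fix g v v.2 fun w hw => h ⟨w, hw⟩)
  inv v w := by
    show B (v + psi ρ g v) (w + psi ρ g w) = B v w
    rw [add_psi, add_psi]; exact R.pres g v w
  nil := ⟨Fintype.card ι, LinearMap.ext fun v => Subtype.ext (by
    rw [psi_restrict_pow]; exact LinearMap.mem_ker.1 v.2)⟩
  cq := R.cq.imp id fun h => ⟨h.1, fun v => h.2 _⟩
  q_add v w := R.q_add v w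
  q_smul a v := R.q_smul a v
  q_inv v := by
    show q (v + psi ρ g v) = q v
    rw [add_psi]; exact R.pres_q g v

/-- The rank of a power of `φ - 1`. -/
theorem rk_psi (g : Γ) (j : ℕ) :
    SLComm.rk (phi ρ g) ((X - C 1) ^ j) = Module.finrank F (LinearMap.range (psi ρ g ^ j)) := by
  have hneg : (-1 : F) = 1 := CharTwo.neg_eq 1
  rw [SLComm.rk, map_pow, map_sub, aeval_X, aeval_C, map_one, sub_eq_add_neg,
    neg_eq_of_add_eq_zero_left (end_add_self (1 : Module.End F (ι → F)))]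
  rfl

include R in
theorem lay_unip (g : Γ) (j : ℕ) : (R.unip g).lay j + Module.finrank F (LinearMap.range (psi ρ g ^ (j + 1))) =
    Module.finrank F (LinearMap.range (psi ρ g ^ j)) := by
  set f := (psi ρ g).domRestrict (LinearMap.range (psi ρ g ^ j))
  have h1 : LinearMap.range f = LinearMap.range (psi ρ g ^ (j + 1)) := by
    ext v
    simp only [f, LinearMap.mem_range, LinearMap.domRestrict_apply, Subtype.exists, exists_prop]
    constructor
    · rintro ⟨a, ⟨b, rfl⟩, rfl⟩; exact ⟨b, by rw [pow_succ', Module.End.mul_apply]⟩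
    · rintro ⟨b, rfl⟩; exact ⟨_, ⟨b, rfl⟩, by rw [pow_succ', Module.End.mul_apply]⟩
  have h2 : (LinearMap.ker f).map (LinearMap.range (psi ρ g ^ j)).subtype =
      ((R.unip g).layer j).map (fixSp ρ g).subtype := by
    ext v
    constructor
    · rintro ⟨⟨_, ⟨w, rfl⟩⟩, hv, rfl⟩
      have hv' : psi ρ g ((psi ρ g ^ j) w) = 0 := LinearMap.mem_ker.1 hv
      have hd : 0 < Fintype.card ι ∨ (psi ρ g ^ j) w = 0 := by
        rcases Nat.eq_zero_or_pos (Fintype.card ι) with h | h
        · haveI := Fintype.card_eq_zero_iff.1 h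
          exact Or.inr (Subsingleton.elim _ _)
        · exact Or.inl h
      have hin : (psi ρ g ^ j) w ∈ fixSp ρ g := by
        rcases hd with hd | hd
        · rw [fixSp, LinearMap.mem_ker, show Fintype.card ι = (Fintype.card ι - 1) + 1 by omega, pow_succ,
            Module.End.mul_apply, hv', map_zero]
        · rw [hd]; exact zero_mem _
      obtain ⟨a, ha, b, hb, rfl⟩ := Submodule.mem_sup.1
        ((isCompl_fix_mov (ρ := ρ) g).sup_eq_top ▸ Submodule.mem_top : w ∈ fixSp ρ g ⊔ movSp ρ g)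
      have hb' : (psi ρ g ^ j) b = 0 := by
        refine Submodule.disjoint_def.1 (isCompl_fix_mov (ρ := ρ) g).disjoint _ ?_ ?_
        · have ha' : (psi ρ g ^ j) a ∈ fixSp ρ g := by
            rw [fixSp, LinearMap.mem_ker, ← Module.End.mul_apply, ← pow_add, add_comm, pow_add,
              Module.End.mul_apply, LinearMap.mem_ker.1 ha, map_zero]
          have := sub_mem hin ha'
          rwa [← map_sub, add_sub_cancel_left] at this
        · obtain ⟨u, rfl⟩ := hb
          exact ⟨(psi ρ g ^ j) u, by rw [← Module.End.mul_apply, ← pow_add, add_comm, pow_add, Module.End.mul_apply]⟩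
      refine ⟨⟨(psi ρ g ^ j) (a + b), hin⟩, (R.unip g).mem_layer.2 ⟨Subtype.ext hv', ⟨a, ha⟩, Subtype.ext ?_⟩, rfl⟩
      refine (psi_restrict_pow g j ⟨a, ha⟩).trans ?_
      show (psi ρ g ^ j) a = (psi ρ g ^ j) (a + b)
      rw [map_add, hb', add_zero]
    · rintro ⟨u, hu, rfl⟩
      obtain ⟨h0, w, rfl⟩ := (R.unip g).mem_layer.1 hu
      exact ⟨⟨_, ⟨(w : ι → F), (psi_restrict_pow g j w).symm⟩⟩, congrArg Subtype.val h0, rfl⟩
  have h3 := congrArg (fun S : Submodule F (ι → F) => Module.finrank F S) h2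
  simp only [Submodule.finrank_map_subtype_eq] at h3
  have h4 := LinearMap.finrank_range_add_finrank_ker f
  rw [h1, h3] at h4
  rw [Sys.lay]
  omega

include R

theorem Rep.det_ne_zero (g : Γ) : LinearMap.det (phi ρ g) ≠ 0 := by
  intro h0
  have h : LinearMap.det (phi ρ g) * LinearMap.det (phi ρ g⁻¹) = 1 := by
    rw [← map_mul, show phi ρ g * phi ρ g⁻¹ = 1 from LinearMap.ext fun v => by
      rw [Module.End.mul_apply, phi_mul, mul_inv_cancel, phi_one]; rfl, map_one]
  rw [h0, zero_mul] at h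
  exact zero_ne_one h

/-- The pairs of an element. -/
noncomputable def Rep.prs (g : Γ) : List (F[X] × ℕ) :=
  Classical.choose (SLComm.exists_pairs _ (R.det_ne_zero g))

theorem Rep.prs_spec (g : Γ) : SLComm.PairsOk (R.prs g) ∧ SLComm.Sim (phi ρ g) (SLComm.dcyc (SLComm.blocks (R.prs g))) ∧
    SLComm.pdeg (R.prs g) = Fintype.card ι := by
  obtain ⟨h1, h2, h3⟩ := Classical.choose_spec (SLComm.exists_pairs _ (R.det_ne_zero g))
  exact ⟨h1, h2, h3.trans (Module.finrank_fintype_fun_eq_card F)⟩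

/-- The tuple of an element. -/
noncomputable def Rep.tup (g : Γ) : ℕ → F[X] := SLComm.tupOf (R.prs g)

theorem Rep.mult_eq (g : Γ) {j : ℕ} (hj : 0 < j) : (R.unip g).mult j = (R.tup g j).rootMultiplicity 1 := by
  obtain ⟨hok, hs, -⟩ := R.prs_spec g
  obtain ⟨i, rfl⟩ : ∃ i, j = i + 1 := ⟨j - 1, by omega⟩
  have h := SLComm.rk_dcyc_second hok (irreducible_X_sub_C (1 : F)) (monic_X_sub_C 1) i
  simp only [← SLComm.rk_sim hs, rk_psi, natDegree_X_sub_C, one_mul] at h
  have l1 := lay_unip R g i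
  have l2 := lay_unip R g (i + 1)
  have l3 := (R.unip g).lay_anti (Nat.le_succ i)
  rw [show i + 1 + 1 = i + 2 from rfl] at l2
  rw [Rep.tup, SpOClassCount.rootMult_tupOf 1 hok, Sys.mult, if_neg (by omega), Nat.add_sub_cancel]
  omega

theorem Rep.isRec_tup (g : Γ) (i : ℕ) : SpOClassCount.IsRec (R.tup g i) := by
  obtain ⟨hok, ⟨e, he⟩, -⟩ := R.prs_spec g
  refine ⟨(SLComm.tupOf_monic hok i).1, (SLComm.tupOf_monic hok i).2, ?_⟩
  set S := LinearMap.BilinForm.toMatrix' B
  have hS : IsUnit S := by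
    rw [Matrix.isUnit_iff_isUnit_det, isUnit_iff_ne_zero]
    exact Matrix.nondegenerate_iff_det_ne_zero.1 (LinearMap.BilinForm.nondegenerate_toMatrix'_iff.2 R.nondegenerate)
  have hpres : (ρ g)ᵀ * S * ρ g = S := by
    refine Matrix.toBilin'.injective (LinearMap.ext fun x => LinearMap.ext fun y => ?_)
    rw [Matrix.toBilin'_apply', Matrix.toBilin'_apply', ← Matrix.mulVec_mulVec, ← Matrix.mulVec_mulVec,
      Matrix.dotProduct_mulVec, Matrix.vecMul_transpose, ← Matrix.toBilin'_apply', ← Matrix.toBilin'_apply',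
      Matrix.toBilin'_toMatrix']
    exact R.pres g x y
  obtain ⟨Cm, hC⟩ := S2580.isConj_transpose (ρ g)
  obtain ⟨Si, hSi⟩ := hS.exists_right_inv
  have hSi' : Si * S = 1 := mul_eq_one_comm.mp hSi
  have hinv : ρ g⁻¹ = Si * (ρ g)ᵀ * S := by
    refine left_inv_eq_right_inv (a := ρ g) (by rw [← map_mul, inv_mul_cancel, map_one]) ?_
    refine mul_eq_one_comm.mp ?_
    rw [Matrix.mul_assoc, Matrix.mul_assoc, ← Matrix.mul_assoc _ S, hpres, hSi']
  set Y := Si * (Cm : Matrix ι ι F)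
  have hY : Y * ρ g = ρ g⁻¹ * Y := by
    rw [hinv]
    simp only [Y, Matrix.mul_assoc]
    rw [← Matrix.mul_assoc S Si, hSi, Matrix.one_mul]
    exact congrArg (Si * ·) hC
  have hYu : IsUnit Y.det := by
    rw [Matrix.det_mul]
    exact (isUnit_of_mul_isUnit_left (y := S.det) (by rw [← Matrix.det_mul, hSi', Matrix.det_one]; exact isUnit_one)).mul
      ((Matrix.isUnit_iff_isUnit_det _).1 Cm.isUnit)
  have s1 : SLComm.Sim (phi ρ g) (phi ρ g⁻¹) := by
    refine ⟨Matrix.toLinearEquiv (Pi.basisFun F ι) Y hYu, fun v => ?_⟩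
    have ev : ∀ w, Matrix.toLinearEquiv (Pi.basisFun F ι) Y hYu w = Y *ᵥ w := fun w => by
      simp [Matrix.toLinearEquiv, Matrix.toLin_eq_toLin']
    rw [ev, ev, phi, phi, Matrix.toLin'_apply, Matrix.toLin'_apply, Matrix.mulVec_mulVec, Matrix.mulVec_mulVec, hY]
  let L := SLComm.blocks (R.prs g)
  let ψ : Module.End F (∀ i : Fin L.length, AdjoinRoot (L.get i)) :=
    (e : (ι → F) →ₗ[F] _) ∘ₗ phi ρ g⁻¹ ∘ₗ (e.symm : _ →ₗ[F] (ι → F))
  have hψ : ψ * SLComm.dcyc L = 1 := by
    refine LinearMap.ext fun w => ?_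
    obtain ⟨v, rfl⟩ := e.surjective w
    show e (phi ρ g⁻¹ (e.symm (SLComm.dcyc L (e v)))) = e v
    rw [← he, e.symm_apply_apply, phi_mul, inv_mul_cancel, phi_one]
  have s2 : SLComm.Sim (phi ρ g⁻¹) ψ := ⟨e, fun v => by
    show e (phi ρ g⁻¹ v) = e (phi ρ g⁻¹ (e.symm (e v)))
    rw [e.symm_apply_apply]⟩
  have hb : L.map SLComm.invPoly = SLComm.blocks (SpOClassCount.invPairs (R.prs g)) := by
    simp only [L, SLComm.blocks, SpOClassCount.invPairs, List.map_map]
    exact List.map_congr_left fun x _ => by simp [SLComm.invPoly_pow]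
  have s3 := SpOClassCount.sim_inv_dcyc (L := L) (fun h hh => by
    obtain ⟨x, hx, rfl⟩ := List.mem_map.1 hh
    refine ⟨(hok x hx).2.1.pow _, ?_⟩
    rw [coeff_zero_eq_eval_zero, eval_pow, ← coeff_zero_eq_eval_zero]
    exact pow_ne_zero _ (hok x hx).2.2.2) ψ hψ
  rw [hb] at s3
  have hp := SLComm.perm_of_sim hok (SpOClassCount.pairsOk_invPairs hok)
    ((SLComm.Sim.symm ⟨e, he⟩).trans (s1.trans (s2.trans s3)))
  exact ((congrFun (SLComm.tupOf_perm hp) i).trans (SpOClassCount.tupOf_invPairs _ i)).symm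

/-! ### Conjugacy -/

theorem Rep.psi_mov (g : Γ) : ∀ v ∈ movSp ρ g, phi ρ g v ∈ movSp ρ g := by
  rintro _ ⟨u, rfl⟩
  exact ⟨phi ρ g u, (phi_psi_pow_comm g _ u).symm⟩

/-- On the complement `φ - 1` is bijective. -/
theorem Rep.mov_fixed (g : Γ) {v : ι → F} (hv : v ∈ movSp ρ g) (h : psi ρ g v = 0) : v = 0 := by
  rcases Nat.eq_zero_or_pos (Fintype.card ι) with hd | hd
  · haveI := Fintype.card_eq_zero_iff.1 hd
    exact Subsingleton.elim _ _
  refine Submodule.disjoint_def.1 (isCompl_fix_mov (ρ := ρ) g).disjoint v ?_ hv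
  rw [fixSp, LinearMap.mem_ker, show Fintype.card ι = (Fintype.card ι - 1) + 1 by omega, pow_succ,
    Module.End.mul_apply, h, map_zero]

/-- Equal tuples: the two parts have equal rank and the moved parts are isometric. -/
theorem Rep.exists_parts {g g' : Γ} (ht : R.tup g' = R.tup g) :
    Module.finrank F (fixSp ρ g') = Module.finrank F (fixSp ρ g) ∧
      (∀ j, (R.unip g').mult j = (R.unip g).mult j) ∧
      ∃ η : movSp ρ g ≃ₗ[F] movSp ρ g',
        (∀ v : movSp ρ g, (η ⟨phi ρ g (v : ι → F), R.psi_mov g _ v.2⟩ : ι → F) = phi ρ g' (η v)) ∧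
        (∀ u v : movSp ρ g, B (η u : ι → F) (η v : ι → F) = B (u : ι → F) (v : ι → F)) ∧
        ∀ v : movSp ρ g, q (η v : ι → F) = q (v : ι → F) := by
  obtain ⟨hok, hs, -⟩ := R.prs_spec g
  obtain ⟨hok', hs', -⟩ := R.prs_spec g'
  obtain ⟨e, he⟩ : SLComm.Sim (phi ρ g) (phi ρ g') := hs.trans
    ((SLComm.dcyc_perm (SLComm.blocks_perm (SLComm.perm_of_tupOf_eq hok hok' ht.symm))).trans hs'.symm)
  have hpow : ∀ k v, e ((psi ρ g ^ k) v) = (psi ρ g' ^ k) (e v) := fun k => by
    induction k with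
    | zero => exact fun v => rfl
    | succ k ih =>
      intro v
      rw [pow_succ', pow_succ', Module.End.mul_apply, Module.End.mul_apply, ← ih]
      simp [psi, map_add, he]
  have hK : (fixSp ρ g).map (e : (ι → F) →ₗ[F] (ι → F)) = fixSp ρ g' := by
    ext v
    rw [Submodule.mem_map_equiv, fixSp, fixSp, LinearMap.mem_ker, LinearMap.mem_ker,
      ← e.map_eq_zero_iff, hpow, e.apply_symm_apply]
  have hW : (movSp ρ g).map (e : (ι → F) →ₗ[F] (ι → F)) = movSp ρ g' := by
    ext v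
    rw [Submodule.mem_map_equiv]
    constructor
    · rintro ⟨u, hu⟩; exact ⟨e u, by rw [← hpow, hu, e.apply_symm_apply]⟩
    · rintro ⟨u, rfl⟩; exact ⟨e.symm u, e.injective (by rw [hpow, e.apply_symm_apply, e.apply_symm_apply])⟩
  refine ⟨by rw [← hK, LinearEquiv.finrank_map_eq], fun j => ?_, ?_⟩
  · rcases Nat.eq_zero_or_pos j with rfl | hj
    · simp [Sys.mult]
    · rw [R.mult_eq g' hj, R.mult_eq g hj, ht]
  -- the rest
  set W := movSp ρ g
  let A : W ≃ₗ[F] W := LinearEquiv.ofBijective ((phi ρ g).restrict (R.psi_mov g)) ⟨fun a b hab => Subtype.ext (by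
    have := congrArg (fun z : W => phi ρ g⁻¹ z) hab
    simpa [phi_mul, phi_one] using this), fun a => by
    obtain ⟨u, hu⟩ := a.2
    refine ⟨⟨(psi ρ g ^ Fintype.card ι) (phi ρ g⁻¹ u), ⟨_, rfl⟩⟩, Subtype.ext ?_⟩
    show phi ρ g ((psi ρ g ^ Fintype.card ι) (phi ρ g⁻¹ u)) = (a : ι → F)
    rw [phi_psi_pow_comm, phi_mul, mul_inv_cancel, phi_one, hu]⟩
  have hAv : ∀ v : W, (A v : ι → F) = phi ρ g (v : ι → F) := fun v => rfl
  haveI : Finite (W ≃ₗ[F] W) := by
    haveI : Finite W := Module.finite_of_finite F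
    exact Finite.of_injective (fun e => (e : W → W)) DFunLike.coe_injective
  let eW : W ≃ₗ[F] movSp ρ g' := (e.submoduleMap W).trans (LinearEquiv.ofEq _ _ hW)
  have heW : ∀ v : W, (eW v : ι → F) = e (v : ι → F) := fun v => rfl
  let B' : LinearMap.BilinForm F W := B.compl₁₂ ((movSp ρ g').subtype ∘ₗ eW.toLinearMap) ((movSp ρ g').subtype ∘ₗ eW.toLinearMap)
  have hB' : ∀ u v : W, B' u v = B (e (u : ι → F)) (e (v : ι → F)) := fun u v => rfl
  obtain ⟨x, hxA, hxB⟩ := Forms.exists_norm_intertwiner (B.restrict W) B'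
    ⟨fun v hv => Subtype.ext (R.nd_mov g v v.2 fun w hw => hv ⟨w, hw⟩),
      fun v hv => Subtype.ext (R.nd_mov g v v.2 fun w hw => by rw [R.comm]; exact hv ⟨w, hw⟩)⟩
    ⟨fun v hv => eW.map_eq_zero_iff.1 (Subtype.ext (R.nd_mov g' _ (eW v).2 fun w hw => by
        obtain ⟨u, hu⟩ := eW.surjective ⟨w, hw⟩
        have := hv u
        rw [hB', ← heW, ← heW, hu] at this
        exact this)),
      fun v hv => eW.map_eq_zero_iff.1 (Subtype.ext (R.nd_mov g' _ (eW v).2 fun w hw => by
        obtain ⟨u, hu⟩ := eW.surjective ⟨w, hw⟩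
        have := hv u
        rw [hB', R.comm, ← heW, ← heW, hu] at this
        exact this))⟩
    (mul_one (1 : F)) (fun u v => by rw [one_mul]; exact R.comm _ _) (fun u v => by rw [one_mul]; exact R.comm _ _)
    A (N := orderOf A - 1) (by rw [Nat.sub_add_cancel (orderOf_pos A), pow_orderOf_eq_one])
    (fun u v => R.pres g _ _) (fun u v => by rw [hB', hB', hAv, hAv, he, he]; exact R.pres g' _ _)
    (fun v hv => by
      have h2 : psi ρ g (psi ρ g (v : ι → F)) = 0 := by
        have h : phi ρ g (phi ρ g (v : ι → F)) = v := congrArg Subtype.val hv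
        simp only [psi, LinearMap.add_apply, Module.End.one_apply, map_add, h]
        rw [show ((v : ι → F) + phi ρ g v) + (phi ρ g v + (v : ι → F)) = ((v : ι → F) + phi ρ g v) + ((v : ι → F) + phi ρ g v) by abel,
          vadd_self F]
      refine Subtype.ext (R.mov_fixed g v.2 (R.mov_fixed g ?_ h2))
      show psi ρ g (v : ι → F) ∈ W
      rw [psi, LinearMap.add_apply, Module.End.one_apply]
      exact add_mem (R.psi_mov g _ v.2) v.2)
  let η : W ≃ₗ[F] movSp ρ g' := x.symm.trans eW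
  have hη : ∀ v : W, (η v : ι → F) = e ((x.symm v : W) : ι → F) := fun v => rfl
  have hηA : ∀ v : W, (η (A v) : ι → F) = phi ρ g' (η v) := fun v => by
    have : x.symm (A v) = A (x.symm v) := x.injective (by rw [hxA, x.apply_symm_apply, x.apply_symm_apply])
    rw [hη, hη, this, hAv, he]
  have hηB : ∀ u v : W, B (η u : ι → F) (η v : ι → F) = B (u : ι → F) (v : ι → F) := fun u v => by
    rw [hη, hη, ← hB', ← hxB, x.apply_symm_apply, x.apply_symm_apply]
    rfl
  have hηq : ∀ v : W, q (η v : ι → F) = q (v : ι → F) := fun v => by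
    rcases R.cq with hc | ⟨-, hq⟩
    swap
    · rw [hq, hq]
    let d : W → F := fun v => q (η v : ι → F) + q (v : ι → F)
    have dadd : ∀ a b, d (a + b) = d a + d b := fun a b => by
      show q (η (a + b) : ι → F) + q ((a + b : W) : ι → F) = _
      rw [map_add, Submodule.coe_add, Submodule.coe_add, R.q_add, R.q_add, hηB]
      linear_combination CharTwo.add_self_eq_zero (c * B (a : ι → F) (b : ι → F))
    have dinv : ∀ a, d (A a) = d a := fun a => by
      show q (η (A a) : ι → F) + q (A a : ι → F) = _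
      rw [hηA, hAv]
      exact congr (congrArg _ (R.pres_q g' _)) (R.pres_q g _)
    let f : Module.End F W := (A : W →ₗ[F] W) + 1
    have hf : Function.Injective f := (injective_iff_map_eq_zero _).2 fun a ha =>
      Subtype.ext (R.mov_fixed g a.2 (congrArg Subtype.val ha))
    obtain ⟨u, rfl⟩ := (LinearMap.injective_iff_surjective.1 hf) v
    have : d (f u) = 0 := by
      show d (A u + u) = 0
      rw [dadd, dinv, CharTwo.add_self_eq_zero]
    exact CharTwo.add_eq_zero.1 this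
  exact ⟨η, hηA, hηB, hηq⟩

/-- The class is determined by the tuple, `Eps` and the bits. -/
theorem Rep.isConj_of_code {g g' : Γ} (ht : R.tup g' = R.tup g)
    (hE : ∀ j, (R.unip g').Eps j ↔ (R.unip g).Eps j) (hb : bitsOf (R.unip g') = bitsOf (R.unip g)) :
    IsConj g g' := by
  obtain ⟨hd, hm, η, hηA, hηB, hηq⟩ := R.exists_parts ht
  obtain ⟨θ, hθN, hθB, hθq⟩ := iso_of_bitsOf (S := R.unip g) (S' := R.unip g') hd rfl hm hE hb
  let W := movSp ρ g
  -- combine
  let X := (Submodule.prodEquivOfIsCompl _ _ (isCompl_fix_mov (ρ := ρ) g)).symm.trans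
    ((θ.prodCongr η).trans (Submodule.prodEquivOfIsCompl _ _ (isCompl_fix_mov (ρ := ρ) g')))
  have hX : ∀ (k : fixSp ρ g) (w : W), X ((k : ι → F) + (w : ι → F)) = (θ k : ι → F) + (η w : ι → F) := fun k w => by
    have : (Submodule.prodEquivOfIsCompl _ _ (isCompl_fix_mov (ρ := ρ) g)).symm ((k : ι → F) + (w : ι → F)) = (k, w) :=
      (LinearEquiv.symm_apply_eq _).2 rfl
    simp only [X, LinearEquiv.trans_apply, this]
    rfl
  have hdec : ∀ v : ι → F, ∃ (k : fixSp ρ g) (w : W), (k : ι → F) + (w : ι → F) = v := fun v => by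
    obtain ⟨a, ha, b, hb', hab⟩ :=
      Submodule.mem_sup.1 ((isCompl_fix_mov (ρ := ρ) g).sup_eq_top ▸ Submodule.mem_top : v ∈ fixSp ρ g ⊔ movSp ρ g)
    exact ⟨⟨a, ha⟩, ⟨b, hb'⟩, hab⟩
  have hXφ : ∀ v, X (phi ρ g v) = phi ρ g' (X v) := fun v => by
    obtain ⟨k, w, rfl⟩ := hdec v
    have e1 : phi ρ g (k : ι → F) = ((k + (R.unip g).N k : fixSp ρ g) : ι → F) := (add_psi g (k : ι → F)).symm
    rw [map_add, e1, show phi ρ g (w : ι → F) = ((⟨_, R.psi_mov g _ w.2⟩ : movSp ρ g) : ι → F) from rfl, hX, hX,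
      map_add θ, hθN, map_add (phi ρ g'), hηA]
    rw [Submodule.coe_add]
    exact congrArg (· + _) (add_psi g' (θ k : ι → F))
  have hXB : ∀ u v, B (X u) (X v) = B u v := fun u v => by
    obtain ⟨k, w, rfl⟩ := hdec u
    obtain ⟨k', w', rfl⟩ := hdec v
    rw [hX, hX]
    simp only [map_add, LinearMap.add_apply]
    rw [R.orth g' (θ k).2 (η w').2, R.comm (η w : ι → F) (θ k' : ι → F), R.orth g' (θ k').2 (η w).2,
      R.orth g k.2 w'.2, R.comm (w : ι → F) (k' : ι → F), R.orth g k'.2 w.2, hηB,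
      show B (θ k : ι → F) (θ k' : ι → F) = B (k : ι → F) (k' : ι → F) from hθB k k']
  have hXq : ∀ v, q (X v) = q v := fun v => by
    obtain ⟨k, w, rfl⟩ := hdec v
    rw [hX, R.q_add, R.q_add, R.orth g' (θ k).2 (η w).2, R.orth g k.2 w.2, hηq,
      show q (θ k : ι → F) = q (k : ι → F) from hθq k]
  set M := LinearMap.toMatrix' (X : (ι → F) →ₗ[F] (ι → F))
  have hM : ∀ v, M *ᵥ v = X v := fun v => by rw [← Matrix.toLin'_apply, Matrix.toLin'_toMatrix']; rfl
  obtain ⟨h, hh⟩ := R.range M (fun u v => by rw [hM, hM, hXB]) (fun v => by rw [hM, hXq])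
  refine isConj_iff.2 ⟨h, R.inj (Matrix.toLin'.injective (LinearMap.ext fun v => ?_))⟩
  show phi ρ (h * g * h⁻¹) v = phi ρ g' v
  rw [← phi_mul, ← phi_mul]
  have e2 : ∀ u, phi ρ h u = X u := fun u => by rw [phi, Matrix.toLin'_apply, hh, hM]
  rw [e2, hXφ, ← e2, phi_mul h h⁻¹, mul_inv_cancel, phi_one]

/-- Two elements do not differ in a single bit. -/
theorem Rep.false_of_flip (hc : c = 1) {g g' : Γ} (ht : R.tup g' = R.tup g)
    (hE : ∀ j, (R.unip g').Eps j ↔ (R.unip g).Eps j)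
    (hb : ∃ j₀, bitsOf (R.unip g') j₀ ≠ bitsOf (R.unip g) j₀ ∧
      ∀ j, j ≠ j₀ → bitsOf (R.unip g') j = bitsOf (R.unip g) j) : False := by
  haveI : Finite (ι → F) := Module.finite_of_finite F
  obtain ⟨hd, hm, η, -, -, hηq⟩ := R.exists_parts ht
  have hneg := gauss_of_bitsOf (S := R.unip g) (S' := R.unip g') hd hc hc hm hE hb
  have split : ∀ g, gauss q = gauss (R.unip g).q * gauss fun v : movSp ρ g => q v := fun g => by
    rw [← gauss_prod]
    refine gauss_equiv (Submodule.prodEquivOfIsCompl _ _ (isCompl_fix_mov (ρ := ρ) g)).toEquiv fun x => ?_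
    show q ((x.1 : ι → F) + (x.2 : ι → F)) = q (x.1 : ι → F) + q (x.2 : ι → F)
    rw [R.q_add, R.orth g x.1.2 x.2.2, mul_zero, add_zero]
  have hG : gauss q ≠ 0 := by
    intro h
    have h2 := gauss_mul_self (q := q) R.nd R.comm
      (by have h0 := R.q_smul 0 0; simpa using h0) fun v w => by rw [R.q_add, hc, one_mul]
    rw [h, zero_mul] at h2
    exact Nat.card_pos.ne' (by exact_mod_cast h2.symm : Nat.card (ι → F) = 0)
  have hW : gauss (fun v : movSp ρ g' => q v) = gauss fun v : movSp ρ g => q v := gauss_equiv η.toEquiv hηq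
  have h1 := split g
  have h2 := split g'
  rw [hW] at h2
  have h3 : gauss (R.unip g).q = gauss (R.unip g').q := mul_right_cancel₀ (right_ne_zero_of_mul (h1 ▸ hG)) (h1.symm.trans h2)
  rw [h3] at hneg
  exact absurd (mul_self_nonneg _) (not_le.2 hneg)

end Cfsg.Agent.CharTwoClass
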