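import Cfsg.Agent.Lib.CharTwoClass.CycModel
import Cfsg.Agent.Lib.SLComm.Cyc

/-!
# Realising elements, and the lower bounds

* `realise` : an isometry tagged by a polynomial, on any even-dimensional form of the right sign;
* `le_classes_orth`, `le_classes_symp` : the counts of tags.
-/

set_option autoImplicit false
set_option linter.unusedVariables false
set_option linter.unusedSectionVars false
set_option linter.style.haveILetI false

open Polynomial Matrix
open scoped Classical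

namespace Cfsg.Agent.CharTwoClass

universe u

open Forms

variable {F : Type u} [Field F] [CharP F 2] [Finite F]

/-- The tag condition. -/
def Tag {V : Type*} [AddCommGroup V] [Module F V] (ψ : Module.End F V) (R : F[X]) : Prop :=
  aeval ψ (X * R.reverse) = 0 ∧ ∀ P : F[X], aeval ψ (X * P.reverse) = 0 → R ∣ P

theorem Tag.of_sim {V W : Type*} [AddCommGroup V] [Module F V] [AddCommGroup W] [Module F W]
    {ψ : Module.End F V} {χ : Module.End F W} {R : F[X]} (h : Tag ψ R) (e : V ≃ₗ[F] W)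
    (he : ∀ v, e (ψ v) = χ (e v)) : Tag χ R := by
  have key : ∀ P : F[X], aeval χ P = 0 ↔ aeval ψ P = 0 := fun P => by
    constructor <;> intro h0 <;> refine LinearMap.ext fun v => ?_
    · refine e.injective ?_
      rw [SLComm.Sim.aeval_apply e he P v, h0]; simp
    · obtain ⟨u, rfl⟩ := e.surjective v
      rw [← SLComm.Sim.aeval_apply e he P u, h0]; simp
  exact ⟨(key _).2 h.1, fun P hP => h.2 P ((key _).1 hP)⟩

theorem Tag.unique {V : Type*} [AddCommGroup V] [Module F V] {ψ : Module.End F V} {R R' : F[X]}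
    (h : Tag ψ R) (h' : Tag ψ R') (hm : R.Monic) (hm' : R'.Monic) : R = R' :=
  eq_of_monic_of_associated hm hm' (associated_of_dvd_dvd (h.2 _ h'.1) (h'.2 _ h.1))

/-- A form of each sign. -/
theorem exists_pad (k : ℕ) {σ : ℤ} (hσ : σ = 1 ∨ σ = -1) (h0 : k = 0 → σ = 1) :
    ∃ Q : QuadraticForm F (Fin (2 * k) → F), (QuadraticMap.polarBilin Q).Nondegenerate ∧ 0 < σ * gauss Q := by
  have hq : (0 : ℤ) < Nat.card F := by exact_mod_cast Nat.card_pos
  rcases hσ with rfl | rfl
  · let e : (Fin (2 * k) → F) ≃ₗ[F] (Fin k ⊕ Fin k → F) :=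
      LinearEquiv.funCongrLeft F F (Fintype.equivOfCardEq (by simp; omega))
    refine ⟨(qfPlus k F).comp (e : (Fin (2 * k) → F) →ₗ[F] _),
      nondegenerate_congr (qfPlus k F) _ e.symm 1 one_ne_zero (fun v => by simp) (qfPlus_nondegenerate k), ?_⟩
    rw [one_mul, ← gauss_equiv e.toEquiv (q := (qfPlus k F).comp (e : (Fin (2 * k) → F) →ₗ[F] _))
      (q' := qfPlus k F) (fun v => rfl), gauss_qfPlus]
    positivity
  · obtain ⟨j, rfl⟩ : ∃ j, k = j + 1 := ⟨k - 1, by
      rcases Nat.eq_zero_or_pos k with rfl | h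
      · exact absurd (h0 rfl) (by decide)
      · omega⟩
    have hab : ∀ x y : F, x ^ 2 + 1 * x * y + tau F * y ^ 2 = 0 → x = 0 ∧ y = 0 := fun x y h => by
      by_cases hy : y = 0
      · subst hy; exact ⟨by simpa using h, rfl⟩
      refine absurd ?_ (tau_spec F (x / y))
      field_simp
      linear_combination h - (tau F * y ^ 2) * CharTwo.two_eq_zero (R := F)
    have hd : (4 : F) * tau F - 1 ^ 2 ≠ 0 := by
      rw [show (4 : F) = 2 * 2 by norm_num, CharTwo.two_eq_zero]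
      simp
    let e : (Fin (2 * (j + 1)) → F) ≃ₗ[F] ((Fin j ⊕ Fin j) ⊕ Fin 2 → F) :=
      LinearEquiv.funCongrLeft F F (Fintype.equivOfCardEq (by simp; omega))
    refine ⟨(qfMinus j F 1 (tau F)).comp (e : (Fin (2 * (j + 1)) → F) →ₗ[F] _),
      nondegenerate_congr (qfMinus j F 1 (tau F)) _ e.symm 1 one_ne_zero (fun v => by simp)
        (qfMinus_nondegenerate hd j), ?_⟩
    rw [← gauss_equiv e.toEquiv (q := (qfMinus j F 1 (tau F)).comp (e : (Fin (2 * (j + 1)) → F) →ₗ[F] _))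
      (q' := qfMinus j F 1 (tau F)) (fun v => rfl), gauss_qfMinus hab, neg_one_mul, neg_neg]
    positivity

variable {ι : Type} [Fintype ι] [DecidableEq ι]

/-- An isometry with a given tag. -/
theorem realise (Q₀ : QuadraticForm F (ι → F)) (hQ₀ : (QuadraticMap.polarBilin Q₀).Nondegenerate) {n : ℕ}
    (hι : Fintype.card ι = 2 * n) (R : F[X]) (hm : R.Monic) (h0 : R.coeff 0 ≠ 0) (hn : R.natDegree ≤ n) (hn0 : 0 < n)
    (hs : R.natDegree = n → 0 < gauss Q₀ * chi (R.coeff (n - 1))) :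
    ∃ A A' : Matrix ι ι F, A * A' = 1 ∧ (∀ v, Q₀ (A *ᵥ v) = Q₀ v) ∧
      Tag (Matrix.toLin' A + Matrix.toLin' A') R := by
  haveI : Fact R.Monic := ⟨hm⟩
  haveI : Fact (R.coeff 0 ≠ 0) := ⟨h0⟩
  haveI := hm.finite_adjoinRoot
  haveI : Finite (AdjoinRoot R × AdjoinRoot R) := Module.finite_of_finite F
  have hG0 : gauss Q₀ ≠ 0 := fun h => by
    have h2 := gauss_mul_self (B := QuadraticMap.polarBilin Q₀) (q := Q₀) hQ₀.1
      (fun v w => by simp only [QuadraticMap.polarBilin_apply_apply, QuadraticMap.polar_comm]) Q₀.map_zero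
      (fun v w => by simp only [QuadraticMap.polarBilin_apply_apply, QuadraticMap.polar]; ring)
    rw [h, zero_mul] at h2
    haveI : Finite (ι → F) := Pi.finite
    exact Nat.card_pos.ne' (by exact_mod_cast h2.symm : Nat.card (ι → F) = 0)
  have hR : gauss (qR R) ≠ 0 ∧ (R.natDegree = n → 0 < gauss Q₀ * gauss (qR R)) := by
    rcases Nat.eq_zero_or_pos R.natDegree with hd | hd
    · have e : R = 1 := hm.natDegree_eq_zero.1 hd
      subst e
      haveI : Subsingleton (AdjoinRoot (1 : F[X])) := subsingleton_of_zero_eq_one (by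
        rw [← map_one (AdjoinRoot.mk (1 : F[X])), AdjoinRoot.mk_self])
      haveI : Unique (AdjoinRoot (1 : F[X]) × AdjoinRoot (1 : F[X])) := uniqueOfSubsingleton 0
      refine ⟨?_, fun h => absurd h (by omega)⟩
      rw [gauss, finsum_eq_sum_of_fintype, Fintype.sum_unique]
      intro h
      have h2 := congrArg (fun z : ℤ => z * z) h
      simp only [chi_mul_self] at h2
      exact absurd h2 (by decide)
    · obtain ⟨k, hk, e⟩ := gauss_qR R hd
      refine ⟨?_, fun hdn => ?_⟩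
      · rw [e]; rcases chi_cases (R.coeff (R.natDegree - 1)) with h | h <;> rw [h] <;> omega
      · rw [e, hdn, mul_left_comm]
        exact mul_pos (by exact_mod_cast hk) (hs hdn)
  set σ : ℤ := if 0 < gauss Q₀ * gauss (qR R) then 1 else -1 with hσ
  obtain ⟨Qp, hQp, hsp⟩ := exists_pad (F := F) (n - R.natDegree) (σ := σ) (by unfold σ; split_ifs <;> simp)
    (fun hk => if_pos (hR.2 (by omega)))
  let QV : QuadraticForm F ((AdjoinRoot R × AdjoinRoot R) × (Fin (2 * (n - R.natDegree)) → F)) := (qR R).prod Qp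
  have hQVp : ∀ x y, QuadraticMap.polarBilin QV x y =
      QuadraticMap.polarBilin (qR R) x.1 y.1 + QuadraticMap.polarBilin Qp x.2 y.2 := fun x y => by
    simp [QV, QuadraticMap.polarBilin_apply_apply, QuadraticMap.polar]
  have hQV : (QuadraticMap.polarBilin QV).Nondegenerate := by
    have key : ∀ x, (∀ y, QuadraticMap.polarBilin QV x y = 0) → x = 0 := fun x hx =>
      Prod.ext ((qR_nondeg R).1 _ fun y => by simpa [hQVp] using hx (y, 0))
        (hQp.1 _ fun y => by simpa [hQVp] using hx (0, y))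
    refine ⟨key, fun x hx => key x fun y => ?_⟩
    rw [QuadraticMap.polarBilin_apply_apply, QuadraticMap.polar_comm]
    exact hx y
  have hgauss : 0 < gauss QV * gauss Q₀ := by
    rw [show gauss QV = gauss (qR R) * gauss Qp from gauss_prod (qR R) Qp]
    unfold σ at hsp
    split_ifs at hsp with hpos
    · have := mul_pos hpos (by simpa using hsp : 0 < gauss Qp); linarith
    · have hneg : gauss Q₀ * gauss (qR R) < 0 :=
        lt_of_le_of_ne (not_lt.1 hpos) (mul_ne_zero hG0 hR.1)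
      have := mul_pos_of_neg_of_neg hneg (by linarith : gauss Qp < 0)
      linarith
  have hdimι : Module.finrank F (ι → F) = 2 * n := by rw [Module.finrank_fintype_fun_eq_card, hι]
  obtain ⟨e, he⟩ := exists_isometry_of_gauss QV Q₀ hQV hQ₀ (n := n)
    (by rw [Module.finrank_prod, finrank_R, Module.finrank_fin_fun]; omega) hdimι hgauss
  let g := (gR R).prodCongr (LinearEquiv.refl F (Fin (2 * (n - R.natDegree)) → F))
  let G : (ι → F) ≃ₗ[F] (ι → F) := e.symm.trans (g.trans e)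
  refine ⟨LinearMap.toMatrix' (G : (ι → F) →ₗ[F] (ι → F)), LinearMap.toMatrix' (G.symm : (ι → F) →ₗ[F] (ι → F)),
    by rw [← LinearMap.toMatrix'_comp, G.comp_symm, LinearMap.toMatrix'_id], fun v => ?_, ?_⟩
  · rw [← Matrix.toLin'_apply, Matrix.toLin'_toMatrix']
    show Q₀ (e (g (e.symm v))) = Q₀ v
    conv_rhs => rw [← e.apply_symm_apply v, he]
    rw [he]
    show qR R (gR R (e.symm v).1) + Qp (e.symm v).2 = qR R (e.symm v).1 + Qp (e.symm v).2
    rw [qR_gR]
  rw [Matrix.toLin'_toMatrix', Matrix.toLin'_toMatrix']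
  let ψ : Module.End F ((AdjoinRoot R × AdjoinRoot R) × (Fin (2 * (n - R.natDegree)) → F)) :=
    LinearMap.prodMap (LinearMap.prodMap (LinearMap.mulLeft F (sR R)) (LinearMap.mulLeft F (sR R))) 0
  have hψ : ∀ x, g x + g.symm x = ψ x := fun x => by
    refine Prod.ext ?_ ?_
    · exact gR_add_symm R x.1
    · show x.2 + x.2 = 0
      exact vadd_self F _
  have hev : ∀ (P : F[X]) x, aeval ψ P x = ((aeval (sR R) P * x.1.1, aeval (sR R) P * x.1.2), P.coeff 0 • x.2) := by
    intro P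
    induction P using Polynomial.induction_on with
    | C a => intro x; simp [Module.algebraMap_end_apply, Algebra.smul_def, Prod.ext_iff]
    | add P P' h h' => intro x; simp [h, h', add_mul, add_smul]
    | monomial i a ih =>
      intro x
      rw [pow_succ, ← mul_assoc, map_mul, Module.End.mul_apply, aeval_X, ih]
      refine Prod.ext (Prod.ext ?_ ?_) ?_
      · show aeval (sR R) (C a * X ^ i) * (sR R * x.1.1) = _
        simp; ring
      · show aeval (sR R) (C a * X ^ i) * (sR R * x.1.2) = _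
        simp; ring
      · show (C a * X ^ i).coeff 0 • (0 : Fin (2 * (n - R.natDegree)) → F) = _
        simp
  refine Tag.of_sim (ψ := ψ) ?_ e fun x => ?_
  · refine ⟨LinearMap.ext fun x => ?_, fun P hP => tag_dvd R ?_⟩
    · rw [hev, tag_self]; simp
    · have := congrArg (fun z => (z.1.1)) ((hev (X * P.reverse) ((1, 0), 0)).symm.trans (LinearMap.congr_fun hP _))
      simpa using this
  · rw [← hψ]
    show e (g x + g.symm x) = e (g (e.symm (e x))) + e (g.symm (e.symm (e x)))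
    rw [e.symm_apply_apply, map_add]

variable {Γ : Type*} [Group Γ] [Finite Γ]

/-- Tagged elements give distinct classes. -/
theorem ncard_le_classes {ρ : Γ →* Matrix ι ι F} {S : Set F[X]} (hS : ∀ R ∈ S, R.Monic)
    (hT : ∀ R ∈ S, ∃ g, Tag (Matrix.toLin' (ρ g) + Matrix.toLin' (ρ g⁻¹)) R) :
    S.ncard ≤ Nat.card (ConjClasses Γ) := by
  choose g hg using hT
  rw [← Nat.card_coe_set_eq]
  refine Nat.card_le_card_of_injective (fun R : S => ConjClasses.mk (g R R.2)) fun R R' he => Subtype.ext ?_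
  obtain ⟨h, hh⟩ := isConj_iff.1 (ConjClasses.mk_eq_mk_iff_isConj.1 he)
  let e : (ι → F) ≃ₗ[F] (ι → F) := LinearEquiv.ofLinear (Matrix.toLin' (ρ h)) (Matrix.toLin' (ρ h⁻¹))
    (by rw [← Matrix.toLin'_mul, ← map_mul, mul_inv_cancel, map_one, Matrix.toLin'_one])
    (by rw [← Matrix.toLin'_mul, ← map_mul, inv_mul_cancel, map_one, Matrix.toLin'_one])
  refine Tag.unique ((hg R R.2).of_sim e fun v => ?_) (hg R' R'.2) (hS R R.2) (hS R' R'.2)
  show ρ h *ᵥ (ρ (g R R.2) *ᵥ v + ρ (g R R.2)⁻¹ *ᵥ v) =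
    ρ (g R' R'.2) *ᵥ (ρ h *ᵥ v) + ρ (g R' R'.2)⁻¹ *ᵥ (ρ h *ᵥ v)
  rw [Matrix.mulVec_add, Matrix.mulVec_mulVec, Matrix.mulVec_mulVec, Matrix.mulVec_mulVec, Matrix.mulVec_mulVec,
    ← map_mul, ← map_mul, ← map_mul, ← map_mul, ← hh]
  congr 2 <;> congr 1 <;> group

/-! ### Counting the tags -/

/-- The monic polynomial with given lower coefficients. -/
noncomputable def ofC {k : ℕ} (c : Fin k → F) : F[X] := X ^ k + ((degreeLTEquiv F k).symm c : F[X])

theorem ofC_spec {k : ℕ} (c : Fin k → F) :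
    (ofC c).Monic ∧ (ofC c).natDegree = k ∧ ∀ i : Fin k, (ofC c).coeff i = c i := by
  have hd : (((degreeLTEquiv F k).symm c : F[X])).degree < k := mem_degreeLT.1 ((degreeLTEquiv F k).symm c).2
  refine ⟨monic_X_pow_add hd, natDegree_eq_of_degree_eq_some ?_, fun i => ?_⟩
  · rw [ofC, degree_add_eq_left_of_degree_lt (by rwa [degree_X_pow]), degree_X_pow]
  · rw [ofC, coeff_add, coeff_X_pow, if_neg i.isLt.ne, zero_add]
    exact congrFun ((degreeLTEquiv F k).apply_symm_apply c) i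

theorem ofC_injective {k : ℕ} : Function.Injective (ofC (F := F) (k := k)) := fun c c' h =>
  funext fun i => by rw [← (ofC_spec c).2.2, h, (ofC_spec c').2.2]

/-- The tags of degree below `n`. -/
def lowTags (F : Type u) [Field F] (n : ℕ) : Set F[X] := {R | R.Monic ∧ R.coeff 0 ≠ 0 ∧ R.natDegree < n}

theorem tags_finite (n : ℕ) : {R : F[X] | R.Monic ∧ R.natDegree ≤ n}.Finite := by
  refine ((Finset.range (n + 1)).finite_toSet.biUnion fun d _ =>
    (Set.finite_range (ofC (F := F) (k := d)))).subset fun R hR => Set.mem_iUnion₂.2 ⟨R.natDegree, ?_, fun i => R.coeff i, ?_⟩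
  · simp only [Finset.coe_range, Set.mem_Iio]; have := hR.2; omega
  · obtain ⟨h1, h2, h3⟩ := ofC_spec (k := R.natDegree) fun i => R.coeff i
    ext i
    rcases lt_trichotomy i R.natDegree with hi | hi | hi
    · exact h3 ⟨i, hi⟩
    · subst hi
      rw [hR.1.coeff_natDegree]
      have e := h1.coeff_natDegree
      rwa [h2] at e
    · rw [coeff_eq_zero_of_natDegree_lt (h2.trans_lt hi), coeff_eq_zero_of_natDegree_lt hi]

theorem card_lowTags (n : ℕ) (hn : 0 < n) : Nat.card F ^ (n - 1) ≤ (lowTags F n).ncard := by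
  have hfin : (lowTags F n).Finite := (tags_finite n).subset fun R hR => ⟨hR.1, hR.2.2.le⟩
  have hd : ∀ c : Fin (n - 1) → F, ∃ R ∈ lowTags F n, X ^ (n - 1 - R.natDegree) * R = ofC c := fun c => by
    obtain ⟨h1, h2, -⟩ := ofC_spec c
    obtain ⟨R, hR, hR0⟩ := exists_eq_pow_rootMultiplicity_mul_and_not_dvd (ofC c) h1.ne_zero 0
    simp only [map_zero, sub_zero] at hR hR0
    have hRm : R.Monic := (monic_X_pow _).of_mul_monic_left (hR ▸ h1)
    have hdeg : (ofC c).rootMultiplicity 0 + R.natDegree = n - 1 := by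
      have := congrArg Polynomial.natDegree hR
      rw [h2, (monic_X_pow _).natDegree_mul hRm, natDegree_X_pow] at this
      omega
    refine ⟨R, ⟨hRm, fun h => hR0 (X_dvd_iff.2 h), by omega⟩, ?_⟩
    rw [show n - 1 - R.natDegree = (ofC c).rootMultiplicity 0 by omega, ← hR]
  choose f hf hfe using hd
  calc Nat.card F ^ (n - 1) = (Set.univ : Set (Fin (n - 1) → F)).ncard := by rw [Set.ncard_univ, Nat.card_fun, Nat.card_fin]
    _ ≤ _ := Set.ncard_le_ncard_of_injOn f (fun c _ => hf c) (fun c _ c' _ h => ofC_injective (by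
        rw [← hfe c, ← hfe c', h])) hfin

/-- Half of the field. -/
theorem card_chi (ε : ℤ) (hε : ε = 1 ∨ ε = -1) : 2 * {c : F | chi c = ε}.ncard = Nat.card F := by
  have h1 := (artin F).range.card_mul_index
  rw [index_artin] at h1
  have e : {c : F | chi c = 1} = ((artin F).range : Set F) := by
    ext c; simp only [Set.mem_setOf_eq, chi, SetLike.mem_coe]; split_ifs with h <;> simp [h]
  have e2 : {c : F | chi c = -1} = ((artin F).range : Set F)ᶜ := by
    ext c; simp only [Set.mem_setOf_eq, chi, Set.mem_compl_iff, SetLike.mem_coe]; split_ifs with h <;> simp [h]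
  have h2 := Set.ncard_add_ncard_compl ((artin F).range : Set F)
  rcases hε with rfl | rfl
  · rw [e, ← Nat.card_coe_set_eq, SetLike.coe_sort_coe]; omega
  · rw [e2]
    rw [← Nat.card_coe_set_eq ((artin F).range : Set F), SetLike.coe_sort_coe] at h2
    omega

theorem card_ne_zero : {c : F | c ≠ 0}.ncard = Nat.card F - 1 := by
  rw [show {c : F | c ≠ 0} = ({0} : Set F)ᶜ by ext; simp, Set.ncard_compl, Set.ncard_singleton]

/-- The bound `q ^ n ≤ 2 k`. -/
theorem le_classes_orth {Q₀ : QuadraticForm F (ι → F)} {ρ : Γ →* Matrix ι ι F}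
    (hinj : Function.Injective ρ) (hrange : ∀ A : Matrix ι ι F, IsUnit A → (∀ v, Q₀ (A *ᵥ v) = Q₀ v) → ∃ g, ρ g = A)
    (hQ₀ : (QuadraticMap.polarBilin Q₀).Nondegenerate) {n : ℕ} (hι : Fintype.card ι = 2 * n) (hn : 2 ≤ n)
    {ε : ℤ} (hε : ε = 1 ∨ ε = -1) (hsgn : 0 < gauss Q₀ * ε) :
    Nat.card F ^ n ≤ 2 * Nat.card (ConjClasses Γ) := by
  set top := {R : F[X] | R.Monic ∧ R.coeff 0 ≠ 0 ∧ R.natDegree = n ∧ chi (R.coeff (n - 1)) = ε}
  have hfin1 : (lowTags F n).Finite := (tags_finite n).subset fun R hR => ⟨hR.1, hR.2.2.le⟩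
  have hfin2 : top.Finite := (tags_finite n).subset fun R hR => ⟨hR.1, hR.2.2.1.le⟩
  have hk : (lowTags F n ∪ top).ncard ≤ Nat.card (ConjClasses Γ) := by
    refine ncard_le_classes (ρ := ρ) (fun R hR => hR.elim (fun h => h.1) fun h => h.1) fun R hR => ?_
    have hprop : R.Monic ∧ R.coeff 0 ≠ 0 ∧ R.natDegree ≤ n ∧ (R.natDegree = n → chi (R.coeff (n - 1)) = ε) :=
      hR.elim (fun h => ⟨h.1, h.2.1, h.2.2.le, fun e => absurd e h.2.2.ne⟩) fun h =>
        ⟨h.1, h.2.1, h.2.2.1.le, fun _ => h.2.2.2⟩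
    obtain ⟨hm, h0, hle, hs⟩ := hprop
    obtain ⟨A, A', hAA, hA, hT⟩ := realise Q₀ hQ₀ hι R hm h0 hle (by omega) fun h => by rw [hs h]; exact hsgn
    obtain ⟨g, hg⟩ := hrange A (IsUnit.of_mul_eq_one A' hAA) hA
    refine ⟨g, ?_⟩
    rw [hg, show ρ g⁻¹ = A' from left_inv_eq_right_inv (by rw [← hg, ← map_mul, inv_mul_cancel, map_one]) hAA]
    exact hT
  rw [Set.ncard_union_eq (Set.disjoint_left.2 fun R h h' => absurd h'.2.2.1 h.2.2.ne) hfin1 hfin2] at hk
  have h1 := card_lowTags (F := F) n (by omega)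
  obtain ⟨j, rfl⟩ : ∃ j, n = j + 2 := ⟨n - 2, by omega⟩
  have h2 : (Nat.card F - 1) * (Nat.card F ^ j * {c : F | chi c = ε}.ncard) ≤ top.ncard := by
    rw [← card_ne_zero, show Nat.card F ^ j = (Set.univ : Set (Fin j → F)).ncard by
      rw [Set.ncard_univ, Nat.card_fun, Nat.card_fin], ← Set.ncard_prod, ← Set.ncard_prod]
    refine Set.ncard_le_ncard_of_injOn (fun x => ofC (Fin.cons x.1 (Fin.snoc x.2.1 x.2.2) : Fin (j + 2) → F)) ?_ ?_ hfin2
    · rintro ⟨a, f, c⟩ ⟨ha, -, hc⟩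
      obtain ⟨m1, m2, m3⟩ := ofC_spec (Fin.cons a (Fin.snoc f c) : Fin (j + 2) → F)
      refine ⟨m1, ?_, m2, ?_⟩
      · have := m3 0; simp only [Fin.val_zero, Fin.cons_zero] at this; dsimp only; rw [this]; exact ha
      · have := m3 (Fin.succ (Fin.last j))
        simp only [Fin.cons_succ, Fin.snoc_last, Fin.val_succ, Fin.val_last] at this
        show chi (_ : F) = ε
        rw [show j + 2 - 1 = j + 1 by omega, this]; exact hc
    · rintro ⟨a, f, c⟩ - ⟨a', f', c'⟩ - h
      have h' := ofC_injective h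
      obtain ⟨ha, hfc⟩ := Fin.cons_inj.1 h'
      have hc := congrFun hfc (Fin.last j)
      simp only [Fin.snoc_last] at hc
      have hf : f = f' := funext fun i => by simpa using congrFun hfc i.castSucc
      simp only at ha hc hf
      rw [ha, hc, hf]
  have h3 := card_chi (F := F) ε hε
  have hq : 2 ≤ Nat.card F := Finite.one_lt_card
  obtain ⟨r, hr⟩ : ∃ r, Nat.card F = r + 2 := ⟨Nat.card F - 2, by omega⟩
  rw [show j + 2 - 1 = j + 1 by omega] at h1
  rw [hr] at h1 h2 h3 ⊢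
  rw [show r + 2 - 1 = r + 1 by omega] at h2
  have e1 : 2 * ((r + 1) * ((r + 2) ^ j * {c : F | chi c = ε}.ncard)) = (r + 1) * (r + 2) ^ (j + 1) := by
    rw [pow_succ, ← h3]; ring
  have e2 : (r + 2) ^ (j + 2) = (r + 2) * (r + 2) ^ (j + 1) := pow_succ' _ _
  nlinarith [pow_pos (show 0 < r + 2 by omega) (j + 1)]

/-- The bound `q ^ n ≤ k`. -/
theorem le_classes_symp {ρ : Γ →* Matrix ι ι F} {n : ℕ} (hι : Fintype.card ι = 2 * n) (hn : 1 ≤ n)
    (Qf : ℤ → QuadraticForm F (ι → F)) (hnd : ∀ σ, (QuadraticMap.polarBilin (Qf σ)).Nondegenerate)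
    (hsg : ∀ σ, σ = 1 ∨ σ = -1 → 0 < gauss (Qf σ) * σ)
    (hrange : ∀ σ (A : Matrix ι ι F), IsUnit A → (∀ v, Qf σ (A *ᵥ v) = Qf σ v) → ∃ g, ρ g = A) :
    Nat.card F ^ n ≤ Nat.card (ConjClasses Γ) := by
  set top := {R : F[X] | R.Monic ∧ R.coeff 0 ≠ 0 ∧ R.natDegree = n}
  have hfin1 : (lowTags F n).Finite := (tags_finite n).subset fun R hR => ⟨hR.1, hR.2.2.le⟩
  have hfin2 : top.Finite := (tags_finite n).subset fun R hR => ⟨hR.1, hR.2.2.le⟩
  have hk : (lowTags F n ∪ top).ncard ≤ Nat.card (ConjClasses Γ) := by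
    refine ncard_le_classes (ρ := ρ) (fun R hR => hR.elim (fun h => h.1) fun h => h.1) fun R hR => ?_
    obtain ⟨hm, h0, hle⟩ : R.Monic ∧ R.coeff 0 ≠ 0 ∧ R.natDegree ≤ n :=
      hR.elim (fun h => ⟨h.1, h.2.1, h.2.2.le⟩) fun h => ⟨h.1, h.2.1, h.2.2.le⟩
    obtain ⟨A, A', hAA, hA, hT⟩ := realise (Qf (chi (R.coeff (n - 1)))) (hnd _) hι R hm h0 hle (by omega)
      fun _ => hsg _ (chi_cases _)
    obtain ⟨g, hg⟩ := hrange _ A (IsUnit.of_mul_eq_one A' hAA) hA
    refine ⟨g, ?_⟩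
    rw [hg, show ρ g⁻¹ = A' from left_inv_eq_right_inv (by rw [← hg, ← map_mul, inv_mul_cancel, map_one]) hAA]
    exact hT
  rw [Set.ncard_union_eq (Set.disjoint_left.2 fun R h h' => absurd h'.2.2 h.2.2.ne) hfin1 hfin2] at hk
  have h1 := card_lowTags (F := F) n (by omega)
  obtain ⟨j, rfl⟩ : ∃ j, n = j + 1 := ⟨n - 1, by omega⟩
  have h2 : (Nat.card F - 1) * Nat.card F ^ j ≤ top.ncard := by
    rw [← card_ne_zero, show Nat.card F ^ j = (Set.univ : Set (Fin j → F)).ncard by
      rw [Set.ncard_univ, Nat.card_fun, Nat.card_fin], ← Set.ncard_prod]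
    refine Set.ncard_le_ncard_of_injOn (fun x => ofC (Fin.cons x.1 x.2 : Fin (j + 1) → F)) ?_ ?_ hfin2
    · rintro ⟨a, f⟩ ⟨ha, -⟩
      obtain ⟨m1, m2, m3⟩ := ofC_spec (Fin.cons a f : Fin (j + 1) → F)
      refine ⟨m1, ?_, m2⟩
      have := m3 0; simp only [Fin.val_zero, Fin.cons_zero] at this; dsimp only; rw [this]; exact ha
    · rintro ⟨a, f⟩ - ⟨a', f'⟩ - h
      obtain ⟨ha, hf⟩ := Fin.cons_inj.1 (ofC_injective h)
      exact Prod.ext ha hf
  have hq : 2 ≤ Nat.card F := Finite.one_lt_card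
  obtain ⟨r, hr⟩ : ∃ r, Nat.card F = r + 1 := ⟨Nat.card F - 1, by omega⟩
  rw [show j + 1 - 1 = j by omega] at h1
  rw [hr, show r + 1 - 1 = r by omega] at h2
  rw [hr] at h1 ⊢
  rw [pow_succ']
  nlinarith

end Cfsg.Agent.CharTwoClass
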