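import Cfsg.Agent.Lib.CharTwoClass.Upper
import Cfsg.Agent.Lib.CharTwoClass.Lower
import Cfsg.Prelude.Def_Classical
import Mathlib.LinearAlgebra.SymplecticGroup

/-!
# The class numbers of `Sp` and `O±`, even characteristic

* `symp_bounds`, `orth_bounds`.
-/

set_option autoImplicit false
set_option linter.unusedVariables false
set_option linter.unusedSectionVars false

open Matrix
open scoped Classical

namespace Cfsg.Agent.CharTwoClass

universe u

open Forms

variable {F : Type u} [Field F] [CharP F 2] [Finite F] {ι : Type} [Fintype ι] [DecidableEq ι]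

/-- The matrix of an isometry. -/
noncomputable def isoHom (Q : QuadraticForm F (ι → F)) : Cfsg.isometryGroup F (⇑Q) →* Matrix ι ι F :=
  (Units.coeHom (Matrix ι ι F)).comp (Subgroup.subtype _)

theorem isoHom_range (Q : QuadraticForm F (ι → F)) (A : Matrix ι ι F) (hA : IsUnit A)
    (h : ∀ v, Q (A *ᵥ v) = Q v) : ∃ g, isoHom Q g = A :=
  ⟨⟨hA.unit, (mem_isometryGroup _ _).2 fun v => by rw [hA.unit_spec]; exact h v⟩, hA.unit_spec⟩

theorem orth_rep (Q : QuadraticForm F (ι → F)) (hQ : (QuadraticMap.polarBilin Q).Nondegenerate) :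
    Rep (1 : F) (QuadraticMap.polarBilin Q) Q (isoHom Q) := by
  refine ⟨fun v => ?_, hQ.1, Or.inl rfl, fun v w => ?_, fun a v => Q.map_smul a v,
    Units.val_injective.comp Subtype.coe_injective, fun g v w => ?_, fun g v => (mem_isometryGroup _ _).1 g.2 v,
    fun A hB hq => ?_⟩
  · rw [QuadraticMap.polarBilin_apply_apply, QuadraticMap.polar_self, two_nsmul, CharTwo.add_self_eq_zero]
  · rw [one_mul, QuadraticMap.polarBilin_apply_apply, QuadraticMap.polar]; ring
  · simp only [QuadraticMap.polarBilin_apply_apply, QuadraticMap.polar, ← Matrix.mulVec_add]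
    have h : ∀ u, Q (isoHom Q g *ᵥ u) = Q u := fun u => (mem_isometryGroup _ _).1 g.2 u
    rw [h, h, h]
  · refine isoHom_range Q A ?_ hq
    rw [← Matrix.mulVec_injective_iff_isUnit]
    refine (injective_iff_map_eq_zero (Matrix.mulVecLin A)).2 fun v hv => hQ.1 v fun w => ?_
    rw [← hB v w, show A *ᵥ v = 0 from hv, map_zero, LinearMap.zero_apply]

theorem finite_isometryGroup (Q : (ι → F) → F) : Finite (Cfsg.isometryGroup F Q) := by
  haveI := Fintype.ofFinite F
  infer_instance

/-- The bounds for an orthogonal group of a form of known sign. -/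
theorem orth_bounds (Q : QuadraticForm F (ι → F)) (hQ : (QuadraticMap.polarBilin Q).Nondegenerate) {n : ℕ}
    (hι : Fintype.card ι = 2 * n) (hn : 2 ≤ n) {ε : ℤ} (hε : ε = 1 ∨ ε = -1) (hs : 0 < gauss Q * ε) :
    Nat.card F ^ n ≤ 2 * Nat.card (ConjClasses (Cfsg.isometryGroup F (⇑Q))) ∧
      Nat.card (ConjClasses (Cfsg.isometryGroup F (⇑Q))) ≤ 15 * Nat.card F ^ n := by
  haveI := finite_isometryGroup (F := F) (⇑Q)
  exact ⟨le_classes_orth (ρ := isoHom Q) (Units.val_injective.comp Subtype.coe_injective) (isoHom_range Q) hQ hι hn hε hs,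
    card_classes_orth_le (orth_rep Q hQ) rfl hι⟩

variable (n : ℕ)

/-- The symplectic form. -/
noncomputable def sympB (F : Type u) [Field F] : LinearMap.BilinForm F (Fin n ⊕ Fin n → F) :=
  Matrix.toBilin' (Matrix.J (Fin n) F)

theorem sympB_eq (v w : Fin n ⊕ Fin n → F) :
    sympB n F v w = ∑ i, (v (.inl i) * w (.inr i) + w (.inl i) * v (.inr i)) := by
  rw [sympB, Matrix.toBilin'_apply', Matrix.J, Matrix.fromBlocks_mulVec]
  simp only [dotProduct, Fintype.sum_sum_type, Sum.elim_inl, Sum.elim_inr, Pi.add_apply, Function.comp_apply]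
  rw [← Finset.sum_add_distrib]
  refine Finset.sum_congr rfl fun i _ => ?_
  simp [Matrix.zero_mulVec, Matrix.neg_mulVec, CharTwo.neg_eq]
  ring

/-- Quadratic forms of both signs with the symplectic polar. -/
noncomputable def twistForm (α β : F) (i₀ : Fin n) : QuadraticForm F (Fin n ⊕ Fin n → F) :=
  qfPlus n F + (α • QuadraticMap.proj (.inl i₀) (.inl i₀) + β • QuadraticMap.proj (.inr i₀) (.inr i₀))

theorem twistForm_apply (α β : F) (i₀ : Fin n) (v : Fin n ⊕ Fin n → F) :
    twistForm n α β i₀ v = qfPlus n F v + (α * (v (.inl i₀) * v (.inl i₀)) + β * (v (.inr i₀) * v (.inr i₀))) := by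
  simp [twistForm]

theorem twistForm_polar (α β : F) (i₀ : Fin n) (v w : Fin n ⊕ Fin n → F) :
    QuadraticMap.polarBilin (twistForm n α β i₀) v w = sympB n F v w := by
  rw [QuadraticMap.polarBilin_apply_apply, QuadraticMap.polar, twistForm_apply, twistForm_apply, twistForm_apply,
    sympB_eq, qfPlus_apply, qfPlus_apply, qfPlus_apply]
  simp only [Cfsg.quadFormPlus, Pi.add_apply, add_mul, mul_add, Finset.sum_add_distrib]
  rw [Finset.sum_congr rfl fun i _ => mul_comm (w (.inl i)) (v (.inr i))]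
  linear_combination (α * (v (.inl i₀) * w (.inl i₀)) + β * (v (.inr i₀) * w (.inr i₀))) * CharTwo.two_eq_zero (R := F)

theorem symp_nd (v : Fin n ⊕ Fin n → F) (h : ∀ w, sympB n F v w = 0) : v = 0 := by
  funext i
  rcases i with i | i
  · simpa [sympB_eq, Pi.single_apply, Finset.sum_add_distrib] using h (Pi.single (.inr i) 1)
  · simpa [sympB_eq, Pi.single_apply, Finset.sum_add_distrib] using h (Pi.single (.inl i) 1)

theorem symp_mem {A : Matrix (Fin n ⊕ Fin n) (Fin n ⊕ Fin n) F}
    (h : ∀ v w, sympB n F (A *ᵥ v) (A *ᵥ w) = sympB n F v w) : A ∈ Matrix.symplecticGroup (Fin n) F := by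
  rw [SymplecticGroup.mem_iff']
  refine Matrix.toBilin'.injective (LinearMap.ext fun x => LinearMap.ext fun y => ?_)
  rw [Matrix.toBilin'_apply', ← Matrix.mulVec_mulVec, ← Matrix.mulVec_mulVec, Matrix.dotProduct_mulVec,
    Matrix.vecMul_transpose, ← Matrix.toBilin'_apply']
  exact h x y

theorem symp_pres (g : Matrix.symplecticGroup (Fin n) F) (v w : Fin n ⊕ Fin n → F) :
    sympB n F ((g : Matrix (Fin n ⊕ Fin n) (Fin n ⊕ Fin n) F) *ᵥ v) ((g : Matrix (Fin n ⊕ Fin n) (Fin n ⊕ Fin n) F) *ᵥ w) =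
      sympB n F v w := by
  have h := SymplecticGroup.mem_iff'.1 g.2
  conv_rhs => rw [sympB, ← h, Matrix.toBilin'_apply', ← Matrix.mulVec_mulVec, ← Matrix.mulVec_mulVec,
    Matrix.dotProduct_mulVec, Matrix.vecMul_transpose, ← Matrix.toBilin'_apply']
  rfl

theorem symp_rep : Rep (0 : F) (sympB n F) (fun _ => 0) (Matrix.symplecticGroup (Fin n) F).subtype := by
  refine ⟨fun v => ?_, symp_nd n, Or.inr ⟨rfl, fun _ => rfl⟩, fun v w => by simp, fun a v => by simp,
    Subtype.coe_injective, symp_pres n, fun g v => rfl, fun A hB _ => ⟨⟨A, symp_mem n hB⟩, rfl⟩⟩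
  rw [sympB_eq]
  exact Finset.sum_eq_zero fun i _ => CharTwo.add_self_eq_zero _

theorem symp_bounds (hn : 1 ≤ n) :
    Nat.card F ^ n ≤ Nat.card (ConjClasses (Matrix.symplecticGroup (Fin n) F)) ∧
      5 * Nat.card (ConjClasses (Matrix.symplecticGroup (Fin n) F)) ≤ 76 * Nat.card F ^ n := by
  haveI : Finite (Matrix.symplecticGroup (Fin n) F) := by
    haveI : Finite (Matrix (Fin n ⊕ Fin n) (Fin n ⊕ Fin n) F) :=
      inferInstanceAs (Finite (Fin n ⊕ Fin n → Fin n ⊕ Fin n → F))
    exact Finite.of_injective _ Subtype.coe_injective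
  have hι : Fintype.card (Fin n ⊕ Fin n) = 2 * n := by simp; omega
  refine ⟨?_, card_classes_symp_le (symp_rep n) rfl hι⟩
  obtain ⟨m, rfl⟩ : ∃ m, n = m + 1 := ⟨n - 1, by omega⟩
  let Qf : ℤ → QuadraticForm F (Fin (m + 1) ⊕ Fin (m + 1) → F) := fun σ =>
    twistForm (m + 1) (if σ = 1 then 0 else 1) (if σ = 1 then 0 else tau F) 0
  have hpolar : ∀ σ v w, QuadraticMap.polarBilin (Qf σ) v w = sympB (m + 1) F v w := fun σ => twistForm_polar _ _ _ _
  refine le_classes_symp (ρ := (Matrix.symplecticGroup (Fin (m + 1)) F).subtype) hι hn Qf (fun σ => ?_)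
    (fun σ hσ => ?_) fun σ A hA hq => ⟨⟨A, symp_mem (m + 1) fun v w => ?_⟩, rfl⟩
  · refine ⟨fun v hv => symp_nd _ v fun w => by rw [← hpolar σ]; exact hv w, fun v hv => symp_nd _ v fun w => ?_⟩
    rw [← hpolar σ, QuadraticMap.polarBilin_apply_apply, QuadraticMap.polar_comm]
    exact hv w
  · have hq : (0 : ℤ) < Nat.card F := by exact_mod_cast Nat.card_pos
    haveI : Finite (Fin m ⊕ Fin m → F) := Pi.finite
    have e : gauss (Qf σ) = gauss (fun x : F × F => x.1 * x.1 * (if σ = 1 then 0 else 1) +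
        x.2 * x.2 * (if σ = 1 then 0 else tau F) + x.1 * x.2) * gauss (qfPlus m F) := by
      rw [← gauss_prod]
      refine (gauss_equiv (plusSucc m).toEquiv fun v => ?_).symm
      show _ = twistForm (m + 1) _ _ 0 v
      rw [twistForm_apply, ← hypExt_plusSucc]
      simp [hypExt, plusSucc]
      ring
    rw [e, gauss_qfPlus]
    rcases hσ with rfl | rfl
    · simp only [if_true, plane_zero _ rfl]; positivity
    · simp only [show ((-1 : ℤ) = 1) = False from eq_false (by decide), if_false, plane_one_tau]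
      have : (0 : ℤ) < (Nat.card F : ℤ) ^ m := by positivity
      nlinarith
  · rw [← hpolar σ, ← hpolar σ]
    simp only [QuadraticMap.polarBilin_apply_apply, QuadraticMap.polar, ← Matrix.mulVec_add, hq]

end Cfsg.Agent.CharTwoClass
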