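import Cfsg.Agent.Lib.CharTwoClass.Split
import Mathlib.LinearAlgebra.BilinearForm.Orthogonal
import Mathlib.Algebra.Polynomial.Inductions

/-!
# Normal forms at the top level

* `exists_polar` : where the top pairing does not vanish;
* `exists_norm` : a normalised tuple at the nilpotency index, with the one bit it needs;
* `Form.glue` : equal bits and isometric complements give isometric systems.
-/

set_option autoImplicit false
set_option linter.unusedVariables false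
set_option linter.unusedSectionVars false

open Polynomial

namespace Cfsg.Agent.CharTwoClass

universe u v w

variable {F : Type u} [Field F] [CharP F 2] {V : Type v} [AddCommGroup V] [Module F V]
  {V' : Type w} [AddCommGroup V'] [Module F V']

namespace Sys

variable (S : Sys F V)

theorem R_fix {z : V} (h : S.N z = 0) : S.R z = z := by
  have h1 : S.R ((1 + S.N) z) = z := by
    rw [← Module.End.mul_apply, R, Ring.inverse_mul_cancel _ S.isUnit_one_add]; rfl
  rwa [LinearMap.add_apply, Module.End.one_apply, h, add_zero] at h1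

theorem Rpow_fix (k : ℕ) {z : V} (h : S.N z = 0) : (S.R ^ k) z = z := by
  induction k with
  | zero => rfl
  | succ k ih => rw [pow_succ, Module.End.mul_apply, S.R_fix h, ih]

theorem Npow_even {r : ℕ} {x : V} (h : (S.N ^ (2 * r + 1)) x = 0) : (S.N ^ (2 * r)) x = (S.T ^ r) x := by
  rw [S.T_pow_apply, S.Rpow_fix]
  rwa [← Module.End.mul_apply, ← pow_succ']

theorem Npow_odd {r : ℕ} {x : V} (h : (S.N ^ (2 * r + 2)) x = 0) :
    (S.N ^ (2 * r + 1)) x = (S.T ^ r) (S.N x) := by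
  rw [S.T_pow_apply, S.Rpow_fix, pow_succ, Module.End.mul_apply]
  rwa [← Module.End.mul_apply _ S.N, ← Module.End.mul_apply, ← pow_succ, ← pow_succ']

variable {m : ℕ} {xs : Fin m → V} {e h : ℕ}

theorem topUnit_one (he : e = 2 * (h + 1)) (hN : S.N ^ e = 0) {x : V} (hx : S.dl (h + 1) x ≠ 0) :
    S.TopUnit ![x] e := by
  refine ⟨by omega, hN, fun c hc => funext fun a => ?_⟩
  have h0 := hc 0
  rw [Fin.sum_univ_one, show e - 1 = 2 * h + 1 by omega, Matrix.cons_val_fin_one,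
    S.Npow_odd (by rw [show 2 * h + 2 = e by omega, hN]; rfl)] at h0
  rw [Subsingleton.elim a 0]
  exact (mul_eq_zero.1 h0).resolve_right hx

theorem topUnit_two_even (he : e = 2 * (h + 1)) (hN : S.N ^ e = 0) {x y : V} (hx : S.dl (h + 1) x = 0)
    (hy : S.dl (h + 1) y = 0) (hxy : S.p1 h x y = 1) : S.TopUnit ![x, y] e := by
  have hz : ∀ v, (S.N ^ e) v = 0 := fun v => by rw [hN]; rfl
  have e1 : ∀ u v, S.B ((S.N ^ (e - 1)) u) v = S.p1 h u v := fun u v => by
    rw [show e - 1 = 2 * h + 1 by omega, S.Npow_odd (by rw [show 2 * h + 2 = e by omega]; exact hz u)]; rfl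
  have hyx : S.p1 h y x = 1 := by rw [S.p1_swap, hxy, S.p0_eq_zero (hz x) y (by omega), add_zero]
  refine ⟨by omega, hN, fun c hc => funext fun a => ?_⟩
  have h0 := hc 0
  have h1 := hc 1
  simp [Fin.sum_univ_two, e1, p1_self, hx, hy, hxy, hyx] at h0 h1
  fin_cases a <;> simp [h0, h1]

theorem topUnit_two_odd (he : e = 2 * h + 1) (hN : S.N ^ e = 0) {x y : V} (hxy : S.p0 h x y = 1) :
    S.TopUnit ![x, y] e := by
  have hz : ∀ v, (S.N ^ e) v = 0 := fun v => by rw [hN]; rfl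
  have e1 : ∀ u v, S.B ((S.N ^ (e - 1)) u) v = S.p0 h u v := fun u v => by
    rw [show e - 1 = 2 * h by omega, S.Npow_even (by rw [← he]; exact hz u)]; rfl
  have hyx : S.p0 h y x = 1 := by rw [S.p0_symm, hxy]
  refine ⟨by omega, hN, fun c hc => funext fun a => ?_⟩
  have h0 := hc 0
  have h1 := hc 1
  simp [Fin.sum_univ_two, e1, p0_self, hxy, hyx] at h0 h1
  fin_cases a <;> simp [h0, h1]

theorem mem_perp_T {v : V} (hN : S.N ^ e = 0) (hv : v ∈ S.perp xs) (r : ℕ) : (S.T ^ r) v ∈ S.perp xs := by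
  have key : ∀ k (w : V), w ∈ S.perp xs → (S.N ^ k) w ∈ S.perp xs := fun k => by
    induction k with
    | zero => exact fun w hw => hw
    | succ k ih => exact fun w hw => by rw [pow_succ', Module.End.mul_apply]; exact S.perp_N hN (ih w hw)
  induction r with
  | zero => exact hv
  | succ r ih =>
    rw [pow_succ', Module.End.mul_apply]
    show S.N (S.N (S.R ((S.T ^ r) v))) ∈ S.perp xs
    refine S.perp_N hN (S.perp_N hN ?_)
    rw [S.R_eq_sum hN, LinearMap.sum_apply]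
    exact sum_mem fun i _ => key i _ ih

theorem span_gen (a : Fin m) : S.span xs (Pi.single a 1) = xs a := by
  have := S.span_single xs a 0
  simpa using this

theorem perp_p0 {v : V} (hN : S.N ^ e = 0) (hv : v ∈ S.perp xs) (a : Fin m) (r : ℕ) :
    S.p0 r (xs a) v = 0 := by
  have h := S.mem_perp_T hN hv r (Pi.single a 1)
  rwa [span_gen, ← S.Tp_adj] at h

theorem perp_p1 {v : V} (hN : S.N ^ e = 0) (hv : v ∈ S.perp xs) (a : Fin m) (r : ℕ) :
    S.p1 r (xs a) v = 0 := by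
  have h := S.mem_perp_T hN hv r (Pi.single a (X ^ 1))
  rwa [span_single, pow_one, ← S.Tp_adj] at h

variable [FiniteDimensional F V]

/-- A non-zero number of chains of length `j` gives a non-zero top pairing at height `j`. -/
theorem exists_polar {j : ℕ} (hj : 0 < S.mult j) :
    ∃ y z, (S.N ^ j) y = 0 ∧ (S.N ^ j) z = 0 ∧ S.B ((S.N ^ (j - 1)) y) z ≠ 0 := by
  have hj0 : j ≠ 0 := by rintro rfl; simp [mult] at hj
  by_contra! hall
  set K := LinearMap.ker (S.N ^ j)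
  have hrefl : S.B.IsRefl := fun a b h => by rw [S.comm]; exact h
  have hnd : S.B.Nondegenerate := ⟨S.nd, fun v hv => S.nd v fun w => by rw [S.comm]; exact hv w⟩
  have hadj : ∀ k (v w : V), S.B ((S.N ^ k) v) w = S.B v (((S.N + S.T) ^ k) w) := fun k => by
    induction k with
    | zero => exact fun v w => rfl
    | succ k ih =>
      intro v w
      rw [pow_succ', Module.End.mul_apply, S.adj, ih, ← Module.End.mul_apply, ← pow_succ]
  have hle : LinearMap.range (S.N ^ j) ≤ S.B.orthogonal K := by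
    rintro _ ⟨v, rfl⟩ k hk
    show S.B k ((S.N ^ j) v) = 0
    rw [S.comm, hadj, S.N_add_T, S.comm_R.mul_pow, (S.comm_R.pow_pow j j).eq, Module.End.mul_apply,
      LinearMap.mem_ker.1 hk, map_zero, map_zero]
  have horth : S.B.orthogonal K = LinearMap.range (S.N ^ j) := by
    refine (Submodule.eq_of_le_of_finrank_le hle ?_).symm
    have h1 := LinearMap.BilinForm.finrank_orthogonal hnd K
    have h2 := LinearMap.finrank_range_add_finrank_ker (S.N ^ j)
    have hK : Module.finrank F K = Module.finrank F (LinearMap.ker (S.N ^ j)) := rfl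
    omega
  have hsub : S.layer (j - 1) ≤ S.layer j := by
    rintro v hv
    obtain ⟨hv, w, rfl⟩ := S.mem_layer.1 hv
    have hw : (S.N ^ j) w = 0 := by
      rwa [show j = (j - 1) + 1 by omega, pow_succ', Module.End.mul_apply]
    refine S.mem_layer.2 ⟨hv, ?_⟩
    have : (S.N ^ (j - 1)) w ∈ S.B.orthogonal K := fun k hk => by
      show S.B k _ = 0
      rw [S.comm]; exact hall w k hw (LinearMap.mem_ker.1 hk)
    rwa [horth] at this
  rw [mult, if_neg hj0] at hj
  have := Submodule.finrank_mono hsub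
  rw [← lay, ← lay] at this
  omega

theorem mult_pos (he : 0 < e) (hN : S.N ^ e = 0) (hN' : S.N ^ (e - 1) ≠ 0) : 0 < S.mult e := by
  have h0 : S.lay e = 0 := by
    rw [lay, show S.layer e = ⊥ from eq_bot_iff.2 fun v hv => by
      obtain ⟨-, w, rfl⟩ := S.mem_layer.1 hv
      rw [hN, LinearMap.zero_apply]; exact zero_mem _, finrank_bot]
  have h1 : 0 < S.lay (e - 1) := by
    obtain ⟨w, hw⟩ : ∃ w, (S.N ^ (e - 1)) w ≠ 0 := by
      by_contra! h; exact hN' (LinearMap.ext h)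
    refine Submodule.one_le_finrank_iff.2 fun hbot => hw ?_
    rw [← Submodule.mem_bot F, ← hbot]
    refine S.mem_layer.2 ⟨?_, w, rfl⟩
    rw [← Module.End.mul_apply, ← pow_succ', show e - 1 + 1 = e by omega, hN, LinearMap.zero_apply]
  rw [mult, if_neg he.ne', h0]
  omega

/-! ### Normal tuples -/

variable [Finite F]

/-- One of the two allowed values. -/
noncomputable def bval (F : Type u) [Field F] [CharP F 2] [Finite F] (b : Bool) : F := if b then tau F else 0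

/-- A normalised tuple at the nilpotency index `e`. -/
inductive Form : ∀ (e : ℕ) {m : ℕ}, (Fin m → V) → Bool → Prop
  | top (h : ℕ) (x : V) (b : Bool) (hE : S.Eps h)
      (hd : ∀ r, S.dl r x = if r = h + 1 then 1 else if r = h then bval F b else 0) :
      Form (2 * (h + 1)) ![x] b
  | even (h : ℕ) (x y : V) (hE : ¬ S.Eps h) (hx : ∀ r, S.dl r x = 0) (hy : ∀ r, S.dl r y = 0)
      (h0 : ∀ r, S.p0 r x y = 0) (h1 : ∀ r, S.p1 r x y = if r = h then 1 else 0) :
      Form (2 * (h + 1)) ![x, y] false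
  | odd (h : ℕ) (x y : V) (b : Bool) (hx : ∀ r, S.dl r x = if r = h ∧ b = true then 1 else 0)
      (hy : ∀ r, S.dl r y = if r = h then bval F b else 0)
      (h0 : ∀ r, S.p0 r x y = if r = h then 1 else 0) (h1 : ∀ r, S.p1 r x y = 0) :
      Form (2 * h + 1) ![x, y] b

/-- Where a bit may be needed. -/
def Free (e : ℕ) : Prop :=
  (∃ h, e = 2 * (h + 1) ∧ S.mult e = 1 ∧ S.mult (2 * h + 1) = 0 ∧ S.Eps h) ∨ (Odd e ∧ S.mult e = 2)

theorem exists_absorb {g0 : F} {u : V} (hu : S.dl h u ≠ 0) : ∃ g : F, g * g * S.dl h u = g0 := by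
  obtain ⟨g, hg⟩ := exists_sq F (g0 / S.dl h u)
  exact ⟨g, by rw [hg, div_mul_cancel₀ _ hu]⟩

theorem exists_dl_ne {y z : V} (hk : S.kap h = 1) (hyz : S.p0 h y z ≠ 0) :
    S.dl h y ≠ 0 ∨ S.dl h z ≠ 0 ∨ S.dl h (y + z) ≠ 0 := by
  by_contra! hall
  apply hyz
  simpa [S.dl_add, hk, hall.1, hall.2.1] using hall.2.2

theorem kap_cases (h : ℕ) : S.kap h = 0 ∨ S.kap h = 1 := by
  cases h with
  | zero => rcases S.cq with h | h <;> simp [h]
  | succ h => simp

theorem dl_of_kap (h : ℕ) (hk : S.kap h = 0) (x : V) : S.dl h x = 0 := by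
  rw [← S.kap_dl, hk, zero_mul]

/-- The complement keeps the top value. -/
theorem compl_eps_top (he : e = 2 * (h + 1)) (hN : S.N ^ e = 0) {x z : V} (hx : S.dl (h + 1) x = 1)
    (hz : S.p1 h x z = 0) (hz' : S.dl (h + 1) z ≠ 0) :
    (S.compl (S.topUnit_one he hN (x := x) (by rw [hx]; exact one_ne_zero))).Eps h := by
  have hv : ∀ v, (S.N ^ e) v = 0 := fun v => by rw [hN]; rfl
  set hu := S.topUnit_one he hN (x := x) (by rw [hx]; exact one_ne_zero)
  obtain ⟨p, w, hw, rfl⟩ := S.exists_decomp hu z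
  have hp : S.span ![x] p = (p 0).coeff 0 • x + S.N (S.span ![x] fun a => (p a).divX) := by
    have : p = fun a => C ((p a).coeff 0) * 1 + X * (p a).divX := funext fun a => by
      rw [mul_one, add_comm, X_mul_divX_add]
    conv_lhs => rw [this]
    simp [span_apply, Module.End.mul_apply]
  refine ⟨⟨w, hw⟩, Subtype.ext ?_, ?_⟩
  · rw [Sys.compl, S.sub_Npow, show 2 * h + 2 = e by omega]; exact hv w
  rw [Sys.compl, S.sub_dl]
  have h1 : (p 0).coeff 0 = 0 := by
    rw [hp, p1_add, p1_add, p1_smul, p1_self, hx, S.p1_N, S.p0_eq_zero (hv x) _ (by omega)] at hz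
    have : S.p1 h x w = 0 := S.perp_p1 hN hw 0 h
    rw [this] at hz
    simpa using hz
  have h2 : S.dl (h + 1) (S.span ![x] p) = 0 := by
    rw [hp, h1, zero_smul, zero_add, S.dl_N, S.dl_eq_zero (hv _) (r := h + 1 + 1) (by omega), mul_zero]
  rwa [S.dl_split _ hu p hw, h2, zero_add] at hz'

theorem compl_npow (hx : S.TopUnit xs e) {v : S.perp xs} {k : ℕ} (hv : ((S.compl hx).N ^ k) v = 0) :
    (S.N ^ k) (v : V) = 0 := by
  rw [← S.sub_Npow _ (fun v hv => S.perp_N hx.2.1 hv) (S.perp_nd hx) k v]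
  exact congrArg Subtype.val hv

theorem compl_dl (hx : S.TopUnit xs e) (r : ℕ) (v : S.perp xs) : (S.compl hx).dl r v = S.dl r v :=
  S.sub_dl _ _ _ r v

/-- An absorber in the complement. -/
theorem exists_absorber_odd (hx : S.TopUnit xs e) (hk : S.kap h = 1)
    (hd : 0 < (S.compl hx).mult (2 * h + 1)) :
    ∃ u ∈ S.perp xs, (S.N ^ (2 * h + 1)) u = 0 ∧ S.dl h u ≠ 0 := by
  obtain ⟨y, z, hy, hz, hyz⟩ := (S.compl hx).exists_polar hd
  rw [show 2 * h + 1 - 1 = 2 * h by omega] at hyz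
  have hy' := S.compl_npow hx hy
  have hz' := S.compl_npow hx hz
  have : S.p0 h (y : V) z ≠ 0 := by
    rw [p0, ← S.Npow_even hy', ← S.sub_Npow _ (fun v hv => S.perp_N hx.2.1 hv) (S.perp_nd hx) (2 * h) y]
    exact hyz
  rcases S.exists_dl_ne hk this with h1 | h1 | h1
  exacts [⟨y, y.2, hy', h1⟩, ⟨z, z.2, hz', h1⟩,
    ⟨(y : V) + z, add_mem y.2 z.2, by rw [map_add, hy', hz', add_zero], h1⟩]

theorem exists_good (he : e = 2 * (h + 1)) (hN : S.N ^ e = 0) (hE : S.Eps h) :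
    ∃ x, S.dl (h + 1) x = 1 ∧ (2 ≤ S.mult e → ∃ z, S.p1 h x z = 0 ∧ S.dl (h + 1) z ≠ 0) := by
  have hv : ∀ v, (S.N ^ e) v = 0 := fun v => by rw [hN]; rfl
  obtain ⟨x, -, hx⟩ := hE
  obtain ⟨g, hg⟩ := exists_sq F (S.dl (h + 1) x)⁻¹
  have hx1 : S.dl (h + 1) (g • x) = 1 := by rw [S.dl_smul, hg, inv_mul_cancel₀ hx]
  generalize g • x = x at hx1
  by_cases hm : 2 ≤ S.mult e
  swap
  · exact ⟨x, hx1, fun h => absurd h hm⟩
  by_cases hgood : ∃ z, S.p1 h x z = 0 ∧ S.dl (h + 1) z ≠ 0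
  · exact ⟨x, hx1, fun _ => hgood⟩
  push Not at hgood
  set hu := S.topUnit_one he hN (x := x) (by rw [hx1]; exact one_ne_zero)
  have hm' : 0 < (S.compl hu).mult e := by
    have := S.mult_split hu e
    rw [if_pos rfl] at this
    omega
  obtain ⟨y, z, -, -, hyz⟩ := (S.compl hu).exists_polar hm'
  have hyz' : S.p1 h (y : V) z ≠ 0 := by
    rw [p1, ← S.Npow_odd (by rw [show 2 * h + 2 = e by omega]; exact hv _),
      ← S.sub_Npow _ (fun v hv => S.perp_N hN hv) (S.perp_nd hu) (2 * h + 1) y]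
    rw [show e - 1 = 2 * h + 1 by omega] at hyz
    exact hyz
  have hy : S.p1 h x (y : V) = 0 := S.perp_p1 hN y.2 0 h
  have hz : S.p1 h x (z : V) = 0 := S.perp_p1 hN z.2 0 h
  have p0z : ∀ a b : V, S.p0 (h + 1) a b = 0 := fun a b => S.p0_eq_zero (hv a) b (by omega)
  have hy0 := hgood _ hy
  have hz0 := hgood _ hz
  refine ⟨x + (y : V), by rw [S.dl_add, hx1, hy0, p0z]; ring, fun _ =>
    ⟨x + (S.p1 h (y : V) z)⁻¹ • (z : V), ?_, ?_⟩⟩
  · rw [p1_add, p1_add_left, p1_add_left, p1_smul, p1_smul, p1_self, hx1, hz, S.p1_swap h x (y : V), hy, p0z,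
      inv_mul_cancel₀ hyz']
    linear_combination CharTwo.add_self_eq_zero (1 : F)
  · rw [S.dl_add, S.dl_smul, hx1, hz0, p0z]
    simp

/-- The top vector. -/
theorem exists_top (he : e = 2 * (h + 1)) (hN : S.N ^ e = 0) (hE : S.Eps h) :
    ∃ (x : V) (b : Bool), (∀ r, S.dl r x = if r = h + 1 then 1 else if r = h then bval F b else 0) ∧
      (2 ≤ S.mult e → ∃ z, S.p1 h x z = 0 ∧ S.dl (h + 1) z ≠ 0) ∧
      (b = true → S.kap h = 1 ∧ S.mult e ≤ 1 ∧ S.mult (2 * h + 1) = 0 ∧ (0 < h → ¬ S.Eps (h - 1))) := by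
  have hv : ∀ v, (S.N ^ e) v = 0 := fun v => by rw [hN]; rfl
  have p0z : ∀ a b : V, S.p0 (h + 1) a b = 0 := fun a b => S.p0_eq_zero (hv a) b (by omega)
  obtain ⟨x, hx, hgood⟩ := S.exists_good he hN hE
  suffices ∃ (x : V) (b : Bool), S.dl (h + 1) x = 1 ∧ S.dl h x = bval F b ∧
      (2 ≤ S.mult e → ∃ z, S.p1 h x z = 0 ∧ S.dl (h + 1) z ≠ 0) ∧
      (b = true → S.kap h = 1 ∧ S.mult e ≤ 1 ∧ S.mult (2 * h + 1) = 0 ∧ (0 < h → ¬ S.Eps (h - 1))) by
    obtain ⟨x, b, h1, h2, h3, h4⟩ := this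
    obtain ⟨w, hw⟩ := S.exists_cyc he hN h1
    refine ⟨x + S.N w, b, fun r => by rw [hw r, h2], fun hm => ?_, h4⟩
    obtain ⟨z, hz, hz'⟩ := h3 hm
    exact ⟨z, by rw [p1_add_left, hz, S.p1_swap h z (S.N w), S.p1_N, p0z, p0z]; ring, hz'⟩
  rcases S.kap_cases h with hk | hk
  · exact ⟨x, false, hx, by rw [S.dl_of_kap h hk]; rfl, hgood, fun hb => absurd hb (by decide)⟩
  set hu := S.topUnit_one he hN (x := x) (by rw [hx]; exact one_ne_zero)
  by_cases habs : 2 ≤ S.mult e ∨ 0 < S.mult (2 * h + 1) ∨ (0 < h ∧ S.Eps (h - 1))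
  · obtain ⟨u, hu1, hu2, hu3, hu4⟩ : ∃ u ∈ S.perp ![x], S.dl (h + 1) u = 0 ∧ S.dl h u ≠ 0 ∧
        (2 ≤ S.mult e → ∃ z, S.p1 h x z = 0 ∧ S.p1 h u z = 0 ∧ S.dl (h + 1) z ≠ 0) := by
      by_cases hm : 2 ≤ S.mult e
      · obtain ⟨z, hz, hz'⟩ := hgood hm
        obtain ⟨⟨w, hw⟩, -, hw'⟩ := S.compl_eps_top he hN hx hz hz'
        rw [compl_dl] at hw'
        refine ⟨S.N w, S.perp_N hN hw, ?_, ?_, fun _ => ⟨w, S.perp_p1 hN hw 0 h, ?_, hw'⟩⟩
        · rw [S.dl_N, S.dl_eq_zero (hv w) (r := h + 1 + 1) (by omega), mul_zero]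
        · rwa [S.dl_N, hk, one_mul]
        · rw [S.p1_swap, S.p1_N, p0z, p0z, add_zero]
      · suffices ∃ u ∈ S.perp ![x], (S.N ^ (2 * h + 1)) u = 0 ∧ S.dl h u ≠ 0 by
          obtain ⟨u, hu1, hu2, hu3⟩ := this
          exact ⟨u, hu1, S.dl_eq_zero hu2 (by omega), hu3, fun h => absurd h hm⟩
        rcases habs.resolve_left hm with hd | ⟨hh, hE'⟩
        · refine S.exists_absorber_odd hu hk ?_
          rw [S.mult_split hu, if_neg (by omega), zero_add] at hd
          exact hd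
        · obtain ⟨⟨w, hw⟩, hw1, hw2⟩ := (S.eps_split hu (by omega)).1 hE'
          rw [compl_dl, show h - 1 + 1 = h by omega] at hw2
          exact ⟨w, hw, S.pow_zero_of_le (by omega) (S.compl_npow hu hw1), hw2⟩
    obtain ⟨g, hg⟩ := S.exists_absorb (g0 := S.dl h x) hu3
    refine ⟨x + g • u, false, ?_, ?_, fun hm => ?_, fun hb => absurd hb (by decide)⟩
    · rw [S.dl_add, S.dl_smul, hu2, hx, p0z]; ring
    · rw [S.dl_add, S.dl_smul, hg, p0_smul, show S.p0 h x u = 0 from S.perp_p0 hN hu1 0 h]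
      simp [bval, CharTwo.add_self_eq_zero]
    · obtain ⟨z, hz1, hz2, hz3⟩ := hu4 hm
      exact ⟨z, by rw [p1_add_left, p1_smul_left, hz1, hz2]; ring, hz3⟩
  · push Not at habs
    obtain ⟨g, hg⟩ := exists_tau F (S.dl h x)
    obtain ⟨w, h1, h2⟩ := S.exists_shift he hN hx g
    rw [hk, one_mul] at h2
    have hb : ∀ b : Bool, b = true → S.kap h = 1 ∧ S.mult e ≤ 1 ∧ S.mult (2 * h + 1) = 0 ∧
        (0 < h → ¬ S.Eps (h - 1)) := fun b _ => ⟨hk, by omega, by omega, fun hh => habs.2.2 hh⟩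
    rcases hg with hg | hg
    · exact ⟨x + S.N w, false, h1, h2.trans hg, fun hm => absurd hm (by omega), hb _⟩
    · exact ⟨x + S.N w, true, h1, h2.trans hg, fun hm => absurd hm (by omega), hb _⟩

/-- A singular member makes a pair singular. -/
theorem pair_zero (he : e = 2 * h + 1) (hN : S.N ^ e = 0) (hk : S.kap h = 1) {x y : V} (hx : S.dl h x = 0)
    (hxy : S.p0 h x y = 1) : ∃ x' y', S.p0 h x' y' = 1 ∧ S.dl h x' = 0 ∧ S.dl h y' = 0 := by
  refine ⟨x, y + S.dl h y • x, by rw [p0_add, p0_smul, p0_self, hxy]; ring, hx, ?_⟩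
  rw [S.dl_add, S.dl_smul, hx, p0_smul, S.p0_symm h x y, hxy, hk]
  linear_combination CharTwo.add_self_eq_zero (S.dl h y)

/-- The pair at odd length. -/
theorem exists_odd (he : e = 2 * h + 1) (hN : S.N ^ e = 0) (hm : 0 < S.mult e) :
    ∃ (x y : V) (b : Bool), (∀ r, S.dl r x = if r = h ∧ b = true then 1 else 0) ∧
      (∀ r, S.dl r y = if r = h then bval F b else 0) ∧
      (∀ r, S.p0 r x y = if r = h then 1 else 0) ∧ (∀ r, S.p1 r x y = 0) ∧
      (b = true → S.kap h = 1 ∧ S.mult e = 2 ∧ (0 < h → ¬ S.Eps (h - 1))) := by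
  have hv : ∀ v, (S.N ^ e) v = 0 := fun v => by rw [hN]; rfl
  suffices ∃ (x y : V) (b : Bool), S.p0 h x y = 1 ∧ S.dl h x = (if b = true then 1 else 0) ∧
      S.dl h y = bval F b ∧ (b = true → S.kap h = 1 ∧ S.mult e = 2 ∧ (0 < h → ¬ S.Eps (h - 1))) by
    obtain ⟨x, y, b, h0, h1, h2, h3⟩ := this
    obtain ⟨x', y', e1, e2, e3, e4⟩ := S.exists_pair_odd he hN h0
    refine ⟨x', y', b, fun r => ?_, fun r => by rw [e2 r, h2], e3, e4, h3⟩
    rw [e1 r, h1, ite_and]
  obtain ⟨x, y, hx, -, hxy⟩ := S.exists_polar hm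
  rw [show e - 1 = 2 * h by omega, S.Npow_even (by rw [← he]; exact hv x)] at hxy
  change S.p0 h x y ≠ 0 at hxy
  obtain ⟨y, hxy⟩ : ∃ y, S.p0 h x y = 1 := ⟨(S.p0 h x y)⁻¹ • y, by rw [p0_smul, inv_mul_cancel₀ hxy]⟩
  rcases S.kap_cases h with hk | hk
  · exact ⟨x, y, false, hxy, by rw [S.dl_of_kap h hk]; rfl, by rw [S.dl_of_kap h hk]; rfl,
      fun hb => absurd hb (by decide)⟩
  have zero : ∀ {x y : V}, S.dl h x = 0 → S.p0 h x y = 1 → ∃ (x y : V) (b : Bool), S.p0 h x y = 1 ∧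
      S.dl h x = (if b = true then 1 else 0) ∧ S.dl h y = bval F b ∧
      (b = true → S.kap h = 1 ∧ S.mult e = 2 ∧ (0 < h → ¬ S.Eps (h - 1))) := fun h1 h2 => by
    obtain ⟨a, b, e1, e2, e3⟩ := S.pair_zero he hN hk h1 h2
    exact ⟨a, b, false, e1, e2, e3, fun hb => absurd hb (by decide)⟩
  by_cases ha : S.dl h x = 0
  · exact zero ha hxy
  set hu := S.topUnit_two_odd he hN hxy
  by_cases habs : S.mult e ≠ 2 ∨ (0 < h ∧ S.Eps (h - 1))
  · obtain ⟨u, hu1, hu3⟩ : ∃ u ∈ S.perp ![x, y], S.dl h u ≠ 0 := by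
      rcases habs with hd | ⟨hh, hE'⟩
      · rw [S.mult_split hu, if_pos rfl] at hd
        obtain ⟨u, h1, -, h2⟩ := S.exists_absorber_odd hu hk (by rw [← he]; omega)
        exact ⟨u, h1, h2⟩
      · obtain ⟨⟨w, hw⟩, -, hw2⟩ := (S.eps_split hu (by omega)).1 hE'
        rw [compl_dl, show h - 1 + 1 = h by omega] at hw2
        exact ⟨w, hw, hw2⟩
    obtain ⟨g, hg⟩ := S.exists_absorb (g0 := S.dl h x) hu3
    refine zero (x := x + g • u) (y := y) ?_ ?_
    · rw [S.dl_add, S.dl_smul, hg, p0_smul, show S.p0 h x u = 0 from S.perp_p0 hN hu1 0 h,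
        CharTwo.add_self_eq_zero]
      ring
    · rw [p0_add_left, p0_smul_left, hxy, S.p0_symm h y u, show S.p0 h y u = 0 from S.perp_p0 hN hu1 1 h]
      ring
  push Not at habs
  obtain ⟨s, hs⟩ := exists_sq F (S.dl h x)⁻¹
  have hs0 : s ≠ 0 := by rintro rfl; exact ha (by simpa using hs.symm)
  obtain ⟨x₁, y₁, hx1, hxy1⟩ : ∃ x₁ y₁, S.dl h x₁ = 1 ∧ S.p0 h x₁ y₁ = 1 :=
    ⟨s • x, s⁻¹ • y, by rw [S.dl_smul, hs, inv_mul_cancel₀ ha],
      by rw [p0_smul_left, p0_smul, hxy, mul_one, mul_inv_cancel₀ hs0]⟩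
  obtain ⟨g, hg⟩ := exists_tau F (S.dl h y₁)
  have hd : S.dl h (y₁ + g • x₁) = S.dl h y₁ + (g + g * g) := by
    rw [S.dl_add, S.dl_smul, hx1, p0_smul, S.p0_symm h x₁ y₁, hxy1, hk]; ring
  have hp : S.p0 h x₁ (y₁ + g • x₁) = 1 := by rw [p0_add, p0_smul, p0_self, hxy1]; ring
  rcases hg with hg | hg
  · refine zero (x := y₁ + g • x₁) (y := x₁) (hd.trans hg) ?_
    rw [S.p0_symm, hp]
  · exact ⟨x₁, y₁ + g • x₁, true, hp, hx1, hd.trans hg, fun _ => ⟨hk, habs.1, habs.2⟩⟩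

/-- The normal tuple. -/
theorem exists_norm (he : 0 < e) (hN : S.N ^ e = 0) (hN' : S.N ^ (e - 1) ≠ 0) :
    ∃ (m : ℕ) (xs : Fin m → V) (hx : S.TopUnit xs e) (b : Bool), 0 < m ∧ S.Form e xs b ∧
      (b = true → S.Free e ∧ S.kap ((e - 1) / 2) = 1 ∧ (0 < (e - 1) / 2 → ¬ S.Eps ((e - 1) / 2 - 1))) ∧
      (∀ j, e = 2 * j + 2 → S.Eps j → 2 ≤ S.mult e → (S.compl hx).Eps j) ∧
      ((∃ j, e = 2 * j + 2 ∧ S.Eps j) ∨ m = 2) := by
  have hv : ∀ v, (S.N ^ e) v = 0 := fun v => by rw [hN]; rfl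
  have hm := S.mult_pos he hN hN'
  rcases Nat.even_or_odd' e with ⟨k, hk | hk⟩
  · obtain ⟨h, rfl⟩ : ∃ h, k = h + 1 := ⟨k - 1, by omega⟩
    subst hk
    have hh : (2 * (h + 1) - 1) / 2 = h := by omega
    by_cases hE : S.Eps h
    · obtain ⟨x, b, hd, hgood, hb⟩ := S.exists_top rfl hN hE
      have hx1 : S.dl (h + 1) x = 1 := by rw [hd, if_pos rfl]
      refine ⟨1, ![x], S.topUnit_one rfl hN (by rw [hx1]; exact one_ne_zero), b, one_pos,
        .top h x b hE hd, fun hbt => ?_, fun j hj hEj hm2 => ?_, Or.inl ⟨h, by omega, hE⟩⟩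
      · obtain ⟨h1, h2, h3, h4⟩ := hb hbt
        rw [hh]
        exact ⟨Or.inl ⟨h, rfl, by omega, h3, hE⟩, h1, h4⟩
      · obtain rfl : j = h := by omega
        obtain ⟨z, hz, hz'⟩ := hgood hm2
        exact S.compl_eps_top rfl hN hx1 hz hz'
    · have htop : ∀ v, S.dl (h + 1) v = 0 := fun v => by
        by_contra hc
        exact hE ⟨v, hv v, hc⟩
      obtain ⟨x, y, -, -, hxy⟩ := S.exists_polar hm
      rw [show 2 * (h + 1) - 1 = 2 * h + 1 by omega, S.Npow_odd (hv x)] at hxy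
      change S.p1 h x y ≠ 0 at hxy
      obtain ⟨y, hxy⟩ : ∃ y, S.p1 h x y = 1 := ⟨(S.p1 h x y)⁻¹ • y, by rw [p1_smul, inv_mul_cancel₀ hxy]⟩
      obtain ⟨x', y', e1, e2, e3, e4⟩ := S.exists_pair_even rfl hN htop hxy
      refine ⟨2, ![x', y'], S.topUnit_two_even rfl hN (htop _) (htop _) (by rw [e4, if_pos rfl]), false, two_pos,
        .even h x' y' hE e1 e2 e3 e4, fun hb => absurd hb (by decide), fun j hj hEj _ => ?_, Or.inr rfl⟩
      obtain rfl : j = h := by omega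
      exact absurd hEj hE
  · subst hk
    obtain ⟨x, y, b, hx, hy, h0, h1, hb⟩ := S.exists_odd rfl hN hm
    refine ⟨2, ![x, y], S.topUnit_two_odd rfl hN (by rw [h0, if_pos rfl]), b, two_pos,
      .odd k x y b hx hy h0 h1, fun hbt => ?_, fun j hj _ _ => absurd hj (by omega), Or.inr rfl⟩
    obtain ⟨h1, h2, h3⟩ := hb hbt
    rw [show (2 * k + 1 - 1) / 2 = k by omega]
    exact ⟨Or.inr ⟨odd_two_mul_add_one k, h2⟩, h1, h3⟩

/-! ### Comparing -/

variable {S} {S' : Sys F V'}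

theorem same_one (hc : S'.c = S.c) {x : V} {x' : V'} (hd : ∀ r, S'.dl r x' = S.dl r x) :
    Same S ![x] S' ![x'] := by
  refine ⟨hc, fun r a b => ?_, fun r a b => ?_, fun a => ?_⟩
  · simp [p0_self]
  · simp [p1_self, hd]
  · obtain rfl := Subsingleton.elim a 0
    exact hd 0

theorem same_two (hc : S'.c = S.c) {x y : V} {x' y' : V'} (hx : ∀ r, S'.dl r x' = S.dl r x)
    (hy : ∀ r, S'.dl r y' = S.dl r y) (h0 : ∀ r, S'.p0 r x' y' = S.p0 r x y)
    (h1 : ∀ r, S'.p1 r x' y' = S.p1 r x y) : Same S ![x, y] S' ![x', y'] := by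
  refine ⟨hc, fun r a b => ?_, fun r a b => ?_, fun a => ?_⟩
  · fin_cases a <;> fin_cases b <;> simp [p0_self, h0, S.p0_symm r x y, S'.p0_symm r x' y']
  · fin_cases a <;> fin_cases b <;> simp [p1_self, hx, hy, h0, h1, S.p1_swap r x y, S'.p1_swap r x' y']
  · fin_cases a
    · exact hx 0
    · exact hy 0

/-- Equal bits and isometric complements. -/
theorem Form.glue [FiniteDimensional F V'] {m m' : ℕ} {xs : Fin m → V} {xs' : Fin m' → V'} {b : Bool}
    (hc : S'.c = S.c) (hE : ∀ j, S'.Eps j ↔ S.Eps j) (hf : S.Form e xs b) (hf' : S'.Form e xs' b)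
    (hx : S.TopUnit xs e) (hx' : S'.TopUnit xs' e) (hi : Iso (S.compl hx) (S'.compl hx')) : Iso S S' := by
  generalize he' : e = e' at hf'
  cases hf with
  | top h x b hS hd =>
    cases hf' with
    | top h' x' b hS' hd' =>
      obtain rfl : h' = h := by omega
      exact Sys.glue (same_one hc fun r => by rw [hd, hd']) hx hx' hi
    | even h' x' y' hS' =>
      obtain rfl : h' = h := by omega
      exact absurd ((hE h').2 hS) hS'
    | odd h' x' y' => omega
  | even h x y hS h1 h2 h3 h4 =>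
    cases hf' with
    | top h' x' b hS' hd' =>
      obtain rfl : h' = h := by omega
      exact absurd ((hE h').1 hS') hS
    | even h' x' y' hS' h1' h2' h3' h4' =>
      obtain rfl : h' = h := by omega
      exact Sys.glue (same_two hc (fun r => by rw [h1, h1']) (fun r => by rw [h2, h2'])
        (fun r => by rw [h3, h3']) fun r => by rw [h4, h4']) hx hx' hi
    | odd h' x' y' => omega
  | odd h x y b h1 h2 h3 h4 =>
    cases hf' with
    | top => omega
    | even => omega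
    | odd h' x' y' b h1' h2' h3' h4' =>
      obtain rfl : h' = h := by omega
      exact Sys.glue (same_two hc (fun r => by rw [h1, h1']) (fun r => by rw [h2, h2'])
        (fun r => by rw [h3, h3']) fun r => by rw [h4, h4']) hx hx' hi

end Sys

end Cfsg.Agent.CharTwoClass
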