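import Cfsg.Agent.Lib.CharTwoClass.Gauss
import Cfsg.Agent.Lib.Forms.Bases

/-!
# The sign of the standard quadratic forms, characteristic two

* `gauss_qfPlus`, `gauss_qfMinus` : `± q ^ m`;
* `exists_isometry_of_gauss` : equal rank and sign give isometric forms.
-/

set_option autoImplicit false
set_option linter.unusedVariables false
set_option linter.unusedSectionVars false
set_option linter.style.haveILetI false

open scoped Classical

namespace Cfsg.Agent.CharTwoClass

universe u v w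

open Forms

variable {F : Type u} [Field F] [CharP F 2] [Finite F]

theorem chi_cases (a : F) : chi a = 1 ∨ chi a = -1 := by unfold chi; split_ifs <;> simp

theorem plane_tau_mul (b : F) :
    gauss (fun x : F × F => x.1 * x.1 * 1 + x.2 * x.2 * b + x.1 * x.2) = Nat.card F * chi b := by
  obtain ⟨g, hg⟩ := exists_tau F b
  let θ : F × F ≃ F × F :=
    { toFun := fun x => (x.1 + g * x.2, x.2), invFun := fun x => (x.1 + g * x.2, x.2)
      left_inv := fun x => by simp [add_assoc, CharTwo.add_self_eq_zero]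
      right_inv := fun x => by simp [add_assoc, CharTwo.add_self_eq_zero] }
  have h : gauss (fun x : F × F => x.1 * x.1 * 1 + x.2 * x.2 * b + x.1 * x.2) =
      gauss (fun x : F × F => x.1 * x.1 * 1 + x.2 * x.2 * (b + (g + g * g)) + x.1 * x.2) := by
    refine (gauss_equiv θ.symm fun x => ?_)
    show (x.1 + g * x.2) * (x.1 + g * x.2) * 1 + x.2 * x.2 * b + (x.1 + g * x.2) * x.2 = _
    linear_combination (x.1 * x.2 * g) * CharTwo.two_eq_zero (R := F)
  have hc : chi b = chi (b + (g + g * g)) := by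
    rw [chi_add, show chi (g + g * g) = 1 from if_pos ⟨g, rfl⟩, mul_one]
  rcases hg with hg | hg
  · rw [h, hc, hg, chi_zero, plane_zero _ rfl, mul_one]
  · rw [h, hc, hg, chi_tau, plane_one_tau]; ring

theorem plane_general (a b : F) :
    gauss (fun x : F × F => x.1 * x.1 * a + x.2 * x.2 * b + x.1 * x.2) = Nat.card F * chi (a * b) := by
  by_cases ha : a = 0
  · subst ha
    rw [plane_swap, plane_zero _ rfl, zero_mul, chi_zero, mul_one]
  obtain ⟨s, hs⟩ := exists_sq F a⁻¹
  have hs0 : s ≠ 0 := by rintro rfl; exact inv_ne_zero ha (by rw [← hs, mul_zero])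
  have ha' : a * (s * s) = 1 := by rw [hs, mul_inv_cancel₀ ha]
  let θ : F × F ≃ F × F := (Equiv.mulLeft₀ s hs0).prodCongr (Equiv.mulLeft₀ s⁻¹ (inv_ne_zero hs0))
  rw [← plane_tau_mul]
  refine gauss_equiv θ fun x => ?_
  show (s * x.1) * (s * x.1) * a + (s⁻¹ * x.2) * (s⁻¹ * x.2) * b + (s * x.1) * (s⁻¹ * x.2) = _
  have e1 : (s⁻¹ * s⁻¹) = a := by rw [← mul_inv, hs, inv_inv]
  linear_combination (x.1 * x.1) * ha' + (x.2 * x.2 * b) * e1 + (x.1 * x.2) * mul_inv_cancel₀ hs0

theorem gauss_qfPlus (m : ℕ) : gauss (qfPlus m F) = (Nat.card F : ℤ) ^ m := by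
  induction m with
  | zero =>
    haveI : Unique (Fin 0 ⊕ Fin 0 → F) := Pi.uniqueOfIsEmpty _
    rw [gauss, finsum_eq_sum_of_fintype, Fintype.sum_unique]
    simp [chi_zero, qfPlus]
  | succ m ih =>
    haveI : Finite (Fin m ⊕ Fin m → F) := Pi.finite
    rw [show gauss (qfPlus (m + 1) F) = gauss fun x : (F × F) × (Fin m ⊕ Fin m → F) =>
      x.1.1 * x.1.1 * 0 + x.1.2 * x.1.2 * 0 + x.1.1 * x.1.2 + qfPlus m F x.2 from
      (gauss_equiv (plusSucc m).toEquiv fun v => by
        rw [← hypExt_plusSucc]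
        simp [hypExt]).symm]
    rw [gauss_prod (fun x : F × F => x.1 * x.1 * 0 + x.2 * x.2 * 0 + x.1 * x.2) (qfPlus m F), plane_zero _ rfl, ih,
      pow_succ']

theorem chi_of_anisotropic {a b : F} (hab : ∀ x y : F, x ^ 2 + a * x * y + b * y ^ 2 = 0 → x = 0 ∧ y = 0) :
    a ≠ 0 ∧ chi (b / (a * a)) = -1 := by
  have ha : a ≠ 0 := by
    rintro rfl
    obtain ⟨s, hs⟩ := exists_sq F b
    exact one_ne_zero (hab s 1 (by rw [← hs]; linear_combination (s * s) * CharTwo.two_eq_zero (R := F))).2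
  refine ⟨ha, if_neg fun ⟨g, hg⟩ => one_ne_zero (hab (a * g) 1 ?_).2⟩
  have hb : b = (g + g * g) * (a * a) := by
    change g + g * g = _ at hg
    rw [hg, div_mul_cancel₀ _ (mul_ne_zero ha ha)]
  rw [hb]
  linear_combination (a * a * g + a * a * g * g) * CharTwo.two_eq_zero (R := F)

theorem gauss_qfMinus {a b : F} (hab : ∀ x y : F, x ^ 2 + a * x * y + b * y ^ 2 = 0 → x = 0 ∧ y = 0) (m : ℕ) :
    gauss (qfMinus m F a b) = -(Nat.card F : ℤ) ^ (m + 1) := by
  induction m with
  | zero =>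
    obtain ⟨ha, hc⟩ := chi_of_anisotropic hab
    let θ : ((Fin 0 ⊕ Fin 0) ⊕ Fin 2 → F) ≃ F × F :=
      minusZero.toEquiv.trans ((Equiv.refl F).prodCongr (Equiv.mulLeft₀ a ha))
    rw [show gauss (qfMinus 0 F a b) =
      gauss (fun x : F × F => x.1 * x.1 * 1 + x.2 * x.2 * (b / (a * a)) + x.1 * x.2) from
      (gauss_equiv θ fun v => by
        rw [← qfBin_minusZero]
        show (minusZero v).1 * (minusZero v).1 * 1 + a * (minusZero v).2 * (a * (minusZero v).2) * (b / (a * a)) +
          (minusZero v).1 * (a * (minusZero v).2) = _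
        simp [qfBin]
        field_simp; ring).symm]
    rw [plane_tau_mul, hc]; ring
  | succ m ih =>
    haveI : Finite ((Fin m ⊕ Fin m) ⊕ Fin 2 → F) := Pi.finite
    rw [show gauss (qfMinus (m + 1) F a b) = gauss fun x : (F × F) × ((Fin m ⊕ Fin m) ⊕ Fin 2 → F) =>
      x.1.1 * x.1.1 * 0 + x.1.2 * x.1.2 * 0 + x.1.1 * x.1.2 + qfMinus m F a b x.2 from
      (gauss_equiv (minusSucc m).toEquiv fun v => by
        rw [← hypExt_minusSucc]
        simp [hypExt]).symm]
    rw [gauss_prod (fun x : F × F => x.1 * x.1 * 0 + x.2 * x.2 * 0 + x.1 * x.2) (qfMinus m F a b), plane_zero _ rfl,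
      ih, pow_succ' _ (m + 1)]
    ring

/-- Equal rank and sign give isometric forms. -/
theorem exists_isometry_of_gauss {V : Type v} [AddCommGroup V] [Module F V] [FiniteDimensional F V]
    {W : Type w} [AddCommGroup W] [Module F W] [FiniteDimensional F W] (Q : QuadraticForm F V)
    (Q' : QuadraticForm F W) (hQ : (QuadraticMap.polarBilin Q).Nondegenerate)
    (hQ' : (QuadraticMap.polarBilin Q').Nondegenerate) {n : ℕ} (hV : Module.finrank F V = 2 * n)
    (hW : Module.finrank F W = 2 * n) (hs : 0 < gauss Q * gauss Q') :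
    ∃ e : V ≃ₗ[F] W, ∀ v, Q' (e v) = Q v := by
  have hab : ∀ x y : F, x ^ 2 + 1 * x * y + tau F * y ^ 2 = 0 → x = 0 ∧ y = 0 := fun x y h => by
    by_cases hy : y = 0
    · subst hy; exact ⟨by simpa using h, rfl⟩
    refine absurd ?_ (tau_spec F (x / y))
    field_simp
    linear_combination h - (tau F * y ^ 2) * CharTwo.two_eq_zero (R := F)
  have hq : (0 : ℤ) < Nat.card F := by exact_mod_cast Nat.card_pos
  rcases classify_even Q hQ hV hab with ⟨e, he⟩ | ⟨h1, e, he⟩ <;>
    rcases classify_even Q' hQ' hW hab with ⟨e', he'⟩ | ⟨h1', e', he'⟩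
  · exact ⟨e.symm.trans e', fun v => by rw [LinearEquiv.trans_apply, he', ← he, e.apply_symm_apply]⟩
  · rw [gauss_equiv e.toEquiv he, gauss_equiv e'.toEquiv he', gauss_qfPlus, gauss_qfMinus hab,
      Nat.sub_add_cancel h1', mul_neg] at hs
    exact absurd hs (not_lt.2 (neg_nonpos.2 (by positivity)))
  · rw [gauss_equiv e.toEquiv he, gauss_equiv e'.toEquiv he', gauss_qfPlus, gauss_qfMinus hab,
      Nat.sub_add_cancel h1, neg_mul] at hs
    exact absurd hs (not_lt.2 (neg_nonpos.2 (by positivity)))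
  · exact ⟨e.symm.trans e', fun v => by rw [LinearEquiv.trans_apply, he', ← he, e.apply_symm_apply]⟩

end Cfsg.Agent.CharTwoClass
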