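import Cfsg.Agent.Lib.CharTwoClass.Steps
import Mathlib.LinearAlgebra.Dimension.Finite
import Mathlib.RingTheory.Polynomial.Basic
import Mathlib.LinearAlgebra.FiniteDimensional.Lemmas

/-!
# Splitting off the module generated by a tuple

* `Iso`, `sub`, `perp` : isometries and orthogonal summands;
* `lay`, `mult`, `Eps` : the invariants, `lay_split`, `eps_split`;
* `glue` : equal tuples and isometric complements give isometric systems.
-/

set_option autoImplicit false
set_option linter.unusedVariables false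
set_option linter.unusedSectionVars false

open Polynomial

namespace Cfsg.Agent.CharTwoClass

universe u v w

variable {F : Type u} [Field F] [CharP F 2] {V : Type v} [AddCommGroup V] [Module F V]
  {V' : Type w} [AddCommGroup V'] [Module F V']

/-- An isometry of systems. -/
def Iso (S : Sys F V) (S' : Sys F V') : Prop :=
  ∃ e : V ≃ₗ[F] V', (∀ v, e (S.N v) = S'.N (e v)) ∧ (∀ v w, S'.B (e v) (e w) = S.B v w) ∧
    ∀ v, S'.q (e v) = S.q v

theorem Iso.symm {S : Sys F V} {S' : Sys F V'} (h : Iso S S') : Iso S' S := by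
  obtain ⟨e, h1, h2, h3⟩ := h
  refine ⟨e.symm, fun v => ?_, fun v w => ?_, fun v => ?_⟩
  · apply e.injective; rw [h1]; simp
  · rw [← h2]; simp
  · rw [← h3]; simp

theorem Iso.trans {V'' : Type*} [AddCommGroup V''] [Module F V''] {S : Sys F V} {S' : Sys F V'} {S'' : Sys F V''}
    (h : Iso S S') (h' : Iso S' S'') : Iso S S'' := by
  obtain ⟨e, h1, h2, h3⟩ := h
  obtain ⟨e', h1', h2', h3'⟩ := h'
  exact ⟨e.trans e', fun v => by simp [h1, h1'], fun v w => by simp [h2, h2'], fun v => by simp [h3, h3']⟩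

namespace Sys

variable (S : Sys F V)

/-- An invariant non-degenerate subspace. -/
noncomputable def sub (U : Submodule F V) (hU : ∀ v ∈ U, S.N v ∈ U)
    (hnd : ∀ v ∈ U, (∀ w ∈ U, S.B v w = 0) → v = 0) : Sys F U where
  B := S.B.restrict U
  N := S.N.restrict hU
  c := S.c
  q v := S.q v
  alt v := S.alt v
  nd v h := Subtype.ext (hnd v v.2 fun w hw => h ⟨w, hw⟩)
  inv v w := S.inv v w
  nil := Module.End.isNilpotent.restrict hU S.nil
  cq := S.cq.imp id fun h => ⟨h.1, fun v => h.2 _⟩
  q_add v w := S.q_add v w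
  q_smul a v := S.q_smul a v
  q_inv v := S.q_inv v

theorem sub_Npow (U : Submodule F V) (hU : ∀ v ∈ U, S.N v ∈ U)
    (hnd : ∀ v ∈ U, (∀ w ∈ U, S.B v w = 0) → v = 0) (k : ℕ) (v : U) :
    (((S.sub U hU hnd).N ^ k) v : V) = (S.N ^ k) v := by
  induction k with
  | zero => rfl
  | succ k ih =>
    rw [pow_succ', pow_succ', Module.End.mul_apply, Module.End.mul_apply, ← ih]
    rfl

theorem sub_R (U : Submodule F V) (hU : ∀ v ∈ U, S.N v ∈ U)
    (hnd : ∀ v ∈ U, (∀ w ∈ U, S.B v w = 0) → v = 0) (v : U) :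
    ((S.sub U hU hnd).R v : V) = S.R v := by
  set S' := S.sub U hU hnd
  have h : (((1 + S'.N) (S'.R v) : U) : V) = (v : V) :=
    congrArg Subtype.val (LinearMap.congr_fun S'.one_add_mul_R v)
  have h' : (1 + S.N) ((S'.R v : U) : V) = (1 + S.N) (S.R v) :=
    h.trans (LinearMap.congr_fun S.one_add_mul_R (v : V)).symm
  exact ((Module.End.isUnit_iff _).1 S.isUnit_one_add).1 h'

theorem sub_T (U : Submodule F V) (hU : ∀ v ∈ U, S.N v ∈ U)
    (hnd : ∀ v ∈ U, (∀ w ∈ U, S.B v w = 0) → v = 0) (r : ℕ) (v : U) :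
    (((S.sub U hU hnd).T ^ r) v : V) = (S.T ^ r) v := by
  induction r with
  | zero => rfl
  | succ r ih =>
    rw [pow_succ', pow_succ', Module.End.mul_apply, Module.End.mul_apply, ← ih, T, T]
    generalize (((S.sub U hU hnd).N * (S.sub U hU hnd).N * (S.sub U hU hnd).R) ^ r) v = z
    show S.N (S.N (((S.sub U hU hnd).R z : U) : V)) = S.N (S.N (S.R z))
    rw [S.sub_R]

theorem sub_dl (U : Submodule F V) (hU : ∀ v ∈ U, S.N v ∈ U)
    (hnd : ∀ v ∈ U, (∀ w ∈ U, S.B v w = 0) → v = 0) (r : ℕ) (v : U) :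
    (S.sub U hU hnd).dl r v = S.dl r v := by
  cases r with
  | zero => rfl
  | succ r =>
    show S.B ((((S.sub U hU hnd).T ^ r) ((S.sub U hU hnd).N v) : U) : V) v = _
    rw [S.sub_T]
    rfl

/-- `R` is a polynomial in `N`. -/
theorem R_eq_sum {e : ℕ} (he : S.N ^ e = 0) : S.R = ∑ i ∈ Finset.range e, S.N ^ i := by
  have hneg : -S.N = S.N := neg_eq_of_add_eq_zero_left (end_add_self S.N)
  have hg := mul_neg_geom_sum S.N e
  rw [he, sub_zero, sub_eq_add_neg, hneg] at hg
  calc S.R = S.R * ((1 + S.N) * ∑ i ∈ Finset.range e, S.N ^ i) := by rw [hg, mul_one]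
    _ = _ := by rw [← mul_assoc, Sys.R, Ring.inverse_mul_cancel _ S.isUnit_one_add, one_mul]

variable {m : ℕ} (xs : Fin m → V)

/-- The module generated by a tuple. -/
noncomputable def span : (Fin m → F[X]) →ₗ[F] V :=
  ∑ a : Fin m, ((LinearMap.applyₗ (xs a)).comp (aeval S.N).toLinearMap).comp (LinearMap.proj a)

theorem span_apply (p : Fin m → F[X]) : S.span xs p = ∑ a, aeval S.N (p a) (xs a) := by
  simp [span, LinearMap.sum_apply]

theorem span_mul (P : F[X]) (p : Fin m → F[X]) :
    S.span xs (fun a => P * p a) = aeval S.N P (S.span xs p) := by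
  simp [span_apply, map_mul, map_sum, Module.End.mul_apply]

theorem span_single (a : Fin m) (i : ℕ) : S.span xs (Pi.single a (X ^ i)) = (S.N ^ i) (xs a) := by
  rw [span_apply, Finset.sum_eq_single a]
  · simp
  · intro b _ hb; simp [Pi.single_eq_of_ne hb]
  · simp

/-- The vectors orthogonal to the module. -/
def perp : Submodule F V where
  carrier := {v | ∀ p, S.B (S.span xs p) v = 0}
  add_mem' ha hb p := by simp [map_add, ha p, hb p]
  zero_mem' p := by simp
  smul_mem' c v hv p := by simp [hv p]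

/-- The tops of the tuple pair non-degenerately. -/
def TopUnit (e : ℕ) : Prop :=
  0 < e ∧ S.N ^ e = 0 ∧ ∀ c : Fin m → F, (∀ b, ∑ a, c a * S.B ((S.N ^ (e - 1)) (xs a)) (xs b) = 0) → c = 0

variable {xs} {e : ℕ}

theorem perp_N {v : V} (he : S.N ^ e = 0) (hv : v ∈ S.perp xs) : S.N v ∈ S.perp xs := fun p => by
  have h : (S.N + S.T) (S.span xs p) = S.span xs fun a => (X * ∑ i ∈ Finset.range e, X ^ i) * p a := by
    rw [span_mul, map_mul, aeval_X, map_sum, S.N_add_T, S.R_eq_sum he]
    simp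
  rw [← S.adj', h]
  exact hv _

theorem span_eq_sum_coeff (he : S.N ^ e = 0) (p : Fin m → F[X]) :
    S.span xs p = ∑ a, ∑ i ∈ Finset.range e, (p a).coeff i • (S.N ^ i) (xs a) := by
  rw [span_apply]
  refine Finset.sum_congr rfl fun a _ => ?_
  rw [aeval_eq_sum_range' (n := max e ((p a).natDegree + 1)) (by omega), LinearMap.sum_apply]
  rw [Finset.sum_subset (s₁ := Finset.range e) (f := fun i => (p a).coeff i • (S.N ^ i) (xs a))
    (Finset.range_subset_range.2 (le_max_left e ((p a).natDegree + 1))) fun i _ hi => ?_]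
  · simp [LinearMap.smul_apply]
  · rw [show (S.N ^ i) (xs a) = 0 from S.pow_zero_of_le (by simpa using hi) (by rw [he]; rfl), smul_zero]

/-- A combination orthogonal to the module has all coefficients below `e` zero. -/
theorem coeff_eq_zero (hx : S.TopUnit xs e) {p : Fin m → F[X]} (h : S.span xs p ∈ S.perp xs) :
    ∀ a i, i < e → (p a).coeff i = 0 := by
  obtain ⟨he0, he, hβ⟩ := hx
  intro a i
  induction i using Nat.strong_induction_on generalizing a with
  | _ i ih =>
    intro hi
    refine congrFun (hβ (fun a => (p a).coeff i) fun b => ?_) a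
    have h1 : (S.N ^ (e - 1 - i)) (S.span xs p) ∈ S.perp xs := by
      have key : ∀ k, (S.N ^ k) (S.span xs p) ∈ S.perp xs := fun k => by
        induction k with
        | zero => simpa using h
        | succ k ihk => rw [pow_succ', Module.End.mul_apply]; exact S.perp_N he ihk
      exact key _
    have h2 : (S.N ^ (e - 1 - i)) (S.span xs p) = ∑ a, (p a).coeff i • (S.N ^ (e - 1)) (xs a) := by
      rw [S.span_eq_sum_coeff he, map_sum]
      refine Finset.sum_congr rfl fun a _ => ?_
      rw [map_sum, Finset.sum_eq_single i]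
      · rw [map_smul, ← Module.End.mul_apply, ← pow_add, show e - 1 - i + i = e - 1 by omega]
      · intro j hj hji
        rw [map_smul]
        rcases Nat.lt_or_ge j i with hlt | hge
        · rw [ih j hlt a (lt_trans hlt hi), zero_smul]
        · rw [← Module.End.mul_apply, ← pow_add, S.pow_zero_of_le (e := e) (by omega) (by rw [he]; rfl), smul_zero]
      · intro hni; exact absurd (Finset.mem_range.2 hi) hni
    have h3 := h1 (Pi.single b (X ^ 0))
    rw [span_single, pow_zero, Module.End.one_apply, h2, S.comm, map_sum, LinearMap.sum_apply] at h3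
    simpa [LinearMap.smul_apply, map_smul] using h3

theorem span_eq_zero_iff (hx : S.TopUnit xs e) {p : Fin m → F[X]} :
    S.span xs p = 0 ↔ ∀ a i, i < e → (p a).coeff i = 0 := by
  refine ⟨fun h => S.coeff_eq_zero hx (by rw [h]; exact zero_mem _), fun h => ?_⟩
  rw [S.span_eq_sum_coeff hx.2.1]
  exact Finset.sum_eq_zero fun a _ => Finset.sum_eq_zero fun i hi => by
    rw [h a i (Finset.mem_range.1 hi), zero_smul]

theorem span_mem_perp (hx : S.TopUnit xs e) {p : Fin m → F[X]} (h : S.span xs p ∈ S.perp xs) :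
    S.span xs p = 0 := (S.span_eq_zero_iff hx).2 (S.coeff_eq_zero hx h)

theorem Tp_Npow_two (r i : ℕ) (v : V) :
    (S.T ^ r) ((S.N ^ (i + 2)) v) = (S.T ^ (r + 1)) ((S.N ^ i) v) + (S.T ^ (r + 1)) ((S.N ^ (i + 1)) v) := by
  rw [pow_succ' _ (i + 1), pow_succ' _ i, Module.End.mul_apply, Module.End.mul_apply, S.N_N, map_add,
    pow_succ, Module.End.mul_apply, Module.End.mul_apply]

variable [FiniteDimensional F V]

theorem exists_decomp (hx : S.TopUnit xs e) (v : V) :
    ∃ p z, z ∈ S.perp xs ∧ v = S.span xs p + z := by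
  set W := LinearMap.range (S.span xs)
  have hrefl : S.B.IsRefl := fun a b h => by rw [S.comm]; exact h
  have hperp : S.B.orthogonal W = S.perp xs := by
    ext z
    simp only [LinearMap.BilinForm.mem_orthogonal_iff, W, LinearMap.mem_range, forall_exists_index,
      forall_apply_eq_imp_iff, LinearMap.IsOrtho]
    rfl
  have hnd : (S.B.restrict W).Nondegenerate := by
    constructor <;> rintro ⟨_, p, rfl⟩ h <;> refine Subtype.ext (S.span_mem_perp hx fun q => ?_)
    · rw [S.comm]; exact h ⟨_, q, rfl⟩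
    · exact h ⟨_, q, rfl⟩
  have hc := LinearMap.BilinForm.isCompl_orthogonal_of_restrict_nondegenerate hrefl hnd
  rw [hperp] at hc
  obtain ⟨_, ⟨p, rfl⟩, z, hz, rfl⟩ := Submodule.mem_sup.1 (hc.sup_eq_top ▸ Submodule.mem_top : v ∈ W ⊔ S.perp xs)
  exact ⟨p, z, hz, rfl⟩

theorem perp_nd (hx : S.TopUnit xs e) :
    ∀ v ∈ S.perp xs, (∀ w ∈ S.perp xs, S.B v w = 0) → v = 0 := by
  intro v hv h
  refine S.nd v fun w => ?_
  obtain ⟨p, z, hz, rfl⟩ := S.exists_decomp hx w
  rw [map_add, h z hz, add_zero, S.comm]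
  exact hv p

/-- The complement. -/
noncomputable def compl (hx : S.TopUnit xs e) : Sys F (S.perp xs) :=
  S.sub (S.perp xs) (fun v hv => S.perp_N hx.2.1 hv) (S.perp_nd hx)

theorem finrank_perp_lt (hx : S.TopUnit xs e) (hm : 0 < m) :
    Module.finrank F (S.perp xs) < Module.finrank F V := by
  refine Submodule.finrank_lt fun htop => ?_
  have h := S.coeff_eq_zero hx (p := Pi.single ⟨0, hm⟩ (X ^ 0)) (by rw [htop]; trivial) ⟨0, hm⟩ 0 hx.1
  simp at h

/-! ### Invariants -/

/-- `ker N ⊓ range Nʲ`. -/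
noncomputable def layer (j : ℕ) : Submodule F V := LinearMap.ker S.N ⊓ LinearMap.range (S.N ^ j)

/-- Its dimension. -/
noncomputable def lay (j : ℕ) : ℕ := Module.finrank F (S.layer j)

/-- The number of chains of length `j`. -/
noncomputable def mult (j : ℕ) : ℕ := if j = 0 then 0 else S.lay (j - 1) - S.lay j

/-- Some vector of height at most `2 j + 2` has non-zero value at `j + 1`. -/
def Eps (j : ℕ) : Prop := ∃ y, (S.N ^ (2 * j + 2)) y = 0 ∧ S.dl (j + 1) y ≠ 0

theorem lay_anti {i j : ℕ} (h : i ≤ j) : S.lay j ≤ S.lay i := by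
  refine Submodule.finrank_mono (inf_le_inf_left _ ?_)
  obtain ⟨k, rfl⟩ := Nat.exists_eq_add_of_le h
  rintro _ ⟨v, rfl⟩
  exact ⟨(S.N ^ k) v, by rw [← Module.End.mul_apply, ← pow_add]⟩

theorem split_zero (hx : S.TopUnit xs e) {p : Fin m → F[X]} {z : V} (hz : z ∈ S.perp xs)
    (h : S.span xs p + z = 0) : S.span xs p = 0 ∧ z = 0 := by
  have hp : S.span xs p = 0 := S.span_mem_perp hx (by
    rw [eq_neg_of_add_eq_zero_left h]; exact neg_mem hz)
  exact ⟨hp, by simpa [hp] using h⟩

theorem npow_span (k : ℕ) (p : Fin m → F[X]) :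
    (S.N ^ k) (S.span xs p) = S.span xs fun a => X ^ k * p a := by
  rw [span_mul, map_pow, aeval_X]

theorem npow_split (hx : S.TopUnit xs e) {p : Fin m → F[X]} {z : V} (hz : z ∈ S.perp xs) {k : ℕ}
    (h : (S.N ^ k) (S.span xs p + z) = 0) : (S.N ^ k) (S.span xs p) = 0 ∧ (S.N ^ k) z = 0 := by
  rw [map_add] at h
  rw [S.npow_span] at h ⊢
  refine S.split_zero hx ?_ h
  clear h
  induction k with
  | zero => simpa using hz
  | succ k ih => rw [pow_succ', Module.End.mul_apply]; exact S.perp_N hx.2.1 ih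

theorem mem_layer {j : ℕ} {v : V} : v ∈ S.layer j ↔ S.N v = 0 ∧ ∃ w, (S.N ^ j) w = v := Iff.rfl

theorem lay_split (hx : S.TopUnit xs e) (j : ℕ) :
    S.lay j = (if j < e then m else 0) + (S.compl hx).lay j := by
  set U := (S.compl hx).layer j
  let top : (Fin m → F) →ₗ[F] V :=
    Fintype.linearCombination F fun a => (S.N ^ (e - 1)) (xs a)
  have htop : ∀ c, top c = S.span xs fun a => C (c a) * X ^ (e - 1) := fun c => by
    rw [span_apply, Fintype.linearCombination_apply]
    simp
  have hinj : LinearMap.ker top = ⊥ := by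
    refine LinearMap.ker_eq_bot'.2 fun c hc => funext fun a => ?_
    rw [htop, S.span_eq_zero_iff hx] at hc
    simpa using hc a (e - 1) (Nat.sub_lt hx.1 one_pos)
  set A : Submodule F V := if j < e then LinearMap.range top else ⊥ with hA
  have hAW : A ≤ LinearMap.range (S.span xs) := by
    rw [hA]; split_ifs
    · rintro _ ⟨c, rfl⟩; exact ⟨_, (htop c).symm⟩
    · exact bot_le
  have hdisj : A ⊓ U.map (S.perp xs).subtype = ⊥ := by
    rw [eq_bot_iff]
    rintro v ⟨hv, ⟨w, -, rfl⟩⟩
    obtain ⟨p, hp⟩ := hAW hv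
    rw [Submodule.mem_bot, ← hp]
    exact S.span_mem_perp hx (hp ▸ w.2)
  have heq : S.layer j = A ⊔ U.map (S.perp xs).subtype := by
    refine le_antisymm (fun v hv => ?_) (sup_le ?_ ?_)
    · obtain ⟨hv, w, rfl⟩ := S.mem_layer.1 hv
      obtain ⟨p, z, hz, rfl⟩ := S.exists_decomp hx w
      rw [← Module.End.mul_apply, ← pow_succ'] at hv
      obtain ⟨h1, h2⟩ := S.npow_split hx hz hv
      rw [map_add]
      refine Submodule.add_mem_sup ?_ ⟨((S.compl hx).N ^ j) ⟨z, hz⟩, ?_, S.sub_Npow _ _ _ j _⟩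
      · rw [S.npow_span, S.span_eq_zero_iff hx] at h1
        rw [hA, S.npow_span]
        split_ifs with hj
        · refine ⟨fun a => (p a).coeff (e - 1 - j), ?_⟩
          rw [htop, ← sub_eq_zero, ← map_sub, S.span_eq_zero_iff hx]
          intro a i hi
          simp only [Pi.sub_apply, coeff_sub, coeff_C_mul_X_pow, coeff_X_pow_mul']
          rcases eq_or_ne i (e - 1) with rfl | hne
          · rw [if_pos rfl, if_pos (by omega), sub_self]
          · rw [if_neg hne, zero_sub, neg_eq_zero]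
            split_ifs with hji
            · have := h1 a (i + 1) (by omega)
              rw [coeff_X_pow_mul', if_pos (by omega), show i + 1 - (j + 1) = i - j by omega] at this
              exact this
            · rfl
        · rw [Submodule.mem_bot, S.span_eq_zero_iff hx]
          intro a i hi
          rw [coeff_X_pow_mul', if_neg (by omega)]
      · refine (S.compl hx).mem_layer.2 ⟨?_, _, rfl⟩
        rw [← Module.End.mul_apply, ← pow_succ']
        exact Subtype.ext ((S.sub_Npow _ _ _ (j + 1) _).trans h2)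
    · rw [hA]
      split_ifs with hj
      · rintro _ ⟨c, rfl⟩
        refine S.mem_layer.2 ⟨?_, S.span xs fun a => C (c a) * X ^ (e - 1 - j), ?_⟩
        · rw [← pow_one S.N, htop, S.npow_span, S.span_eq_zero_iff hx]
          intro a i hi
          rw [coeff_X_pow_mul']
          split_ifs with h
          · rw [coeff_C_mul_X_pow, if_neg (by omega)]
          · rfl
        · rw [S.npow_span, htop]
          congr 1
          funext a
          rw [← mul_assoc, mul_comm (X ^ j) (C (c a)), mul_assoc, ← pow_add, show j + (e - 1 - j) = e - 1 by omega]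
      · exact bot_le
    · rintro _ ⟨w, hw, rfl⟩
      obtain ⟨hw, y, rfl⟩ := (S.compl hx).mem_layer.1 hw
      exact S.mem_layer.2 ⟨congrArg Subtype.val hw, (y : V), (S.sub_Npow _ _ _ j y).symm⟩
  have hs := Submodule.finrank_sup_add_finrank_inf_eq A (U.map (S.perp xs).subtype)
  rw [hdisj, finrank_bot, add_zero, ← heq, Submodule.finrank_map_subtype_eq] at hs
  rw [lay, hs, lay]
  congr 1
  by_cases hj : j < e
  · rw [show A = LinearMap.range top from if_pos hj, if_pos hj, LinearMap.finrank_range_of_inj (LinearMap.ker_eq_bot.1 hinj), Module.finrank_fin_fun]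
  · rw [show A = ⊥ from if_neg hj, if_neg hj, finrank_bot]

theorem mult_split (hx : S.TopUnit xs e) (j : ℕ) :
    S.mult j = (if j = e then m else 0) + (S.compl hx).mult j := by
  rcases Nat.eq_zero_or_pos j with rfl | hj
  · simp [mult, hx.1.ne]
  · simp only [mult, if_neg hj.ne', S.lay_split hx]
    have := (S.compl hx).lay_anti (Nat.sub_le j 1)
    split_ifs <;> omega

theorem dl_split (r : ℕ) (hx : S.TopUnit xs e) (p : Fin m → F[X]) {z : V} (hz : z ∈ S.perp xs) :
    S.dl r (S.span xs p + z) = S.dl r (S.span xs p) + S.dl r z := by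
  rw [S.dl_add, show S.p0 r (S.span xs p) z = 0 from ?_, mul_zero, add_zero]
  have hmem : (S.T ^ r) z ∈ S.perp xs := by
    have h := S.sub_T (S.perp xs) (fun v hv => S.perp_N hx.2.1 hv) (S.perp_nd hx) r ⟨z, hz⟩
    rw [← h]; exact Subtype.coe_prop _
  rw [p0, S.Tp_adj]
  exact hmem p

theorem dl_Npow : ∀ (s r : ℕ) (w : V), S.dl (r + 1) ((S.N ^ s) w) = S.dl (r + 1 + s) w := by
  intro s
  induction s with
  | zero => simp
  | succ s ih =>
    intro r w
    rw [pow_succ', Module.End.mul_apply, S.dl_N, kap_succ, one_mul, ih (r + 1)]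
    congr 1
    omega

theorem eps_split (hx : S.TopUnit xs e) {j : ℕ} (hj : 2 * j + 2 < e) :
    S.Eps j ↔ (S.compl hx).Eps j := by
  constructor
  · rintro ⟨y, hy, hd⟩
    obtain ⟨p, z, hz, rfl⟩ := S.exists_decomp hx y
    obtain ⟨h1, h2⟩ := S.npow_split hx hz hy
    refine ⟨⟨z, hz⟩, Subtype.ext ((S.sub_Npow _ _ _ _ _).trans h2), ?_⟩
    rw [Sys.compl, S.sub_dl]
    rw [S.dl_split _ hx p hz] at hd
    have h0 : S.dl (j + 1) (S.span xs p) = 0 := by
      set s := e - (2 * j + 2)
      have hp : ∀ a, X ^ s ∣ p a := fun a => X_pow_dvd_iff.2 fun i hi => by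
        rw [S.npow_span, S.span_eq_zero_iff hx] at h1
        have := h1 a (i + (2 * j + 2)) (by omega)
        rwa [coeff_X_pow_mul', if_pos (by omega), Nat.add_sub_cancel] at this
      choose q hq using hp
      rw [show p = fun a => X ^ s * q a from funext hq, ← S.npow_span, S.dl_Npow]
      exact S.dl_eq_zero (e := e) (by rw [hx.2.1]; rfl) (by omega)
    rw [h0, zero_add] at hd
    exact hd
  · rintro ⟨⟨z, hz⟩, h1, h2⟩
    refine ⟨z, ?_, by rwa [Sys.compl, S.sub_dl] at h2⟩
    rw [← S.sub_Npow _ (fun v hv => S.perp_N hx.2.1 hv) (S.perp_nd hx) _ ⟨z, hz⟩]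
    exact congrArg Subtype.val h1

/-- Equal values on generators. -/
structure Same (S : Sys F V) (xs : Fin m → V) (S' : Sys F V') (xs' : Fin m → V') : Prop where
  c_eq : S'.c = S.c
  p0_eq : ∀ r a b, S'.p0 r (xs' a) (xs' b) = S.p0 r (xs a) (xs b)
  p1_eq : ∀ r a b, S'.p1 r (xs' a) (xs' b) = S.p1 r (xs a) (xs b)
  q_eq : ∀ a, S'.q (xs' a) = S.q (xs a)

variable {S} {S' : Sys F V'} {xs' : Fin m → V'}

theorem Same.gram (h : Same S xs S' xs') : ∀ (j i r : ℕ) (a b : Fin m),
    S'.B ((S'.T ^ r) ((S'.N ^ i) (xs' a))) ((S'.N ^ j) (xs' b)) =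
      S.B ((S.T ^ r) ((S.N ^ i) (xs a))) ((S.N ^ j) (xs b)) := by
  intro j
  induction j with
  | zero =>
    intro i
    induction i using Nat.twoStepInduction with
    | zero => intro r a b; exact h.p0_eq r a b
    | one => intro r a b; simpa [p1] using h.p1_eq r a b
    | more i ih1 ih2 =>
      intro r a b
      rw [S'.Tp_Npow_two, S.Tp_Npow_two, map_add, map_add, LinearMap.add_apply, LinearMap.add_apply, ih1, ih2]
  | succ j ih =>
    intro i r a b
    rw [pow_succ' _ j, pow_succ' _ j, Module.End.mul_apply, Module.End.mul_apply, ← S'.adj', ← S.adj']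
    simp only [LinearMap.add_apply, map_add, S.N_Tp, S'.N_Tp]
    have e1 : ∀ v, S'.N ((S'.N ^ i) v) = (S'.N ^ (i + 1)) v := fun v => by rw [pow_succ', Module.End.mul_apply]
    have e2 : ∀ v, S.N ((S.N ^ i) v) = (S.N ^ (i + 1)) v := fun v => by rw [pow_succ', Module.End.mul_apply]
    have e3 : ∀ v, S'.T ((S'.T ^ r) v) = (S'.T ^ (r + 1)) v := fun v => by rw [pow_succ', Module.End.mul_apply]
    have e4 : ∀ v, S.T ((S.T ^ r) v) = (S.T ^ (r + 1)) v := fun v => by rw [pow_succ', Module.End.mul_apply]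
    rw [e1, e2, e3, e4, ih (i + 1) r a b, ih i (r + 1) a b]

theorem Same.B_span (h : Same S xs S' xs') (p p' : Fin m → F[X]) :
    S'.B (S'.span xs' p) (S'.span xs' p') = S.B (S.span xs p) (S.span xs p') := by
  simp only [span_apply, map_sum, LinearMap.sum_apply, aeval_eq_sum_range, LinearMap.smul_apply, map_smul]
  refine Finset.sum_congr rfl fun a _ => Finset.sum_congr rfl fun i _ => ?_
  refine congrArg _ (Finset.sum_congr rfl fun b _ => Finset.sum_congr rfl fun j _ => ?_)
  exact congrArg _ (h.gram i j 0 b a)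

theorem Same.q_span (h : Same S xs S' xs') (p : Fin m → F[X]) :
    S'.q (S'.span xs' p) = S.q (S.span xs p) := by
  have hpow : ∀ i a, S'.q ((S'.N ^ i) (xs' a)) = S.q ((S.N ^ i) (xs a)) := by
    intro i a
    cases i with
    | zero => exact h.q_eq a
    | succ i =>
      rw [pow_succ', pow_succ', Module.End.mul_apply, Module.End.mul_apply, S'.q_N, S.q_N, h.c_eq]
      refine congrArg _ ?_
      show S'.B (S'.N _) _ = S.B (S.N _) _
      rw [← Module.End.mul_apply, ← Module.End.mul_apply, ← pow_succ', ← pow_succ']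
      exact h.gram i (i + 1) 0 a a
  have key : ∀ (a : Fin m) (P : F[X]), S'.q (S'.span xs' (Pi.single a P)) = S.q (S.span xs (Pi.single a P)) := by
    intro a P
    induction P using Polynomial.induction_on' with
    | add P Q hP hQ => rw [Pi.single_add, map_add, map_add, S'.q_add, S.q_add, hP, hQ, h.B_span, h.c_eq]
    | monomial i c =>
      rw [← smul_X_eq_monomial, Pi.single_smul, map_smul, map_smul, S'.q_smul, S.q_smul, span_single,
        span_single, hpow]
  have hp : p = ∑ a, Pi.single a (p a) := (Finset.univ_sum_single p).symm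
  rw [hp]
  refine Finset.induction_on (Finset.univ : Finset (Fin m)) ?_ ?_
  · simp [q_zero]
  · intro a s ha hs
    rw [Finset.sum_insert ha, map_add, map_add, S'.q_add, S.q_add, key, hs, h.B_span, h.c_eq]

theorem Same.topUnit (h : Same S xs S' xs') (hx : S.TopUnit xs e) (he : S'.N ^ e = 0) : S'.TopUnit xs' e :=
  ⟨hx.1, he, fun c hc => hx.2.2 c fun b => by
    refine Eq.trans ?_ (hc b)
    refine Finset.sum_congr rfl fun a _ => congrArg _ ?_
    exact (h.gram 0 (e - 1) 0 a b).symm⟩

/-- Equal tuples and isometric complements. -/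
theorem glue [FiniteDimensional F V'] (h : Same S xs S' xs') (hx : S.TopUnit xs e) (hx' : S'.TopUnit xs' e)
    (hi : Iso (S.compl hx) (S'.compl hx')) : Iso S S' := by
  obtain ⟨θ, hN, hB, hq⟩ := hi
  let Ψ : (Fin m → F[X]) × S.perp xs →ₗ[F] V := (S.span xs).coprod (S.perp xs).subtype
  let Ψ' : (Fin m → F[X]) × S.perp xs →ₗ[F] V' :=
    (S'.span xs').coprod ((S'.perp xs').subtype.comp θ.toLinearMap)
  have hker : LinearMap.ker Ψ = LinearMap.ker Ψ' := by
    ext ⟨p, z⟩
    simp only [LinearMap.mem_ker, Ψ, Ψ', LinearMap.coprod_apply, LinearMap.comp_apply, Submodule.coe_subtype,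
      LinearEquiv.coe_coe]
    constructor <;> intro h0
    · obtain ⟨h1, h2⟩ := S.split_zero hx z.2 h0
      have h3 : S'.span xs' p = 0 := (S'.span_eq_zero_iff hx').2 ((S.span_eq_zero_iff hx).1 h1)
      rw [h3, Subtype.ext (show (z : V) = (0 : S.perp xs) from h2), map_zero]
      simp
    · obtain ⟨h1, h2⟩ := S'.split_zero hx' (θ z).2 h0
      have h3 : S.span xs p = 0 := (S.span_eq_zero_iff hx).2 ((S'.span_eq_zero_iff hx').1 h1)
      rw [h3, θ.map_eq_zero_iff.1 (Subtype.ext h2)]
      simp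
  have hs : Function.Surjective Ψ := fun v => by
    obtain ⟨p, z, hz, rfl⟩ := S.exists_decomp hx v
    exact ⟨(p, ⟨z, hz⟩), rfl⟩
  have hs' : Function.Surjective Ψ' := fun v => by
    obtain ⟨p, z, hz, rfl⟩ := S'.exists_decomp hx' v
    exact ⟨(p, θ.symm ⟨z, hz⟩), by simp [Ψ']⟩
  let E := (Ψ.quotKerEquivOfSurjective hs).symm.trans
    ((Submodule.quotEquivOfEq _ _ hker).trans (Ψ'.quotKerEquivOfSurjective hs'))
  have hE : ∀ x, E (Ψ x) = Ψ' x := fun x => by
    have : (Ψ.quotKerEquivOfSurjective hs).symm (Ψ x) = Submodule.Quotient.mk x := by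
      rw [LinearEquiv.symm_apply_eq]; rfl
    simp only [E, LinearEquiv.trans_apply, this]
    rfl
  refine ⟨E, fun v => ?_, fun v w => ?_, fun v => ?_⟩
  · obtain ⟨⟨p, z⟩, rfl⟩ := hs v
    have e1 : S.N (Ψ (p, z)) = Ψ (fun a => X * p a, (S.compl hx).N z) := by
      simp only [Ψ, LinearMap.coprod_apply, map_add, span_mul, aeval_X]
      rfl
    rw [e1, hE, hE]
    simp only [Ψ', LinearMap.coprod_apply, map_add, span_mul, aeval_X, LinearMap.comp_apply, LinearEquiv.coe_coe,
      hN]
    rfl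
  · obtain ⟨⟨p, z⟩, rfl⟩ := hs v
    obtain ⟨⟨p', z'⟩, rfl⟩ := hs w
    rw [hE, hE]
    simp only [Ψ, Ψ', LinearMap.coprod_apply, LinearMap.comp_apply, LinearEquiv.coe_coe, Submodule.coe_subtype,
      map_add, LinearMap.add_apply]
    rw [(θ z').2 p, S'.comm (θ z : V'), (θ z).2 p', z'.2 p, S.comm (z : V), z.2 p', h.B_span,
      show S'.B (θ z : V') (θ z' : V') = S.B (z : V) (z' : V) from hB z z']
  · obtain ⟨⟨p, z⟩, rfl⟩ := hs v
    rw [hE]
    simp only [Ψ, Ψ', LinearMap.coprod_apply, LinearMap.comp_apply, LinearEquiv.coe_coe, Submodule.coe_subtype]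
    rw [S'.q_add, S.q_add, (θ z).2 p, z.2 p, h.q_span, show S'.q (θ z : V') = S.q (z : V) from hq z]
    simp

end Sys

end Cfsg.Agent.CharTwoClass
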