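import Cfsg.Agent.Lib.CharTwoClass.Sys
import Mathlib.GroupTheory.Index
import Mathlib.FieldTheory.Perfect
import Mathlib.FieldTheory.Finite.Basic

/-!
# Normal vectors and pairs

* `exists_tau` : representatives of `F` modulo `γ + γ²`;
* `exists_cyc`, `exists_shift` : a vector with top value one;
* `exists_pair_even`, `exists_pair_odd` : pairs with unit top pairing.
-/

set_option autoImplicit false
set_option linter.unusedVariables false
set_option linter.unusedSectionVars false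
set_option linter.style.haveILetI false

namespace Cfsg.Agent.CharTwoClass

universe u v

section Field

variable (F : Type u) [Field F] [CharP F 2] [Finite F]

/-- `γ ↦ γ + γ²`. -/
def artin : F →+ F where
  toFun g := g + g * g
  map_zero' := by simp
  map_add' a b := by linear_combination (CharTwo.add_self_eq_zero (a * b))

theorem exists_sq (a : F) : ∃ b : F, b * b = a := by
  haveI := Fintype.ofFinite F
  haveI : Fact (Nat.Prime 2) := ⟨Nat.prime_two⟩
  obtain ⟨b, hb⟩ := surjective_frobenius F 2 a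
  exact ⟨b, by rw [← hb, frobenius_def, sq]⟩

theorem index_artin : (artin F).range.index = 2 := by
  have h1 := (artin F).range.card_mul_index
  have h2 : Nat.card (artin F).ker = 2 := by
    rw [show ((artin F).ker : AddSubgroup F) = (artin F).ker from rfl, Nat.card_eq_two_iff]
    refine ⟨⟨0, (artin F).map_zero⟩, ⟨1, show (1 : F) + 1 * 1 = 0 by rw [one_mul, CharTwo.add_self_eq_zero]⟩,
      fun h => zero_ne_one (congrArg Subtype.val h), Set.eq_univ_of_forall fun g => ?_⟩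
    have hg : g.1 * (1 + g.1) = 0 := by have h := g.2; change g.1 + g.1 * g.1 = 0 at h; linear_combination h
    rcases mul_eq_zero.1 hg with h | h
    · exact Or.inl (Subtype.ext h)
    · exact Or.inr (Subtype.ext (CharTwo.add_eq_zero.1 h).symm)
  have h3 := (artin F).ker.card_mul_index
  rw [AddSubgroup.index_ker, h2] at h3
  rw [← h3, mul_comm 2] at h1
  exact mul_left_cancel₀ Nat.card_pos.ne' h1

theorem exists_not_artin : ∃ t : F, ∀ g : F, g + g * g ≠ t := by
  by_contra! h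
  have : (artin F).range = ⊤ := AddSubgroup.ext fun t => ⟨fun _ => trivial, fun _ => h t⟩
  have h2 := index_artin F
  rw [this, AddSubgroup.index_top] at h2
  omega

/-- A fixed value outside the image of `γ + γ²`. -/
noncomputable def tau : F := (exists_not_artin F).choose

theorem tau_spec (g : F) : g + g * g ≠ tau F := (exists_not_artin F).choose_spec g

theorem tau_ne_zero : tau F ≠ 0 := fun h => tau_spec F 0 (by rw [h]; simp)

theorem exists_tau (a : F) : ∃ g : F, a + (g + g * g) = 0 ∨ a + (g + g * g) = tau F := by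
  by_cases ha : a ∈ (artin F).range
  · obtain ⟨g, hg⟩ := ha
    exact ⟨g, Or.inl (by rw [show g + g * g = a from hg, CharTwo.add_self_eq_zero])⟩
  · obtain ⟨g, hg⟩ : a + tau F ∈ (artin F).range :=
      (AddSubgroup.add_mem_iff_of_index_two (index_artin F)).2
        (iff_of_false ha fun ⟨g, hg⟩ => tau_spec F g hg)
    refine ⟨g, Or.inr ?_⟩
    rw [show g + g * g = a + tau F from hg, ← add_assoc, CharTwo.add_self_eq_zero, zero_add]

end Field

variable {F : Type u} [Field F] [CharP F 2] {V : Type v} [AddCommGroup V] [Module F V]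

namespace Sys

variable (S : Sys F V)

theorem T_pow_apply (r : ℕ) (v : V) : (S.T ^ r) v = (S.R ^ r) ((S.N ^ (2 * r)) v) := by
  rw [T, ((S.comm_R.mul_left S.comm_R)).mul_pow, ← sq, ← pow_mul, ← Module.End.mul_apply]
  exact LinearMap.congr_fun (S.comm_R.pow_pow _ _).eq v

theorem pow_zero_of_le {e m : ℕ} (h : e ≤ m) {v : V} (hv : (S.N ^ e) v = 0) : (S.N ^ m) v = 0 := by
  obtain ⟨k, rfl⟩ := Nat.exists_eq_add_of_le h
  rw [add_comm, pow_add, Module.End.mul_apply, hv, map_zero]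

theorem Tp_eq_zero {e : ℕ} {v : V} (hv : (S.N ^ e) v = 0) {r : ℕ} (h : e ≤ 2 * r) : (S.T ^ r) v = 0 := by
  rw [S.T_pow_apply, S.pow_zero_of_le h hv, map_zero]

theorem TpN_eq_zero {e : ℕ} {v : V} (hv : (S.N ^ e) v = 0) {r : ℕ} (h : e ≤ 2 * r + 1) :
    (S.T ^ r) (S.N v) = 0 := by
  rw [S.T_pow_apply, ← Module.End.mul_apply _ S.N, ← pow_succ, S.pow_zero_of_le h hv, map_zero]

theorem p0_eq_zero {e : ℕ} {x : V} (hx : (S.N ^ e) x = 0) (y : V) {r : ℕ} (h : e ≤ 2 * r) :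
    S.p0 r x y = 0 := by rw [p0, S.Tp_eq_zero hx h, map_zero, LinearMap.zero_apply]

theorem p1_eq_zero {e : ℕ} {x : V} (hx : (S.N ^ e) x = 0) (y : V) {r : ℕ} (h : e ≤ 2 * r + 1) :
    S.p1 r x y = 0 := by rw [p1, S.TpN_eq_zero hx h, map_zero, LinearMap.zero_apply]

theorem dl_eq_zero {e : ℕ} {x : V} (hx : (S.N ^ e) x = 0) {r : ℕ} (h : e + 1 ≤ 2 * r) :
    S.dl r x = 0 := by
  obtain ⟨r, rfl⟩ : ∃ k, r = k + 1 := ⟨r - 1, by omega⟩
  exact S.p1_eq_zero hx x (by omega)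

/-- The value below the top can be moved by `γ + γ²`. -/
theorem exists_shift {e h : ℕ} (he : e = 2 * (h + 1)) (hN : S.N ^ e = 0) {x : V} (hx : S.dl (h + 1) x = 1) (g : F) :
    ∃ w, S.dl (h + 1) (x + S.N w) = 1 ∧ S.dl h (x + S.N w) = S.dl h x + S.kap h * (g + g * g) := by
  have hz : ∀ v, (S.N ^ e) v = 0 := fun v => by rw [hN]; rfl
  refine ⟨g • x, ?_, ?_⟩ <;>
    rw [map_smul, show S.N x = (S.T ^ 0) (S.N x) by rw [pow_zero]; rfl, S.dl_add_TkN]
  · rw [S.dl_eq_zero (hz x) (r := h + 1 + 2 * 0 + 1) (by omega), p1_self, p0_self,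
      S.dl_eq_zero (hz x) (r := h + 1 + 0 + 1) (by omega), hx]
    ring
  · rw [p1_self, p0_self, show h + 2 * 0 + 1 = h + 1 by omega, show h + 0 + 1 = h + 1 by omega, hx]
    ring

/-- The values further below can be cleared. -/
theorem exists_cyc {e h : ℕ} (he : e = 2 * (h + 1)) (hN : S.N ^ e = 0) {x : V} (hx : S.dl (h + 1) x = 1) :
    ∃ w, ∀ r, S.dl r (x + S.N w) = if r = h + 1 then 1 else if r = h then S.dl h x else 0 := by
  have hz : ∀ v, (S.N ^ e) v = 0 := fun v => by rw [hN]; rfl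
  suffices ∀ k, ∃ w, (∀ r, h ≤ r → S.dl r (x + S.N w) = S.dl r x) ∧
      ∀ r, r < h → h ≤ r + k → S.dl r (x + S.N w) = 0 by
    obtain ⟨w, h1, h2⟩ := this h
    refine ⟨w, fun r => ?_⟩
    split_ifs with hr hr'
    · rw [h1 r (by omega), hr, hx]
    · rw [h1 r (by omega), hr']
    · by_cases hlt : r < h
      · exact h2 r hlt (by omega)
      · rw [h1 r (by omega), S.dl_eq_zero (hz x) (by omega)]
  intro k
  induction k with
  | zero => exact ⟨0, fun r _ => by simp, fun r h1 h2 => absurd h2 (by omega)⟩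
  | succ k ih =>
    obtain ⟨w, h1, h2⟩ := ih
    by_cases hk : h < k + 1
    · exact ⟨w, h1, fun r hr _ => h2 r hr (by omega)⟩
    set y := x + S.N w with hy
    set g := S.dl (h - (k + 1)) y
    refine ⟨w + g • (S.T ^ (k + 1)) y, ?_⟩
    have key : ∀ r, S.dl r (x + S.N (w + g • (S.T ^ (k + 1)) y)) = S.dl r y +
        S.kap r * (g * S.dl (r + k + 2) y + g * g * S.dl (r + 2 * k + 3) y) := fun r => by
      rw [map_add, map_smul, S.N_Tp, ← add_assoc, ← hy, S.dl_add_TkN, p1_self, p0_self,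
        show r + (k + 1) + 1 = r + k + 2 by omega, show r + 2 * (k + 1) + 1 = r + 2 * k + 3 by omega]
      ring
    refine ⟨fun r hr => ?_, fun r hr hr' => ?_⟩
    · rw [key, S.dl_eq_zero (hz y) (r := r + k + 2) (by omega), S.dl_eq_zero (hz y) (r := r + 2 * k + 3) (by omega),
        ← h1 r hr]
      ring
    · by_cases hlt : h ≤ r + k
      · rw [key, S.dl_eq_zero (hz y) (r := r + k + 2) (by omega), S.dl_eq_zero (hz y) (r := r + 2 * k + 3) (by omega),
          h2 r hr hlt]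
        ring
      · have hr1 : r = h - (k + 1) := by omega
        rw [key, show r + k + 2 = h + 1 by omega, S.dl_eq_zero (hz y) (r := r + 2 * k + 3) (by omega),
          h1 (h + 1) (by omega), hx, show g = S.dl r y by rw [hr1]]
        linear_combination S.kap_dl r y + CharTwo.add_self_eq_zero (S.dl r y)

/-- A pair with unit top pairing, even length, both tops zero. -/
theorem exists_pair_even {e h : ℕ} (he : e = 2 * (h + 1)) (hN : S.N ^ e = 0)
    (htop : ∀ v, S.dl (h + 1) v = 0) {x y : V} (hxy : S.p1 h x y = 1) :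
    ∃ x' y', (∀ r, S.dl r x' = 0) ∧ (∀ r, S.dl r y' = 0) ∧ (∀ r, S.p0 r x' y' = 0) ∧
      ∀ r, S.p1 r x' y' = if r = h then 1 else 0 := by
  have hz : ∀ v, (S.N ^ e) v = 0 := fun v => by rw [hN]; rfl
  have dz : ∀ (v : V) r, h + 1 ≤ r → S.dl r v = 0 := fun v r hr => by
    rcases eq_or_lt_of_le hr with rfl | h'
    · exact htop v
    · exact S.dl_eq_zero (hz v) (by omega)
  have p0z : ∀ (u v : V) r, h + 1 ≤ r → S.p0 r u v = 0 := fun u v r hr => S.p0_eq_zero (hz u) v (by omega)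
  have p1z : ∀ (u v : V) r, h + 1 ≤ r → S.p1 r u v = 0 := fun u v r hr => S.p1_eq_zero (hz u) v (by omega)
  suffices ∀ k, ∃ x' y', S.p1 h x' y' = 1 ∧ (∀ r, h + 1 ≤ r + k → S.dl r x' = 0 ∧ S.dl r y' = 0 ∧
      S.p0 r x' y' = 0) ∧ ∀ r, h ≤ r + k → r ≠ h → S.p1 r x' y' = 0 by
    obtain ⟨x', y', h1, h2, h3⟩ := this (h + 1)
    refine ⟨x', y', fun r => (h2 r (by omega)).1, fun r => (h2 r (by omega)).2.1,
      fun r => (h2 r (by omega)).2.2, fun r => ?_⟩
    split_ifs with hr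
    · rw [hr, h1]
    · exact h3 r (by omega) hr
  intro k
  induction k with
  | zero => exact ⟨x, y, hxy, fun r hr => ⟨dz x r (by omega), dz y r (by omega), p0z x y r (by omega)⟩,
      fun r hr hne => p1z x y r (by omega)⟩
  | succ k ih =>
    obtain ⟨x, y, h1, h2, h3⟩ := ih
    by_cases hk : h < k
    · exact ⟨x, y, h1, fun r hr => h2 r (by omega), fun r hr hne => h3 r (by omega) hne⟩
    obtain ⟨r0, rfl⟩ : ∃ r0, h = r0 + k := ⟨h - k, by omega⟩
    -- first vector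
    set g₁ := S.dl r0 x
    set x₁ := x + g₁ • (S.T ^ k) (S.N y) with hx₁
    have ex : ∀ r, r0 ≤ r → S.dl r x₁ = 0 := fun r hr => by
      rw [hx₁, S.dl_add_TkN, dz y (r + 2 * k + 1) (by omega), p0z x y (r + k + 1) (by omega)]
      rcases eq_or_lt_of_le hr with rfl | hlt
      · rw [h1]; linear_combination S.kap_dl r0 x + CharTwo.add_self_eq_zero (S.dl r0 x)
      · rw [(h2 r (by omega)).1, p1z x y (r + k) (by omega)]; ring
    have ec0 : ∀ r, r0 ≤ r → S.p0 r x₁ y = S.p0 r x y := fun r hr => by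
      rw [hx₁, p0_add_left, p0_smul_left, S.p0_symm r y ((S.T ^ k) (S.N y)), S.p0_Tk, S.p0_N, p1_self, p0_self,
        dz y (r + k + 1) (by omega)]
      ring
    have ec1 : ∀ r, r0 + k ≤ r + (k + 1) → S.p1 r x₁ y = S.p1 r x y := fun r hr => by
      rw [hx₁, p1_add_left, p1_smul_left, S.p1_swap r y ((S.T ^ k) (S.N y)), S.p0_Tk, S.p0_N, S.p1_Tk, p1_N, p1_self, p0_self, p0_self,
        dz y (r + 1 + k + 1) (by omega)]
      ring
    have hy₁ : S.p1 (r0 + k) x₁ y = 1 := by rw [ec1 _ (by omega), h1]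
    -- the symmetric pairing
    set g₂ := S.p0 r0 x₁ y
    set y₂ := y + g₂ • (S.T ^ k) (S.N y) with hy₂
    have e20 : ∀ r, r0 ≤ r → S.p0 r x₁ y₂ = 0 := fun r hr => by
      rw [hy₂, p0_add, p0_smul, S.p0_Tk, S.p0_N, p0z x₁ y (r + k + 1) (by omega)]
      rcases eq_or_lt_of_le hr with rfl | hlt
      · rw [hy₁]; linear_combination CharTwo.add_self_eq_zero (S.p0 r0 x₁ y)
      · rw [p1z x₁ y (r + k) (by omega), ec0 r hr, (h2 r (by omega)).2.2]; ring
    have e21 : ∀ r, r0 + k ≤ r + k → S.p1 r x₁ y₂ = S.p1 r x₁ y := fun r hr => by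
      rw [hy₂, p1_add, p1_smul, S.p1_Tk, S.p1_N]
      rcases Nat.eq_zero_or_pos k with rfl | hk'
      · rw [p0z x₁ y (r + 0 + 1) (by omega)]; ring
      · rw [p0z x₁ y (r + k + 1) (by omega)]; ring
    have e2d : ∀ r, r0 + 1 ≤ r → S.dl r y₂ = 0 := fun r hr => by
      rw [hy₂, S.dl_add_TkN, p1_self, p0_self, dz y (r + k + 1) (by omega), dz y (r + 2 * k + 1) (by omega),
        (h2 r (by omega)).2.1]
      ring
    -- the pairing through `N`
    have hy₂' : S.p1 (r0 + k) x₁ y₂ = 1 := by rw [e21 (r0 + k) (by omega), hy₁]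
    obtain ⟨y₃, hy3, e3⟩ : ∃ y₃, (∀ r, r0 ≤ r → S.p0 r x₁ y₃ = 0) ∧
        (∀ r, r0 + k ≤ r + (k + 1) → r ≠ r0 + k → S.p1 r x₁ y₃ = 0) ∧ (∀ r, r0 + 1 ≤ r → S.dl r y₃ = 0) ∧
        S.p1 (r0 + k) x₁ y₃ = 1 := by
      rcases Nat.eq_zero_or_pos r0 with rfl | hr0
      · refine ⟨y₂, e20, fun r hr hne => ?_, e2d, hy₂'⟩
        rcases Nat.lt_or_ge r (0 + k) with hlt | hge
        · rw [e21 r (by omega), ec1 r hr]
          exact h3 r (by omega) hne
        · exact p1z _ _ r (by omega)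
      · set g₃ := S.p1 (r0 - 1) x₁ y₂
        refine ⟨y₂ + g₃ • (S.T ^ (k + 1)) y₂, fun r hr => ?_, fun r hr hne => ?_, fun r hr => ?_, ?_⟩
        · rw [p0_add, p0_smul, S.p0_Tk, p0z _ _ (r + (k + 1)) (by omega), e20 r hr]; ring
        · rw [p1_add, p1_smul, S.p1_Tk]
          rcases eq_or_lt_of_le (show r0 - 1 ≤ r by omega) with rfl | hlt
          · rw [show r0 - 1 + (k + 1) = r0 + k by omega, hy₂']
            linear_combination CharTwo.add_self_eq_zero (S.p1 (r0 - 1) x₁ y₂)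
          · rw [p1z _ _ (r + (k + 1)) (by omega), e21 r (by omega), ec1 r hr, h3 r (by omega) hne]; ring
        · rw [S.dl_add_Tk, p0_self, dz y₂ (r + 2 * (k + 1)) (by omega), e2d r hr]; ring
        · rw [p1_add, p1_smul, S.p1_Tk, p1z _ _ (r0 + k + (k + 1)) (by omega), hy₂']; ring
    obtain ⟨e31, e3d, hy₃⟩ := e3
    -- the second vector
    set g₄ := S.dl r0 y₃
    refine ⟨x₁, y₃ + g₄ • (S.T ^ k) (S.N x₁), ?_, fun r hr => ⟨ex r (by omega), ?_, ?_⟩, fun r hr hne => ?_⟩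
    · rw [p1_add, p1_smul, S.p1_Tk, S.p1_N, p0_self, hy₃]; ring
    · rw [S.dl_add_TkN, S.p1_swap (r + k) x₁ y₃, p0z x₁ y₃ (r + k + 1) (by omega), p0z y₃ x₁ (r + k + 1) (by omega),
        dz x₁ (r + 2 * k + 1) (by omega)]
      rcases eq_or_lt_of_le (show r0 ≤ r by omega) with rfl | hlt
      · rw [hy₃]; linear_combination S.kap_dl r0 y₃ + CharTwo.add_self_eq_zero (S.dl r0 y₃)
      · rw [p1z x₁ y₃ (r + k) (by omega), e3d r (by omega)]; ring
    · rw [p0_add, p0_smul, S.p0_Tk, S.p0_N, p1_self, p0_self, dz x₁ (r + k + 1) (by omega), hy3 r (by omega)]; ring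
    · rw [p1_add, p1_smul, S.p1_Tk, S.p1_N, p0_self, e31 r (by omega) hne]; ring

/-- A pair with unit top pairing, odd length. -/
theorem exists_pair_odd {e h : ℕ} (he : e = 2 * h + 1) (hN : S.N ^ e = 0) {x y : V} (hxy : S.p0 h x y = 1) :
    ∃ x' y', (∀ r, S.dl r x' = if r = h then S.dl h x else 0) ∧ (∀ r, S.dl r y' = if r = h then S.dl h y else 0) ∧
      (∀ r, S.p0 r x' y' = if r = h then 1 else 0) ∧ ∀ r, S.p1 r x' y' = 0 := by
  have hz : ∀ v, (S.N ^ e) v = 0 := fun v => by rw [hN]; rfl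
  have dz : ∀ (v : V) r, h + 1 ≤ r → S.dl r v = 0 := fun v r hr => S.dl_eq_zero (hz v) (by omega)
  have p0z : ∀ (u v : V) r, h + 1 ≤ r → S.p0 r u v = 0 := fun u v r hr => S.p0_eq_zero (hz u) v (by omega)
  have p1z : ∀ (u v : V) r, h ≤ r → S.p1 r u v = 0 := fun u v r hr => S.p1_eq_zero (hz u) v (by omega)
  set a := S.dl h x
  set b := S.dl h y
  suffices ∀ k, ∃ x' y', S.p0 h x' y' = 1 ∧ S.dl h x' = a ∧ S.dl h y' = b ∧ (∀ r, h ≤ r + k → r ≠ h →
      S.dl r x' = 0 ∧ S.dl r y' = 0 ∧ S.p0 r x' y' = 0) ∧ ∀ r, h ≤ r + k → S.p1 r x' y' = 0 by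
    obtain ⟨x', y', h0, ha, hb, h2, h3⟩ := this h
    refine ⟨x', y', fun r => ?_, fun r => ?_, fun r => ?_, fun r => h3 r (by omega)⟩ <;> split_ifs with hr
    · rw [hr, ha]
    · exact (h2 r (by omega) hr).1
    · rw [hr, hb]
    · exact (h2 r (by omega) hr).2.1
    · rw [hr, h0]
    · exact (h2 r (by omega) hr).2.2
  intro k
  induction k with
  | zero => exact ⟨x, y, hxy, rfl, rfl, fun r hr hne => ⟨dz x r (by omega), dz y r (by omega), p0z x y r (by omega)⟩,
      fun r hr => p1z x y r (by omega)⟩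
  | succ k ih =>
    obtain ⟨x, y, h0, ha, hb, h2, h3⟩ := ih
    by_cases hk : h ≤ k
    · exact ⟨x, y, h0, ha, hb, fun r hr => h2 r (by omega), fun r hr => h3 r (by omega)⟩
    obtain ⟨r0, rfl⟩ : ∃ r0, h = r0 + (k + 1) := ⟨h - (k + 1), by omega⟩
    set g₁ := S.dl r0 x
    set x₁ := x + g₁ • (S.T ^ (k + 1)) y with hx₁
    have ex : ∀ r, r0 ≤ r → r ≠ r0 + (k + 1) → S.dl r x₁ = 0 := fun r hr hne => by
      rw [hx₁, S.dl_add_Tk, dz y (r + 2 * (k + 1)) (by omega)]
      rcases eq_or_lt_of_le hr with rfl | hlt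
      · rw [h0]; linear_combination S.kap_dl r0 x + CharTwo.add_self_eq_zero (S.dl r0 x)
      · rw [(h2 r (by omega) hne).1, p0z x y (r + (k + 1)) (by omega)]; ring
    have exa : S.dl (r0 + (k + 1)) x₁ = a := by
      rw [hx₁, S.dl_add_Tk, dz y (r0 + (k + 1) + 2 * (k + 1)) (by omega),
        p0z x y (r0 + (k + 1) + (k + 1)) (by omega), ha]
      ring
    have ec0 : ∀ r, S.p0 r x₁ y = S.p0 r x y := fun r => by
      rw [hx₁, p0_add_left, p0_smul_left, S.p0_symm r y ((S.T ^ (k + 1)) y), S.p0_Tk, p0_self]; ring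
    have ec1 : ∀ r, r0 ≤ r → S.p1 r x₁ y = S.p1 r x y := fun r hr => by
      rw [hx₁, p1_add_left, p1_smul_left, S.p1_swap r y ((S.T ^ (k + 1)) y), S.p0_Tk, S.p1_Tk, p1_self, p0_self,
        dz y (r + (k + 1) + 1) (by omega)]
      ring
    have h01 : S.p0 (r0 + (k + 1)) x₁ y = 1 := by rw [ec0, h0]
    -- the pairing through `N`
    set g₂ := S.p1 r0 x₁ y
    set y₂ := y + g₂ • (S.T ^ k) (S.N y) with hy₂
    have e21 : ∀ r, r0 ≤ r → S.p1 r x₁ y₂ = 0 := fun r hr => by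
      rw [hy₂, p1_add, p1_smul, S.p1_Tk, S.p1_N]
      rcases eq_or_lt_of_le hr with rfl | hlt
      · rw [show r0 + k + 1 = r0 + (k + 1) by omega, h01]
        linear_combination CharTwo.add_self_eq_zero (S.p1 r0 x₁ y)
      · rw [p0z x₁ y (r + k + 1) (by omega), ec1 r hr, h3 r (by omega)]; ring
    have e20 : ∀ r, r0 + 1 ≤ r → S.p0 r x₁ y₂ = S.p0 r x₁ y := fun r hr => by
      rw [hy₂, p0_add, p0_smul, S.p0_Tk, S.p0_N, p0z x₁ y (r + k + 1) (by omega), p1z x₁ y (r + k) (by omega)]; ring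
    have e2d : ∀ r, r0 + 1 ≤ r → S.dl r y₂ = S.dl r y := fun r hr => by
      rw [hy₂, S.dl_add_TkN, p1_self, p0_self, dz y (r + k + 1) (by omega), dz y (r + 2 * k + 1) (by omega)]; ring
    have h02 : S.p0 (r0 + (k + 1)) x₁ y₂ = 1 := by rw [e20 _ (by omega), h01]
    -- the symmetric pairing
    set g₃ := S.p0 r0 x₁ y₂
    set y₃ := y₂ + g₃ • (S.T ^ (k + 1)) y₂ with hy₃
    have e30 : ∀ r, r0 ≤ r → r ≠ r0 + (k + 1) → S.p0 r x₁ y₃ = 0 := fun r hr hne => by
      rw [hy₃, p0_add, p0_smul, S.p0_Tk]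
      rcases eq_or_lt_of_le hr with rfl | hlt
      · rw [h02]; linear_combination CharTwo.add_self_eq_zero (S.p0 r0 x₁ y₂)
      · rw [p0z x₁ y₂ (r + (k + 1)) (by omega), e20 r (by omega), ec0, (h2 r (by omega) hne).2.2]; ring
    have e31 : ∀ r, r0 ≤ r → S.p1 r x₁ y₃ = 0 := fun r hr => by
      rw [hy₃, p1_add, p1_smul, S.p1_Tk, p1z x₁ y₂ (r + (k + 1)) (by omega), e21 r hr]; ring
    have e3d : ∀ r, r0 + 1 ≤ r → S.dl r y₃ = S.dl r y := fun r hr => by
      rw [hy₃, S.dl_add_Tk, p0_self, dz y₂ (r + 2 * (k + 1)) (by omega), e2d r hr]; ring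
    have h03 : S.p0 (r0 + (k + 1)) x₁ y₃ = 1 := by
      rw [hy₃, p0_add, p0_smul, S.p0_Tk, p0z x₁ y₂ (r0 + (k + 1) + (k + 1)) (by omega), h02]; ring
    -- the second vector
    set g₄ := S.dl r0 y₃
    refine ⟨x₁, y₃ + g₄ • (S.T ^ (k + 1)) x₁, ?_, exa, ?_, fun r hr hne => ⟨ex r (by omega) hne, ?_, ?_⟩,
      fun r hr => ?_⟩
    · rw [p0_add, p0_smul, S.p0_Tk, p0_self, h03]; ring
    · rw [S.dl_add_Tk, S.p0_symm, dz x₁ (r0 + (k + 1) + 2 * (k + 1)) (by omega),
        p0z x₁ y₃ (r0 + (k + 1) + (k + 1)) (by omega), e3d _ (by omega), hb]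
      ring
    · rw [S.dl_add_Tk, S.p0_symm, dz x₁ (r + 2 * (k + 1)) (by omega)]
      rcases eq_or_lt_of_le (show r0 ≤ r by omega) with rfl | hlt
      · rw [h03]; linear_combination S.kap_dl r0 y₃ + CharTwo.add_self_eq_zero (S.dl r0 y₃)
      · rw [p0z x₁ y₃ (r + (k + 1)) (by omega), e3d r (by omega), (h2 r (by omega) hne).2.1]; ring
    · rw [p0_add, p0_smul, S.p0_Tk, p0_self, e30 r (by omega) hne]; ring
    · rw [p1_add, p1_smul, S.p1_Tk, p1_self, dz x₁ (r + (k + 1) + 1) (by omega), e31 r (by omega)]; ring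

end Sys

end Cfsg.Agent.CharTwoClass
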