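import Cfsg.Agent.EqLemmas
import Mathlib.LinearAlgebra.BilinearForm.Properties
import Mathlib.LinearAlgebra.BilinearForm.Orthogonal
import Mathlib.Algebra.CharP.Two
import Mathlib.RingTheory.Nilpotent.Basic

/-!
# Unipotent isometries in characteristic two

`Sys F V`: a nilpotent `N` with `1 + N` an isometry of a non-degenerate alternating form `B` and of `q`,
where either `c = 1` and `q` is quadratic with polar `B`, or `c = 0` and `q = 0`.

With `T = N² (1 + N)⁻¹` one has `N² = T + T N`, `T` is self-adjoint, and everything about a vector `x` is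
recorded by `dl r x` : `dl 0 x = q x`, `dl (r + 1) x = B (Tʳ N x) x`.
-/

set_option autoImplicit false
set_option linter.unusedVariables false
set_option linter.unusedSectionVars false

namespace Cfsg.Agent.CharTwoClass

universe u v

variable {F : Type u} [Field F] [CharP F 2] {V : Type v} [AddCommGroup V] [Module F V]

/-- A unipotent isometry, as the nilpotent endomorphism `N`. -/
structure Sys (F : Type u) [Field F] (V : Type v) [AddCommGroup V] [Module F V] where
  B : LinearMap.BilinForm F V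
  N : Module.End F V
  c : F
  q : V → F
  alt : ∀ v, B v v = 0
  nd : ∀ v, (∀ w, B v w = 0) → v = 0
  inv : ∀ v w, B (v + N v) (w + N w) = B v w
  nil : IsNilpotent N
  cq : c = 1 ∨ (c = 0 ∧ ∀ v, q v = 0)
  q_add : ∀ v w, q (v + w) = q v + q w + c * B v w
  q_smul : ∀ (a : F) v, q (a • v) = a * a * q v
  q_inv : ∀ v, q (v + N v) = q v

theorem vadd_self (F : Type u) [Field F] [CharP F 2] {V : Type v} [AddCommGroup V] [Module F V] (v : V) :
    v + v = 0 := by
  rw [← two_smul F, CharTwo.two_eq_zero, zero_smul]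

theorem end_add_self (f : Module.End F V) : f + f = 0 := LinearMap.ext fun v => vadd_self F (f v)

namespace Sys

variable (S : Sys F V)

theorem comm (v w : V) : S.B v w = S.B w v := by
  have h := S.alt (v + w)
  simp only [map_add, LinearMap.add_apply, S.alt, zero_add, add_zero] at h
  exact (CharTwo.add_eq_zero.1 h).symm

theorem isUnit_one_add : IsUnit (1 + S.N) := IsNilpotent.isUnit_one_add S.nil

/-- The inverse of `1 + N`. -/
noncomputable def R : Module.End F V := Ring.inverse (1 + S.N)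

/-- `T = N² (1 + N)⁻¹`. -/
noncomputable def T : Module.End F V := S.N * S.N * S.R

theorem one_add_mul_R : (1 + S.N) * S.R = 1 := Ring.mul_inverse_cancel _ S.isUnit_one_add

theorem comm_R : Commute S.N S.R := by
  have h : Commute S.N (1 + S.N) := (Commute.one_right _).add_right (Commute.refl _)
  rw [R, ← S.isUnit_one_add.unit_spec, Ring.inverse_unit]
  exact Commute.units_inv_right (by rw [IsUnit.unit_spec]; exact h)

theorem comm_T : Commute S.N S.T :=
  ((Commute.refl S.N).mul_right (Commute.refl S.N)).mul_right S.comm_R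

theorem sq_N : S.N * S.N = S.T + S.T * S.N := by
  rw [show S.T + S.T * S.N = S.N * S.N * (S.R * (1 + S.N)) by
    rw [T, mul_add, mul_add, mul_one]; simp only [mul_assoc]]
  rw [Sys.R, Ring.inverse_mul_cancel _ S.isUnit_one_add, mul_one]

theorem N_add_T : S.N + S.T = S.N * S.R := by
  conv_lhs => rw [← mul_one S.N, ← S.one_add_mul_R]
  rw [T, add_mul, one_mul, mul_add, ← mul_assoc, add_assoc, end_add_self, add_zero]

theorem N_mul_N_add_T : S.N * (S.N + S.T) = S.T := by
  rw [S.N_add_T, T, ← mul_assoc]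

theorem adj (v w : V) : S.B (S.N v) w = S.B v ((S.N + S.T) w) := by
  have h := S.inv v (S.R w)
  have h1 : S.R w + S.N (S.R w) = w := LinearMap.congr_fun S.one_add_mul_R w
  rw [h1, map_add, LinearMap.add_apply] at h
  have h2 : (S.N + S.T) w = S.R w + w := by
    rw [S.N_add_T]
    conv_rhs => arg 2; rw [← h1]
    rw [← add_assoc, vadd_self F, zero_add]
    rfl
  rw [h2, map_add, ← h, add_right_comm, CharTwo.add_self_eq_zero, zero_add]

theorem adj' (v w : V) : S.B ((S.N + S.T) v) w = S.B v (S.N w) := by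
  rw [S.comm, ← S.adj, S.comm]

theorem T_adj (v w : V) : S.B (S.T v) w = S.B v (S.T w) := by
  conv_lhs => rw [← S.N_mul_N_add_T, Module.End.mul_apply, S.adj, S.adj']
  rw [← Module.End.mul_apply, S.N_mul_N_add_T]

theorem Tp_adj (r : ℕ) (v w : V) : S.B ((S.T ^ r) v) w = S.B v ((S.T ^ r) w) := by
  induction r generalizing v w with
  | zero => rfl
  | succ r ih =>
    conv_lhs => rw [pow_succ, Module.End.mul_apply, ih, S.T_adj]
    rw [pow_succ', Module.End.mul_apply]

theorem Tp_add (r k : ℕ) (v : V) : (S.T ^ r) ((S.T ^ k) v) = (S.T ^ (r + k)) v := by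
  rw [← Module.End.mul_apply, ← pow_add]

theorem N_Tp (r : ℕ) (v : V) : S.N ((S.T ^ r) v) = (S.T ^ r) (S.N v) :=
  LinearMap.congr_fun (S.comm_T.pow_right r).eq v

theorem N_N (v : V) : S.N (S.N v) = S.T v + S.T (S.N v) := LinearMap.congr_fun S.sq_N v

theorem q_zero : S.q 0 = 0 := by
  have h := S.q_smul 0 0
  simpa using h

theorem c_mul_q (v : V) : S.c * S.q v = S.q v := by
  rcases S.cq with h | ⟨h, h'⟩
  · rw [h, one_mul]
  · rw [h', mul_zero]

theorem c_mul_c : S.c * S.c = S.c := by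
  rcases S.cq with h | ⟨h, -⟩ <;> simp [h]

/-- `κ r` is `c` at `r = 0` and `1` otherwise. -/
def kap (r : ℕ) : F := if r = 0 then S.c else 1

@[simp] theorem kap_zero : S.kap 0 = S.c := if_pos rfl

@[simp] theorem kap_succ (r : ℕ) : S.kap (r + 1) = 1 := if_neg r.succ_ne_zero

theorem kap_mul_kap (r : ℕ) : S.kap r * S.kap r = S.kap r := by
  cases r <;> simp [S.c_mul_c]

/-- The values attached to one vector. -/
noncomputable def dl : ℕ → V → F
  | 0, x => S.q x
  | r + 1, x => S.B ((S.T ^ r) (S.N x)) x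

/-- `B (Tʳ x) y`. -/
noncomputable def p0 (r : ℕ) (x y : V) : F := S.B ((S.T ^ r) x) y

/-- `B (Tʳ N x) y`. -/
noncomputable def p1 (r : ℕ) (x y : V) : F := S.B ((S.T ^ r) (S.N x)) y

theorem p1_self (r : ℕ) (x : V) : S.p1 r x x = S.dl (r + 1) x := rfl

theorem p0_symm (r : ℕ) (x y : V) : S.p0 r y x = S.p0 r x y := by
  rw [p0, p0, S.Tp_adj, S.comm]

theorem B_NT (r : ℕ) (x y : V) : S.B ((S.T ^ r) x) (S.N y) = S.p1 r x y + S.p0 (r + 1) x y := by
  rw [p1, p0, ← S.adj' ((S.T ^ r) x) y, LinearMap.add_apply, map_add, LinearMap.add_apply, S.N_Tp,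
    pow_succ', Module.End.mul_apply]

theorem p1_swap (r : ℕ) (x y : V) : S.p1 r y x = S.p1 r x y + S.p0 (r + 1) x y := by
  rw [← S.B_NT, S.Tp_adj r x, S.comm, p1]

theorem p0_N (r : ℕ) (x y : V) : S.p0 r x (S.N y) = S.p1 r x y + S.p0 (r + 1) x y := S.B_NT r x y

theorem p1_N (r : ℕ) (x y : V) : S.p1 r x (S.N y) = S.p0 (r + 1) x y := by
  rw [show S.p1 r x (S.N y) = S.B ((S.T ^ r) (S.N x)) (S.N y) from rfl, ← S.N_Tp, S.adj, ← Module.End.mul_apply,
    show (S.N + S.T) * S.N = S.N * (S.N + S.T) by rw [add_mul, mul_add, S.comm_T.eq], S.N_mul_N_add_T, p0,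
    pow_succ', Module.End.mul_apply, S.T_adj]

theorem p0_Tk (r k : ℕ) (x y : V) : S.p0 r x ((S.T ^ k) y) = S.p0 (r + k) x y := by
  rw [p0, p0, ← S.Tp_adj, S.Tp_add, add_comm]

theorem p1_Tk (r k : ℕ) (x y : V) : S.p1 r x ((S.T ^ k) y) = S.p1 (r + k) x y := by
  rw [p1, p1, ← S.Tp_adj, S.Tp_add, add_comm]

theorem p0_add (r : ℕ) (x y z : V) : S.p0 r x (y + z) = S.p0 r x y + S.p0 r x z := map_add _ y z

theorem p1_add (r : ℕ) (x y z : V) : S.p1 r x (y + z) = S.p1 r x y + S.p1 r x z := map_add _ y z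

theorem p0_smul (r : ℕ) (a : F) (x y : V) : S.p0 r x (a • y) = a * S.p0 r x y := map_smul _ a y

theorem p1_smul (r : ℕ) (a : F) (x y : V) : S.p1 r x (a • y) = a * S.p1 r x y := map_smul _ a y

theorem p0_add_left (r : ℕ) (x y z : V) : S.p0 r (x + y) z = S.p0 r x z + S.p0 r y z := by
  simp [p0, map_add]

theorem p1_add_left (r : ℕ) (x y z : V) : S.p1 r (x + y) z = S.p1 r x z + S.p1 r y z := by
  simp [p1, map_add]

theorem p0_smul_left (r : ℕ) (a : F) (x y : V) : S.p0 r (a • x) y = a * S.p0 r x y := by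
  simp [p0, map_smul]

theorem p1_smul_left (r : ℕ) (a : F) (x y : V) : S.p1 r (a • x) y = a * S.p1 r x y := by
  simp [p1, map_smul]

theorem p0_self (r : ℕ) (x : V) : S.p0 r x x = 0 := by
  obtain ⟨s, rfl | rfl⟩ := r.even_or_odd'
  · rw [p0, two_mul, ← S.Tp_add, S.Tp_adj, S.alt]
  · rw [p0, two_mul, add_assoc, ← S.Tp_add, S.Tp_adj, pow_succ', Module.End.mul_apply]
    generalize (S.T ^ s) x = z
    rw [← S.N_mul_N_add_T, Module.End.mul_apply]
    rw [S.adj, S.alt]

theorem kap_dl (r : ℕ) (x : V) : S.kap r * S.dl r x = S.dl r x := by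
  cases r with
  | zero => rw [kap_zero]; exact S.c_mul_q x
  | succ r => rw [kap_succ, one_mul]

theorem dl_add (r : ℕ) (x y : V) : S.dl r (x + y) = S.dl r x + S.dl r y + S.kap r * S.p0 r x y := by
  cases r with
  | zero =>
    show S.q (x + y) = S.q x + S.q y + _
    rw [S.q_add, kap_zero, p0, pow_zero]
    rfl
  | succ r =>
    rw [kap_succ, one_mul]
    show S.B ((S.T ^ r) (S.N (x + y))) (x + y) = S.p1 r x x + S.p1 r y y + _
    have h := S.p1_swap r x y
    simp only [p1, map_add, LinearMap.add_apply] at h ⊢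
    linear_combination h + (CharTwo.add_self_eq_zero (S.B ((S.T ^ r) (S.N x)) y))

theorem dl_smul (r : ℕ) (a : F) (x : V) : S.dl r (a • x) = a * a * S.dl r x := by
  cases r with
  | zero => exact S.q_smul a x
  | succ r => simp only [dl, map_smul, LinearMap.smul_apply, smul_eq_mul]; ring

theorem q_N (z : V) : S.q (S.N z) = S.c * S.dl 1 z := by
  have h := S.q_inv z
  rw [S.q_add, add_assoc, add_eq_left, CharTwo.add_eq_zero] at h
  rw [h, S.comm]
  rfl

theorem dl_N (r : ℕ) (x : V) : S.dl r (S.N x) = S.kap r * S.dl (r + 1) x := by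
  cases r with
  | zero => rw [kap_zero]; exact S.q_N x
  | succ r =>
    rw [kap_succ, one_mul, ← p1_self, p1_N, p0_symm, p0_N, p1_self, p0_self, add_zero]

theorem dl_T (r : ℕ) (x : V) : S.dl r (S.T x) = S.kap r * S.dl (r + 2) x := by
  cases r with
  | zero =>
    rw [kap_zero]
    show S.q (S.T x) = S.c * S.dl 2 x
    rw [← S.N_mul_N_add_T, Module.End.mul_apply, S.q_N]
    congr 1
    show S.B ((S.T ^ 0) (S.N ((S.N + S.T) x))) ((S.N + S.T) x) = S.B ((S.T ^ 1) (S.N x)) x
    rw [pow_zero, Module.End.one_apply, ← Module.End.mul_apply, S.N_mul_N_add_T, S.comm, S.adj',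
      pow_one, S.comm (S.T (S.N x)), show S.T (S.N x) = S.N (S.T x) from (LinearMap.congr_fun S.comm_T.eq x).symm]
  | succ r =>
    rw [kap_succ, one_mul]
    show S.B ((S.T ^ r) (S.N (S.T x))) (S.T x) = S.B ((S.T ^ (r + 2)) (S.N x)) x
    rw [show S.N (S.T x) = S.T (S.N x) from LinearMap.congr_fun S.comm_T.eq x, ← S.T_adj,
      ← Module.End.mul_apply, ← Module.End.mul_apply, ← Module.End.mul_apply, ← pow_succ',
      ← pow_succ]
    rfl

theorem dl_Tk (r k : ℕ) (x : V) : S.dl r ((S.T ^ k) x) = S.kap r * S.dl (r + 2 * k) x := by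
  induction k generalizing x with
  | zero => simp [S.kap_dl]
  | succ k ih =>
    rw [pow_succ, Module.End.mul_apply, ih, S.dl_T, ← mul_assoc, show r + 2 * k + 2 = r + 2 * (k + 1) by ring]
    rcases k with - | k
    · simp [kap_mul_kap]
    · rw [show r + 2 * (k + 1) = (r + 2 * k + 1) + 1 by ring, kap_succ, mul_one]

/-- Adding a multiple of `Tᵏ y`. -/
theorem dl_add_Tk (r k : ℕ) (g : F) (x y : V) : S.dl r (x + g • (S.T ^ k) y) =
    S.dl r x + S.kap r * (g * S.p0 (r + k) x y + g * g * S.dl (r + 2 * k) y) := by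
  rw [S.dl_add, S.dl_smul, S.dl_Tk, S.p0_smul, S.p0_Tk]
  ring

/-- Adding a multiple of `Tᵏ N y`. -/
theorem dl_add_TkN (r k : ℕ) (g : F) (x y : V) : S.dl r (x + g • (S.T ^ k) (S.N y)) =
    S.dl r x + S.kap r * (g * (S.p1 (r + k) x y + S.p0 (r + k + 1) x y) + g * g * S.dl (r + 2 * k + 1) y) := by
  rw [S.dl_add_Tk, S.p0_N, S.dl_N]
  rcases Nat.eq_zero_or_pos (r + 2 * k) with h | h
  · obtain ⟨rfl, rfl⟩ : r = 0 ∧ k = 0 := by omega
    simp only [Nat.zero_add, Nat.mul_zero, kap_zero]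
    linear_combination (g * g * S.dl 1 y) * S.c_mul_c
  · rw [show S.kap (r + 2 * k) = 1 from if_neg (by omega), one_mul]

end Sys

end Cfsg.Agent.CharTwoClass
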