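import Cfsg.Agent.Lib.CharTwoClass.Glue
import Cfsg.Agent.Lib.CharTwoClass.Bound

/-!
# Upper bounds for the class numbers, characteristic two

* `card_classes_symp_le` : `5 k ≤ 76 q ^ n`;
* `card_classes_orth_le` : `k ≤ 15 q ^ n`.
-/

set_option autoImplicit false
set_option linter.unusedVariables false
set_option linter.unusedSectionVars false

open Polynomial Matrix
open scoped Classical

namespace Cfsg.Agent.CharTwoClass

universe u

variable {F : Type u} [Field F] [CharP F 2] [Finite F] {ι : Type} [Fintype ι] [DecidableEq ι]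
  {Γ : Type*} [Group Γ] {c : F} {B : LinearMap.BilinForm F (ι → F)} {q : (ι → F) → F}
  {ρ : Γ →* Matrix ι ι F} (R : Rep c B q ρ)

/-- The invariants of an element, by exponent. -/
noncomputable def Rep.dat (g : Γ) (w : ℕ) : F[X] × Bool :=
  if w = 0 then (1, false)
  else if w % 2 = 1 then (R.tup g w, bitsOf (R.unip g) (w / 2))
  else (R.tup g w, decide ((R.unip g).Eps (w / 2 - 1)))

theorem Rep.dat_odd (g : Γ) (j : ℕ) : R.dat g (2 * j + 1) = (R.tup g (2 * j + 1), bitsOf (R.unip g) j) := by
  rw [Rep.dat, if_neg (by omega), if_pos (by omega), show (2 * j + 1) / 2 = j by omega]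

theorem Rep.dat_even (g : Γ) (j : ℕ) :
    R.dat g (2 * j + 2) = (R.tup g (2 * j + 2), decide ((R.unip g).Eps j)) := by
  rw [Rep.dat, if_neg (by omega), if_neg (by omega), show (2 * j + 2) / 2 - 1 = j by omega]

theorem Rep.isConj_of_dat {g g' : Γ} (h : R.dat g' = R.dat g) : IsConj g g' := by
  refine R.isConj_of_code (funext fun w => ?_) (fun j => ?_) (funext fun j => ?_)
  · rcases Nat.eq_zero_or_pos w with rfl | hw
    · have key : ∀ g, R.tup g 0 = 1 := fun g =>
        SLComm.tupOf_eq_one fun x hx => ((R.prs_spec g).1 x hx).2.2.1.ne'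
      rw [key, key]
    · have := congrArg Prod.fst (congrFun h w)
      unfold Rep.dat at this
      rwa [if_neg hw.ne', if_neg hw.ne', apply_ite Prod.fst, apply_ite Prod.fst, ite_self, ite_self] at this
  · have := congrArg Prod.snd (congrFun h (2 * j + 2))
    rw [R.dat_even, R.dat_even] at this
    simpa using this
  · have := congrArg Prod.snd (congrFun h (2 * j + 1))
    rwa [R.dat_odd, R.dat_odd] at this

theorem root_of_mult {g : Γ} {w : ℕ} (hw : 0 < w) (h : 0 < (R.unip g).mult w) : (R.tup g w).IsRoot 1 := by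
  rw [R.mult_eq g hw, rootMultiplicity_pos (R.isRec_tup g w).1.ne_zero] at h
  exact h

theorem good_dat {ok : Bool} (hok : c = 1 → ok = true) (g : Γ) : Good ok false (R.dat g) := by
  have ha := adm_bitsOf (R.unip g)
  refine ⟨if_pos rfl, fun w => ?_, fun j hj => ?_, fun j hj => ?_, fun j => ?_, fun j hj => ?_,
    fun h => absurd h Bool.false_ne_true⟩
  · unfold Rep.dat
    split_ifs
    · exact SpOClassCount.isRec_one
    all_goals exact R.isRec_tup g w
  · rw [R.dat_even] at hj ⊢
    exact root_of_mult R (by omega) (ha.eps j (by simpa using hj))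
  · rw [R.dat_even] at hj ⊢
    refine decide_eq_true (ha.odd j ?_)
    rw [R.mult_eq g (by omega), ← Nat.not_even_iff_odd, ← even_degree_iff (R.isRec_tup g _), Nat.not_even_iff_odd]
    exact hj
  · rw [R.dat_odd, even_degree_iff (R.isRec_tup g _), ← R.mult_eq g (by omega)]
    exact ha.even j
  · rw [R.dat_odd] at hj
    obtain ⟨h1, h2, h3⟩ := ha.bit j hj
    rw [R.dat_odd, R.dat_even]
    refine ⟨?_, ?_, ?_⟩
    · rcases Nat.eq_zero_or_pos j with rfl | hj0
      · exact Or.inl (hok (by simpa [Sys.kap, Rep.unip] using h1))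
      · exact Or.inr hj0.ne'
    · exact h2.imp (fun h => root_of_mult R (by omega) h) fun h => decide_eq_true h
    · rcases Nat.eq_zero_or_pos j with rfl | hj0
      · exact congrArg Prod.snd (if_pos rfl)
      · rw [show 2 * j = 2 * (j - 1) + 2 by omega, R.dat_even]
        exact decide_eq_false (h3 hj0)

/-- All admissible sequences of weight `2 n`. -/
def admAll (F : Type u) [Field F] [CharP F 2] (ok z : Bool) (n : ℕ) : Set (ℕ → F[X] × Bool) :=
  Lev ok z (n + 11) n false ∪ Lev ok z (n + 11) n true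

variable {n : ℕ}

theorem dat_mem {ok : Bool} (hok : c = 1 → ok = true) (hι : Fintype.card ι = 2 * n) (g : Γ) :
    R.dat g ∈ admAll F ok false n := by
  have hG := good_dat R hok g
  obtain ⟨hp, -, hdeg⟩ := R.prs_spec g
  have ha := adm_bitsOf (R.unip g)
  have hle : ∀ x ∈ R.prs g, x.2 ≤ 2 * n := fun x hx => by
    have := SLComm.le_pdeg hp hx
    omega
  have h1 : ∀ w, 2 * n < w → R.tup g w = 1 := fun w hw =>
    SLComm.tupOf_eq_one fun x hx => by have := hle x hx; omega
  have h0 : ∀ w, 2 * n < w → (R.unip g).mult w = 0 := fun w hw => by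
    rw [R.mult_eq g (by omega), h1 w hw, rootMultiplicity_eq_zero]
    simp
  have hE : ∀ j, n ≤ j → ¬ (R.unip g).Eps j := fun j hj h => by
    have := ha.eps j h
    rw [h0 _ (by omega)] at this
    omega
  have hsupp : ∀ w, 2 * (n + 11) < w → R.dat g w = (1, false) := fun w hw => by
    rcases Nat.even_or_odd' w with ⟨k, rfl | rfl⟩
    · obtain ⟨j, rfl⟩ : ∃ j, k = j + 1 := ⟨k - 1, by omega⟩
      rw [show 2 * (j + 1) = 2 * j + 2 by ring, R.dat_even, h1 _ (by omega), decide_eq_false (hE j (by omega))]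
    · rw [R.dat_odd, h1 _ (by omega)]
      refine Prod.ext rfl (eq_false_of_ne_true fun hb => ?_)
      rcases (ha.bit k hb).2.1 with h | h
      · rw [h0 _ (by omega)] at h; omega
      · exact hE k (by omega) h
  have hwt : ∑ w ∈ Finset.range (2 * (n + 11) + 1), w * (R.dat g w).1.natDegree = 2 * n := by
    rw [← hι, ← hdeg, ← SLComm.sum_weight_tupOf (ws := List.range (2 * (n + 11) + 1)) hp List.nodup_range
      fun x hx => List.mem_range.2 (by have := hle x hx; omega)]
    refine Finset.sum_congr rfl fun w _ => ?_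
    rcases Nat.eq_zero_or_pos w with rfl | hw
    · simp
    · unfold Rep.dat
      rw [if_neg hw.ne', apply_ite Prod.fst, ite_self]
      rfl
  rcases Bool.eq_false_or_eq_true (R.dat g (2 * (n + 11))).2 with h | h
  · exact Or.inr ⟨hG, hsupp, hwt, h⟩
  · exact Or.inl ⟨hG, hsupp, hwt, h⟩

theorem admAll_finite (ok z : Bool) : (admAll F ok z n).Finite :=
  (lev_finite ok z _ n false).union (lev_finite ok z _ n true)

theorem admAll_le (ok z : Bool) {b : ℚ} (hb : ∀ J, 10 ≤ J → (val ok z J).1 + (val ok z J).2 ≤ b) :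
    ((admAll F ok z n).ncard : ℚ) ≤ (Nat.card F : ℚ) ^ n * b := by
  refine (Nat.cast_le.2 (Set.ncard_union_le _ _)).trans ?_
  push_cast
  refine (add_le_add (lev_le ok z (n + 10) n false) (lev_le ok z (n + 10) n true)).trans ?_
  rw [← mul_add]
  exact mul_le_mul_of_nonneg_left (hb _ (by omega)) (by positivity)

/-- The set of invariants that occur. -/
def datImage : Set (ℕ → F[X] × Bool) := Set.range R.dat

include R in
theorem card_classes_le_image [Finite Γ] : Nat.card (ConjClasses Γ) ≤ (datImage R).ncard := by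
  have hinj : Function.Injective fun C : ConjClasses Γ => R.dat C.out := fun C D he => by
    rw [← Quotient.out_eq C, ← Quotient.out_eq D]
    exact Quotient.sound (R.isConj_of_dat (Eq.symm he))
  rw [← Set.ncard_univ, ← Set.ncard_image_of_injective _ hinj]
  exact Set.ncard_le_ncard (by rintro _ ⟨C, -, rfl⟩; exact ⟨_, rfl⟩) (Set.finite_range _)

include R in
/-- The bound for the symplectic groups. -/
theorem card_classes_symp_le [Finite Γ] (hc : c = 0) (hι : Fintype.card ι = 2 * n) :
    5 * Nat.card (ConjClasses Γ) ≤ 76 * Nat.card F ^ n := by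
  have hsub : datImage R ⊆ admAll F false false n := by
    rintro _ ⟨g, rfl⟩
    exact dat_mem R (fun h => absurd (hc.symm.trans h) zero_ne_one) hι g
  have h1 := (card_classes_le_image R).trans (Set.ncard_le_ncard hsub (admAll_finite _ _))
  have h2 := admAll_le (F := F) (n := n) false false fun J hJ => (val_le J hJ).1
  have h3 : ((Nat.card (ConjClasses Γ)) : ℚ) ≤ (Nat.card F : ℚ) ^ n * (76 / 5) := (Nat.cast_le.2 h1).trans h2
  exact_mod_cast (show (5 : ℚ) * Nat.card (ConjClasses Γ) ≤ 76 * (Nat.card F : ℚ) ^ n by linarith)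

/-- A bit may be set at this place. -/
def CanFlip (f : ℕ → F[X] × Bool) (j : ℕ) : Prop :=
  ((f (2 * j + 1)).1.IsRoot 1 ∨ (f (2 * j + 2)).2 = true) ∧ (f (2 * j)).2 = false

/-- Flip the first such bit. -/
noncomputable def flipBit (f : ℕ → F[X] × Bool) : ℕ → F[X] × Bool :=
  if h : ∃ j, CanFlip f j then
    Function.update f (2 * Nat.find h + 1) ((f (2 * Nat.find h + 1)).1, !(f (2 * Nat.find h + 1)).2)
  else f

theorem flipBit_spec {f : ℕ → F[X] × Bool} (h : ∃ j, CanFlip f j) : ∃ j, CanFlip f j ∧
    flipBit f (2 * j + 1) = ((f (2 * j + 1)).1, !(f (2 * j + 1)).2) ∧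
    (∀ w, w ≠ 2 * j + 1 → flipBit f w = f w) ∧ ∀ i, CanFlip (flipBit f) i ↔ CanFlip f i := by
  have e : flipBit f = Function.update f (2 * Nat.find h + 1)
      ((f (2 * Nat.find h + 1)).1, !(f (2 * Nat.find h + 1)).2) := dif_pos h
  refine ⟨Nat.find h, Nat.find_spec h, by rw [e, Function.update_self],
    fun w hw => by rw [e, Function.update_of_ne hw], fun i => ?_⟩
  rw [e, CanFlip, CanFlip, Function.update_of_ne (by omega : 2 * i + 2 ≠ 2 * Nat.find h + 1),
    Function.update_of_ne (by omega : 2 * i ≠ 2 * Nat.find h + 1)]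
  by_cases hi : i = Nat.find h
  · subst hi; rw [Function.update_self]
  · rw [Function.update_of_ne (by omega : 2 * i + 1 ≠ 2 * Nat.find h + 1)]

theorem flipBit_flipBit {f : ℕ → F[X] × Bool} (h : ∃ j, CanFlip f j) : flipBit (flipBit f) = f := by
  have e : flipBit f = Function.update f (2 * Nat.find h + 1)
      ((f (2 * Nat.find h + 1)).1, !(f (2 * Nat.find h + 1)).2) := dif_pos h
  obtain ⟨j, -, -, -, hiff⟩ := flipBit_spec h
  have h' : ∃ j, CanFlip (flipBit f) j := h.imp fun i hi => (hiff i).2 hi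
  have hf : Nat.find h' = Nat.find h := Nat.find_congr' (by intro i; exact hiff i)
  conv_lhs => rw [flipBit, dif_pos h', hf]
  rw [e, Function.update_idem, Function.update_self]
  funext w
  by_cases hw : w = 2 * Nat.find h + 1
  · subst hw; simp
  · rw [Function.update_of_ne hw]

theorem flipBit_mem {f : ℕ → F[X] × Bool} (hf : f ∈ admAll F true false n) (h : ∃ j, CanFlip f j) :
    flipBit f ∈ admAll F true false n := by
  obtain ⟨j, hj, e1, e2, -⟩ := flipBit_spec h
  have key : ∀ s, f ∈ Lev true false (n + 11) n s → flipBit f ∈ Lev true false (n + 11) n s := by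
    rintro s ⟨hG, hsupp, hwt, hs⟩
    have efst : ∀ w, (flipBit f w).1 = (f w).1 := fun w => by
      by_cases hw : w = 2 * j + 1
      · subst hw; rw [e1]
      · rw [e2 w hw]
    have eev : ∀ i, flipBit f (2 * i) = f (2 * i) := fun i => e2 _ (by omega)
    have eev' : ∀ i, flipBit f (2 * i + 2) = f (2 * i + 2) := fun i => e2 _ (by omega)
    refine ⟨⟨(eev 0).trans hG.zero, fun w => efst w ▸ hG.rec_ w, fun i hi => ?_, fun i hi => ?_, fun i => ?_,
      fun i hi => ?_, fun hz => absurd hz Bool.false_ne_true⟩, fun w hw => ?_, ?_, by rw [eev]; exact hs⟩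
    · rw [eev'] at hi ⊢; exact hG.evenE i hi
    · rw [eev'] at hi ⊢; exact hG.oddE i hi
    · rw [efst]; exact hG.oddD i
    · rw [efst, eev', eev]
      by_cases hij : i = j
      · subst hij; exact ⟨Or.inl rfl, hj.1, hj.2⟩
      · rw [e2 _ (by omega)] at hi; exact hG.bit i hi
    · rw [e2 w ?_]; · exact hsupp w hw
      intro hw'
      rcases hj.1 with hr | hr
      · rw [hsupp _ (by omega)] at hr; simp at hr
      · rw [hsupp _ (by omega)] at hr; exact Bool.false_ne_true hr
    · simp only [efst]; exact hwt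
  exact hf.imp (key false) (key true)

theorem noFlip_mem {f : ℕ → F[X] × Bool} (hf : f ∈ admAll F true false n) (h : ¬ ∃ j, CanFlip f j) :
    f ∈ admAll F true true n := by
  have key : ∀ s, f ∈ Lev true false (n + 11) n s → f ∈ Lev true true (n + 11) n s := by
    rintro s ⟨hG, hsupp, hwt, hs⟩
    have hev : ∀ i, (f (2 * i)).2 = false := fun i => by
      induction i with
      | zero => rw [show 2 * 0 = 0 from rfl, hG.zero]
      | succ i ih =>
        by_contra hc
        exact h ⟨i, Or.inr (Bool.eq_true_of_not_eq_false hc), ih⟩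
    refine ⟨{ hG with nomark := fun _ w => ?_ }, hsupp, hwt, hs⟩
    rcases Nat.even_or_odd' w with ⟨k, rfl | rfl⟩
    · exact hev k
    · by_contra hc
      obtain ⟨-, h1, h2⟩ := hG.bit k (by simpa using hc)
      exact h ⟨k, h1, h2⟩
  exact hf.imp (key false) (key true)

include R in
/-- The bound for the orthogonal groups. -/
theorem card_classes_orth_le [Finite Γ] (hc : c = 1) (hι : Fintype.card ι = 2 * n) :
    Nat.card (ConjClasses Γ) ≤ 15 * Nat.card F ^ n := by
  set A := admAll F true false n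
  set Z := {f ∈ A | ¬ ∃ j, CanFlip f j}
  set I := datImage R
  have hAf : A.Finite := admAll_finite _ _
  have hIA : I ⊆ A := by rintro _ ⟨g, rfl⟩; exact dat_mem R (fun _ => rfl) hι g
  have hIf : I.Finite := hAf.subset hIA
  have hdisj : ∀ f ∈ I \ Z, flipBit f ∈ (A \ Z) \ I := fun f hf => by
    have hcan : ∃ j, CanFlip f j := by
      by_contra h; exact hf.2 ⟨hIA hf.1, h⟩
    obtain ⟨j, hj, e1, e2, hiff⟩ := flipBit_spec hcan
    refine ⟨⟨flipBit_mem (hIA hf.1) hcan, fun h => h.2 (hcan.imp fun i hi => (hiff i).2 hi)⟩, ?_⟩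
    obtain ⟨g, rfl⟩ := hf.1
    rintro ⟨g', hg'⟩
    have key : ∀ w, w ≠ 2 * j + 1 → R.dat g' w = R.dat g w := fun w hw => by rw [hg']; exact e2 w hw
    have hj' := congrFun hg' (2 * j + 1)
    rw [e1, R.dat_odd, R.dat_odd, Prod.mk.injEq] at hj'
    refine R.false_of_flip hc (g := g) (g' := g') (funext fun w => ?_) (fun i => ?_) ⟨j, ?_, fun i hi => ?_⟩
    · rcases Nat.eq_zero_or_pos w with rfl | hw
      · have key0 : ∀ g, R.tup g 0 = 1 := fun g =>
          SLComm.tupOf_eq_one fun x hx => ((R.prs_spec g).1 x hx).2.2.1.ne'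
        rw [key0, key0]
      by_cases hwj : w = 2 * j + 1
      · subst hwj; exact hj'.1
      · have := congrArg Prod.fst (key w hwj)
        unfold Rep.dat at this
        rwa [if_neg hw.ne', if_neg hw.ne', apply_ite Prod.fst, apply_ite Prod.fst, ite_self, ite_self] at this
    · have := congrArg Prod.snd (key (2 * i + 2) (by omega))
      rw [R.dat_even, R.dat_even] at this
      simpa using this
    · rw [hj'.2]
      cases bitsOf (R.unip g) j <;> simp
    · have := congrArg Prod.snd (key (2 * i + 1) (by omega))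
      rwa [R.dat_odd, R.dat_odd] at this
  have hinj : Set.InjOn flipBit (I \ Z) := fun f hf f' hf' he => by
    have hcan : ∀ {f}, f ∈ I \ Z → ∃ j, CanFlip f j := fun {f} hf => by
      by_contra h; exact hf.2 ⟨hIA hf.1, h⟩
    rw [← flipBit_flipBit (hcan hf), ← flipBit_flipBit (hcan hf'), he]
  have hZA : Z ⊆ A := fun f hf => hf.1
  have hZf : Z.Finite := hAf.subset hZA
  have h1 : (I \ Z).ncard ≤ ((A \ Z) \ I).ncard :=
    Set.ncard_le_ncard_of_injOn flipBit hdisj hinj (hAf.sdiff.sdiff)
  have h2 : ((A \ Z) \ I).ncard + (I \ Z).ncard ≤ (A \ Z).ncard := by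
    rw [← Set.ncard_union_eq (Set.disjoint_left.2 fun f hf hf' => hf.2 hf'.1) hAf.sdiff.sdiff (hIf.sdiff)]
    exact Set.ncard_le_ncard (Set.union_subset Set.sdiff_subset fun f hf => ⟨hIA hf.1, hf.2⟩) hAf.sdiff
  have h3 : I.ncard ≤ (I \ Z).ncard + Z.ncard := Set.ncard_le_ncard_sdiff_add_ncard I Z hZf
  have h4 : (A \ Z).ncard + Z.ncard = A.ncard := Set.ncard_sdiff_add_ncard_of_subset hZA hAf
  have h5 : Z.ncard ≤ (admAll F true true n).ncard :=
    Set.ncard_le_ncard (fun f hf => noFlip_mem hf.1 hf.2) (admAll_finite _ _)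
  have hk := (card_classes_le_image R)
  have hmain : 2 * Nat.card (ConjClasses Γ) ≤ A.ncard + (admAll F true true n).ncard := by
    change Nat.card (ConjClasses Γ) ≤ I.ncard at hk
    omega
  have b1 := admAll_le (F := F) (n := n) true false fun J hJ => (val_le J hJ).2.1
  have hz : ∀ J, val true true J = val false true J := fun J => by
    induction J with
    | zero => simp [val]
    | succ J ih => simp only [val, ih]
  have b2 := admAll_le (F := F) (n := n) true true fun J hJ => by rw [hz]; exact (val_le J hJ).2.2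
  have h6 : (2 : ℚ) * Nat.card (ConjClasses Γ) ≤ A.ncard + (admAll F true true n).ncard := by exact_mod_cast hmain
  exact_mod_cast (show (Nat.card (ConjClasses Γ) : ℚ) ≤ 15 * (Nat.card F : ℚ) ^ n by
    have : (0 : ℚ) ≤ (Nat.card F : ℚ) ^ n := by positivity
    linarith)

end Cfsg.Agent.CharTwoClass
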